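import Cfsg.Agent.H68.JM.Vec_m3
import Cfsg.Agent.H858.Loc7
import Cfsg.Agent.H860.JM.Defs
import Cfsg.Agent.S5567
import Cfsg.Agent.S5568
import Cfsg.Agent.H821.J4MaxB
import Cfsg.Agent.H337.JankoOfIso
import Cfsg.Agent.H865.RhoEleven
import Cfsg.Agent.S5629
import Cfsg.Agent.H858.CentS
import Cfsg.Agent.H857.T10Main
import Cfsg.Agent.H857.T10Data_mg
import Cfsg.Agent.H857.Orbits
import Cfsg.Agent.J4Type.DuadCent
import Cfsg.Agent.H858.VK
import Cfsg.Agent.FastGrp
import Cfsg.Agent.Prune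
set_option linter.all false

-- part: H68/JM/F5
section
set_option linter.all false
open scoped Cfsg.Agent.FastGrp

-- part: H68/JM/VecChk
section
/-!
# Pairs of conjugates of `2^11` in `J4`: the kernel computation

For the 19 nontrivial double cosets of `2^11 : M24` the elements of `2^11` that fix a vector.
-/

set_option autoImplicit false

open Cfsg

namespace Cfsg.Agent.H68.JM

open Cfsg.Agent.Lib Cfsg.Agent.Lib.F2MatGroup
open Cfsg.Agent.J4.Rep112 Cfsg.Agent.J4.LowerData Cfsg.Agent.J4.Lower Cfsg.Agent.J4.Beta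
open Cfsg.Agent.J4.Upper

/-- the vector fixed by `2^11 : M24` -/
def u0 : ℕ := 5192296858534827628530496329220095

/-- vectors of the second layer -/
def wv (i : ℕ) : ℕ := [0x0,
  0xf0f00f0ff0f03f1c2e0e3e40a7bc,
  0xcccccccc3334dcdb32cdba36ec84,
  0x0,
  0xa55a5aa5a55d7a497a5b54d5196b,
  0x0,
  0x3c3cc3c33c3b1c38ecc3858e50d8,
  0xff0f00ff00c30ffcef02278f79c,
  0x3cc33cc33cc4ec270cc2798e30e6,
  0x33cccc33cc34d33b2dcc463174ba,
  0x0,
  0x966969966996596db796eee3f20f,
  0x96696996699656924869112401ef,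
  0x666699996666699189992d5b2d8d,
  0x0,
  0x0,
  0x0,
  0x0,
  0xcc33cc33cc372cc72d33a6094744,
  0x0].getD i 0

/-- the elements of `2^11` that fix the vectors (sets coded by their bits) -/
def Am (i : ℕ) : ℕ := [0xffffffffffffffffffffffffffffffffffffffffffffffffffffffffffffffffffffffffffffffffffffffffffffffffffffffffffffffffffffffffffffffffffffffffffffffffffffffffffffffffffffffffffffffffffffffffffffffffffffffffffffffffffffffffffffffffffffffffffffffffffffffffffffffffffffffffffffffffffffffffffffffffffffffffffffffffffffffffffffffffffffffffffffffffffffffffffffffffffffffffffffffffffffffffffffffffffffffffffffffffffffffffffffffffffffffffffffffffffffffffffffffffffffffffffffffffffffffffffffffffffffffffffffffffffffffffffffffff,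
  0xc0030c30300c03c00c30c00303c0300c03c0300c0c30c003300c03c0c0030c300c30c00303c0300cc0030c30300c03c0300c03c0c0030c3003c0300c0c30c0030c30c00303c0300cc0030c30300c03c0300c03c0c0030c3003c0300c0c30c003c0030c30300c03c00c30c00303c0300c03c0300c0c30c003300c03c0c0030c300c30c00303c0300cc0030c30300c03c0300c03c0c0030c3003c0300c0c30c003c0030c30300c03c00c30c00303c0300c03c0300c0c30c003300c03c0c0030c30c0030c30300c03c00c30c00303c0300c03c0300c0c30c003300c03c0c0030c300c30c00303c0300cc0030c30300c03c0300c03c0c0030c3003c0300c0c30c003,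
  0x20000000000000000000000000000000000000010000000000000000000000000000000001000000000000000000000000200000000000000000000000000000000000000000000000020000000000000000000000000000000000000000100000000000000000000000001000000000000000000000020000000000000000000000000001000000000000000000000000200000000000000000000000000000200000000000000000000000000000000000000100000000000000000000000000000000000000000000001000000000000000000000020000000000000000000000000000000000000200000000000000000000000000000000000000001,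
  0x1,
  0x1000000000000000000000000000000000000000000000000000000000000000000000000000000000000000000000000000000000000000000000000000000000000000000000000000000000000000000000000000000000000000000000000000000000000000000000000000000000000000000000000001,
  0x1,
  0x40000000000000000100000000000000040000000000000010000000000000000000000000000000000000000000000000000000000000000000000000000000000000000008000000000020000000000000008000000000000000000002000000000000000000000000000000000000000000000000000000000000000000000000000000000000000000000000000000000000000000000000000000000008000000000000000000200000000000000080000000000002000000000000000000000000000000000000000000000000000000000000000000000000000000000000000000004000000001000000000000000400000000000000000000001,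
  0x84841212484821218484121248482121212148481212848421214848121284844848212184841212484821218484121212128484212148481212848421214848212148481212848421214848121284848484121248482121848412124848212112128484212148481212848421214848484821218484121248482121848412124848212184841212484821218484121212128484212148481212848421214848848412124848212184841212484821212121484812128484212148481212848412128484212148481212848421214848484821218484121248482121848412122121484812128484212148481212848484841212484821218484121248482121,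
  0x40010410000000000820800200000000000000000820800200000000400104100820800200000000400104100000000000000000400104100000000008208002000000000280200800000000100401401004014000000000028020080000000000000000100401400000000002802008028020080000000010040140000000000000000001401004000000002008028020080280000000000140100400000000000000002008028000000000014010040140100400000000200802800000000080020820000000000410400100000000000000000410400100000000800208200410400100000000800208200000000000000000800208200000000004104001,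
  0x1000000000000000000000000040000000000000000000000000000000000000000400000000000000000000000000000000000000000100000000000000080000000000000000000002000000000000000000000000000000000000000000000000000000200000000000000000000000000000000000008000000000000000008000000000000000000000200000000000000000000000000000000000000000000200000000000000000000000000000000000008000000000000000100000000000000000000000004000000000000000000000000000000000000000000000000004000000000000000000000000000000000000000001,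
  0x1,
  0x4020204000000000108080100000000000000004020204000000000108080108010108000000000204040200000000000000000080101080000000002040402020404020000000008010108000000000000000020404020000000008010108010808010000000004020204000000000000000000108080100000000040202040108080100000000040202040000000000000000108080100000000040202040204040200000000080101080000000000000000002040402000000000801010808010108000000000204040200000000000000008010108000000000204040204020204000000000108080100000000000000000040202040000000001080801,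
  0x10000000000000000800000000000000000000000000000000000000000000000000000000000000000000000000000000000000000100000000008000000000000000200000000000000000000400000000000000000000000000000000000000000000000000000000000000000000020000000000000040000000000000000000000000004000000002000000000000000000000000000000000000000000000000000000000000000000000000040000000000000000002000000000000000800000000000010000000000000000000000000000000000000000000000000000000000000000000000000000000000000800000000000000000000001,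
  0x800000000000000000000000000000000000000000000000000000000000000000000000000000000000000000000000000000000000000000000000000000000000000000000000000000000000000000000000000000000000000000000000000000000000000000000000000000000000000000000000000000000000000000000000000000000000000000000000000000000000000000000000000000000000000000000000000000000000000000000000000000000000000000000000000000000000000000000000000000000000000000000000000000000000000000000000000000000000000000000000000000000000000000001,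
  0x1,
  0x1,
  0x1,
  0x1,
  0x40000000000000000000000000000000000000000000000000000000000000000000000000001,
  0x1].getD i 0

/-- the intersections -/
def Jl (i : ℕ) : List ℕ := [[], [0, 165, 873, 972, 1394, 1495, 1563, 1726], [0], [0], [0], [0], [0], [0, 36, 94, 122, 529, 565, 591, 619], [0, 1563], [0], [0], [0, 765], [0], [0], [0], [0], [0], [0], [0], [0]].getD i []

/-- the word of the double coset representative number `i` in the environment of `slpQ` -/
def wd (i : ℕ) : List ℕ := (rw20 i).map (13 + ·)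

/-- the bit number `v` of `m` -/
def bit (m v : ℕ) : Bool := Nat.beq (Nat.land 1 (Nat.shiftRight m v)) 1

/-- the check at an element fixing the vector -/
def okf (A : ℕ) (J : List ℕ) (ui wi : ℕ) (L : List ℕ) (v : ℕ) : Bool :=
  cond (bit A v) (cond (J.any (Nat.beq v)) true
    (F2Mat.force (vbeta L v wi) fun w' => cond (Nat.beq w' wi) false
      (cond (Nat.beq w' (Nat.xor wi ui)) false true))) false

/-- the check of the properties of the vectors -/
def chk0 (L : List ℕ) : Bool :=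
  Nat.beq (F2Mat.vmul 112 u0 (get (F2Mat.one 112) L 13)) u0 &&
  (Nat.beq (F2Mat.vmul 112 u0 (get (F2Mat.one 112) L 14)) u0 &&
  ((L.take 11).all (fun q => Nat.beq (F2Mat.vmul 112 u0 q) u0) &&
  (List.range 20).all fun i => (L.take 11).all fun q =>
    Nat.beq (F2Mat.vmul 112 (wv i) q) (wv i) ||
    Nat.beq (F2Mat.vmul 112 (wv i) q) (Nat.xor (wv i) u0)))

theorem check0 : run 112 slpQ codes chk0 = true := by decide +kernel

/-- the row number `i` of a packed matrix -/
private def rowP (U i : ℕ) : ℕ := Nat.mod (Nat.shiftRight U (Nat.mul 112 i)) (Nat.pow 2 112)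

private theorem testBit_rowP (U i : ℕ) {l : ℕ} (hl : l < 112) : (rowP U i).testBit l = U.testBit (112 * i + l) := by
  show ((U >>> (112 * i)) % 2 ^ 112).testBit l = _
  rw [Nat.testBit_mod_two_pow, Nat.testBit_shiftRight, decide_eq_true hl, Bool.true_and]

private theorem rowP_lt (U i : ℕ) : rowP U i < 2 ^ 112 := Nat.mod_lt _ (Nat.two_pow_pos 112)

private theorem rowP_ext {U i v : ℕ} (hv : v < 2 ^ 112) (h : ∀ j < 112, U.testBit (112 * i + j) = v.testBit j) :
    rowP U i = v :=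
  F2Mat.toVec_inj (rowP_lt U i) hv (funext fun j => congrArg F2Mat.bz ((testBit_rowP U i j.2).trans (h j j.2)))

private theorem rowP_mul (U q : ℕ) {i : ℕ} (hi : i < 112) : rowP (F2Mat.mul 112 U q) i = F2Mat.vmul 112 (rowP U i) q :=
  rowP_ext (F2Mat.vmul_lt _ _) fun j hj => F2Mat.bz_inj (by
    rw [F2Mat.mul_eq, F2Mat.vmul_eq, F2Mat.bz_testBit_mulAux U q 112 hi hj, F2Mat.bz_testBit_vmulAux _ q 112 hj]
    exact Finset.sum_congr rfl fun l hl => by rw [testBit_rowP U i (Finset.mem_range.1 hl)])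

/-- the search on all rows at once -/
private def treeP (ok : ℕ → ℕ → Bool) (L : List ℕ) : ℕ → ℕ → ℕ → Bool :=
  List.rec (motive := fun _ => ℕ → ℕ → ℕ → Bool)
   (fun U _ v => ok U v)
   (fun q _ ih U b v => F2Mat.force (F2Mat.mul 112 U q) fun U' =>
     F2Mat.force (Nat.mul 2 b) fun b2 => F2Mat.force (Nat.add v b) fun vb =>
     cond (ih U b2 v) (ih U' b2 vb) false) L

private theorem treeP_cons (ok : ℕ → ℕ → Bool) (q : ℕ) (L : List ℕ) (U b v : ℕ) :
    treeP ok (q :: L) U b v = (treeP ok L U (2 * b) v && treeP ok L (F2Mat.mul 112 U q) (2 * b) (v + b)) := by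
  change (F2Mat.force (F2Mat.mul 112 U q) fun U' =>
     F2Mat.force (Nat.mul 2 b) fun b2 => F2Mat.force (Nat.add v b) fun vb =>
     cond (treeP ok L U b2 v) (treeP ok L U' b2 vb) false) = _
  rw [F2Mat.force_eq, F2Mat.force_eq, F2Mat.force_eq]
  show cond (treeP ok L U (2 * b) v) (treeP ok L (F2Mat.mul 112 U q) (2 * b) (v + b)) false = _
  cases treeP ok L U (2 * b) v <;> rfl

private theorem treeP_sound {ok : ℕ → ℕ → Bool} {L : List ℕ} {U b v : ℕ} (ht : treeP ok L U b v = true) (w : ℕ)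
    (hw : w < 2 ^ L.length) : ∃ U', ok U' (v + b * w) = true ∧ ∀ i < 112, rowP U' i = vbeta L w (rowP U i) := by
  induction L generalizing U b v w with
  | nil =>
    obtain rfl : w = 0 := Nat.lt_one_iff.1 hw
    exact ⟨U, ht, fun _ _ => rfl⟩
  | cons A L ih =>
    rw [treeP_cons, Bool.and_eq_true] at ht
    rw [List.length_cons, pow_succ] at hw
    have hw2 : w / 2 < 2 ^ L.length := by omega
    by_cases hb : w % 2 = 1
    · obtain ⟨U', h3, h5⟩ := ih ht.2 (w / 2) hw2
      have h4 : v + b + 2 * b * (w / 2) = v + b * w := by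
        have : w = 2 * (w / 2) + 1 := by omega
        calc v + b + 2 * b * (w / 2) = v + b * (2 * (w / 2) + 1) := by ring
          _ = v + b * w := by rw [← this]
      exact ⟨U', h4 ▸ h3, fun i hi => by rw [h5 i hi, vbeta_cons, if_pos hb, rowP_mul U A hi]⟩
    · obtain ⟨U', h3, h5⟩ := ih ht.1 (w / 2) hw2
      have h4 : v + 2 * b * (w / 2) = v + b * w := by
        have : w = 2 * (w / 2) := by omega
        calc v + 2 * b * (w / 2) = v + b * (2 * (w / 2)) := by ring
          _ = v + b * w := by rw [← this]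
      exact ⟨U', h4 ▸ h3, fun i hi => by rw [h5 i hi, vbeta_cons, if_neg hb]⟩

/-- the rows of the start matrix -/
private def rowsP (L : List ℕ) (i : ℕ) : ℕ :=
  cond (Nat.ble 20 i) (vword L (wd (Nat.sub i 20)) (wv (Nat.sub i 20))) (vword L (wd (cond (Nat.beq i 0) 3 i)) u0)

/-- the check at a leaf, for the representative number `i` -/
private def leafP (U0 U v i : ℕ) : Bool :=
  cond (Nat.beq (rowP U i) (rowP U0 i))
    (cond (bit (Am i) v) (cond ((Jl i).any (Nat.beq v)) true
      (F2Mat.force (rowP U (Nat.add i 20)) fun w' => cond (Nat.beq w' (rowP U0 (Nat.add i 20))) false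
        (cond (Nat.beq w' (Nat.xor (rowP U0 (Nat.add i 20)) (rowP U0 i))) false true))) false) true

/-- `List.all` for the kernel -/
private noncomputable def allP (f : ℕ → Bool) (l : List ℕ) : Bool := List.rec true (fun a _ ih => cond (f a) ih false) l

private theorem allP_mem {f : ℕ → Bool} {l : List ℕ} (h : allP f l = true) {a : ℕ} (ha : a ∈ l) : f a = true := by
  induction l with
  | nil => exact absurd ha List.not_mem_nil
  | cons b l ih =>
    have h1 : cond (f b) (allP f l) false = true := h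
    rcases hb : f b with _ | _
    · rw [hb] at h1; exact absurd h1 Bool.false_ne_true
    · rw [hb] at h1
      exact (List.mem_cons.1 ha).elim (fun e => e ▸ hb) (ih h1)

/-- the check for all representatives -/
private noncomputable def chkP (L : List ℕ) : Bool :=
  F2Mat.force (F2Mat.blk 112 (rowsP L) 40) fun U0 => treeP (fun U v =>
    allP (leafP U0 U v) [1, 2, 3, 4, 5, 6, 7, 8, 9, 10, 11, 12, 13, 14, 15, 16, 17, 18, 19]) (L.take 11) U0 1 0

private theorem checkP : run 112 slpQ codes chkP = true := by decide +kernel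

end Cfsg.Agent.H68.JM
end

-- part: H68/JM/Inter
section
/-!
# Pairs of conjugates of `2^11` in `J4`: the intersections, and the normalizer of `2^11`
-/

set_option autoImplicit false

open Cfsg

namespace Cfsg.Agent.H68.JM

open Cfsg.Agent.Lib Cfsg.Agent.Lib.F2MatGroup
open Cfsg.Agent.J4.Rep112 Cfsg.Agent.J4.LowerData Cfsg.Agent.J4.Lower Cfsg.Agent.J4.Beta
open Cfsg.Agent.J4.Upper Cfsg.Agent.J4.Pres Cfsg.Agent.J4.Invol Cfsg.Agent.J4.M24Hom
open Cfsg.Agent.H858 Cfsg.Agent.H858.VK Cfsg.Agent.H858.Data Cfsg.Agent.H860.JM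

/-! ### The environment -/

theorem env {k : List ℕ → Bool} (h : run 112 slpQ codes k = true) :
    ∃ L, List.Forall₂ (Codes 112) ((runG slpQ gens).map rho) L ∧ k L = true := by
  obtain ⟨L, h1, h2⟩ := run_sound codes_gens h
  refine ⟨L, ?_, h2⟩
  rw [runG_map] at h1
  exact h1

theorem env_lJ {L : List ℕ} (h : List.Forall₂ (Codes 112) ((runG slpQ gens).map rho) L) :
    List.Forall₂ (Codes 112) (lJ.map rho) (L.take 11) := by
  have h1 := List.forall₂_take 11 h
  unfold lJ
  rwa [List.map_take]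

/-- the representatives -/
noncomputable def rr (i : ℕ) : Cfsg.Spor.J4 := evalW phi t (rw20 i)

theorem getG13 : getG (runG slpQ gens) 13 = x := rfl
theorem getG14 : getG (runG slpQ gens) 14 = y := rfl
theorem getG15 : getG (runG slpQ gens) 15 = y⁻¹ := rfl
theorem getG16 : getG (runG slpQ gens) 16 = t := rfl

theorem evalW_eq (w : List ℕ) (h : ∀ a ∈ w, a < 4) :
    evalW phi t w = evG (runG slpQ gens) (w.map (13 + ·)) := by
  induction w with
  | nil => rfl
  | cons a w ih =>
    rw [List.map_cons, evG_cons, ← ih (fun b hb => h b (List.mem_cons_of_mem _ hb))]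
    have ha := h a List.mem_cons_self
    show (if a = 3 then t else phi (Cfsg.Agent.J4.Nodes.letG a)) * evalW phi t w = _
    congr 1
    have h1 : a = 0 ∨ a = 1 ∨ a = 2 ∨ a = 3 := by omega
    rcases h1 with rfl | rfl | rfl | rfl
    · exact phi_X.trans getG13.symm
    · exact phi_Y.trans getG14.symm
    · have h2 : phi (Cfsg.Agent.J4.Nodes.letG 2) = y⁻¹ := by
        have : phi (Cfsg.Agent.J4.Nodes.letG 2) = phi YM⁻¹ := rfl
        rw [this, map_inv, phi_Y]
      exact h2.trans getG15.symm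
    · exact getG16.symm

theorem rw20_lt : ∀ i < 20, ∀ a ∈ rw20 i, a < 4 := by decide +kernel

theorem rr_eq {i : ℕ} (hi : i < 20) : rr i = evG (runG slpQ gens) (wd i) :=
  evalW_eq _ (rw20_lt i hi)

/-! ### The fixed vector -/

/-- the stabiliser of a vector -/
noncomputable def Fx (w : Row) : Subgroup Cfsg.Spor.J4 where
  carrier := {g | ac w g = w}
  one_mem' := ac_one w
  mul_mem' := by
    intro a b ha hb
    have ha' : ac w a = w := ha
    have hb' : ac w b = w := hb
    show ac w (a * b) = w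
    rw [ac_mul, ha', hb']
  inv_mem' := by
    intro a ha
    exact ac_inv ha

theorem mem_Fx {w : Row} {g : Cfsg.Spor.J4} : g ∈ Fx w ↔ ac w g = w := Iff.rfl

theorem row_add_self (v : Row) : v + v = 0 := CharTwo.add_self_eq_zero v

/-- the elements that fix `u` and map `w` to `w` or `w + u` -/
noncomputable def Fy (u w : Row) : Subgroup Cfsg.Spor.J4 where
  carrier := {g | ac u g = u ∧ (ac w g = w ∨ ac w g = w + u)}
  one_mem' := ⟨ac_one u, Or.inl (ac_one w)⟩
  mul_mem' := by
    rintro a b ⟨ha, ha'⟩ ⟨hb, hb'⟩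
    refine ⟨by rw [ac_mul, ha, hb], ?_⟩
    rcases ha' with ha' | ha' <;> rcases hb' with hb' | hb'
    · exact Or.inl (by rw [ac_mul, ha', hb'])
    · exact Or.inr (by rw [ac_mul, ha', hb'])
    · exact Or.inr (by rw [ac_mul, ha', ac_add, hb', hb])
    · exact Or.inl (by rw [ac_mul, ha', ac_add, hb', hb, add_assoc, row_add_self, add_zero])
  inv_mem' := by
    rintro a ⟨ha, ha'⟩
    refine ⟨ac_inv ha, ?_⟩
    rcases ha' with ha' | ha'
    · exact Or.inl (ac_inv ha')
    · right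
      have h1 : ac (w + u) a⁻¹ = w := by
        rw [← ha', ← ac_mul, mul_inv_cancel, ac_one]
      rw [ac_add, ac_inv ha] at h1
      calc ac w a⁻¹ = ac w a⁻¹ + (u + u) := by rw [row_add_self, add_zero]
        _ = w + u := by rw [← add_assoc, h1]

theorem tv_xor (a b : ℕ) : tv (Nat.xor a b) = tv a + tv b := by
  funext j
  show F2Mat.bz ((a ^^^ b).testBit j) = F2Mat.bz (a.testBit j) + F2Mat.bz (b.testBit j)
  rw [Nat.testBit_xor, F2Mat.bz_xor]

theorem beta_lJ_mem (S : Subgroup Cfsg.Spor.J4) {L : List ℕ} {P : ℕ → Bool}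
    (h : List.Forall₂ (Codes 112) (lJ.map rho) L) (hP : L.all P = true)
    (hS : ∀ g A, Codes 112 (rho g) A → P A = true → g ∈ S) (v : ℕ) : V v ∈ S := by
  unfold V
  apply beta_mem
  rw [List.forall₂_map_left_iff] at h
  intro g hg
  obtain ⟨n, hn, rfl⟩ := List.getElem_of_mem hg
  have h1 := (List.forall₂_iff_get.1 h)
  have hn' : n < L.length := by rw [← h1.1]; exact hn
  have h2 := h1.2 n hn hn'
  rw [List.all_eq_true] at hP
  exact hS _ _ h2 (hP _ (List.get_mem L ⟨n, hn'⟩))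

theorem props0 : (x ∈ Fx (tv u0) ∧ y ∈ Fx (tv u0)) ∧ (∀ v, V v ∈ Fx (tv u0)) ∧
    ∀ i < 20, ∀ v, V v ∈ Fy (tv u0) (tv (wv i)) := by
  obtain ⟨L, h, hk⟩ := env check0
  unfold chk0 at hk
  rw [Bool.and_eq_true, Bool.and_eq_true, Bool.and_eq_true] at hk
  obtain ⟨k1, k2, k3, k4⟩ := hk
  have h0 := env_lJ h
  refine ⟨⟨?_, ?_⟩, ?_, ?_⟩
  · have h1 := ac_code h u0 13
    rw [Nat.eq_of_beq_eq_true k1] at h1
    exact h1
  · have h1 := ac_code h u0 14
    rw [Nat.eq_of_beq_eq_true k2] at h1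
    exact h1
  · intro v
    refine beta_lJ_mem _ h0 k3 ?_ v
    intro g A hg hA
    rw [mem_Fx, ac_code' hg, Nat.eq_of_beq_eq_true hA]
  · intro i hi v
    rw [List.all_eq_true] at k4
    have k5 := k4 i (List.mem_range.2 hi)
    have k6 : (List.take 11 L).all (fun q => Nat.beq (F2Mat.vmul 112 u0 q) u0 &&
        (Nat.beq (F2Mat.vmul 112 (wv i) q) (wv i) ||
          Nat.beq (F2Mat.vmul 112 (wv i) q) (Nat.xor (wv i) u0))) = true := by
      rw [List.all_eq_true] at k3 k5 ⊢
      intro q hq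
      rw [k3 q hq, k5 q hq]
      rfl
    refine beta_lJ_mem _ h0 k6 ?_ v
    intro g A hg hA
    rw [Bool.and_eq_true, Bool.or_eq_true] at hA
    refine ⟨?_, ?_⟩
    · rw [ac_code' hg, Nat.eq_of_beq_eq_true hA.1]
    · rcases hA.2 with h1 | h1
      · left; rw [ac_code' hg, Nat.eq_of_beq_eq_true h1]
      · right; rw [ac_code' hg, Nat.eq_of_beq_eq_true h1, tv_xor]

theorem EJ_le_Fx : EJ ≤ Fx (tv u0) := by
  intro e he
  obtain ⟨v, -, rfl⟩ := mem_EJ.1 he
  exact props0.2.1 v

theorem phi_le_Fx : phi.range ≤ Fx (tv u0) := by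
  rw [phi_range, Subgroup.closure_le]
  rintro _ (rfl | rfl)
  · exact props0.1.1
  · exact props0.1.2

theorem B_le_Fx : FixJ4.B ≤ Fx (tv u0) := by
  intro g hg
  obtain ⟨e, he, k, rfl⟩ := mem_B.1 hg
  exact Subgroup.mul_mem _ (EJ_le_Fx he) (phi_le_Fx ⟨k, rfl⟩)

/-! ### The check -/

/-- the image of the fixed vector -/
noncomputable def uu (i : ℕ) : Row := ac (tv u0) (rr i)
/-- the image of the vector of the second layer -/
noncomputable def ww (i : ℕ) : Row := ac (tv (wv i)) (rr i)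

theorem u0_lt : u0 < 2 ^ 112 := by decide +kernel
theorem wv_lt : ∀ i < 20, wv i < 2 ^ 112 := by decide +kernel

theorem main {i : ℕ} (h1 : 1 ≤ i) (h2 : i < 20) {v : ℕ} (hv : v < 2048)
    (hf : ac (uu i) (V v) = uu i) : bit (Am i) v = true ∧
      (v ∈ Jl i ∨ (ac (ww i) (V v) ≠ ww i ∧ ac (ww i) (V v) ≠ ww i + uu i)) := by
  obtain ⟨L, h, hk⟩ := env checkP
  have h0 := env_lJ h
  unfold chkP at hk
  rw [F2Mat.force_eq] at hk
  have hr : ∀ j < 40, rowsP L j < 2 ^ 112 := fun j hj => by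
    unfold rowsP
    cases Nat.ble 20 j
    · exact vword_lt u0_lt
    · exact vword_lt (wv_lt _ (show j - 20 < 20 by omega))
  have hb : ∀ j < 40, rowP (F2Mat.blk 112 (rowsP L) 40) j = rowsP L j := fun j hj =>
    rowP_ext (hr j hj) fun l hl => F2Mat.testBit_blk 40 hr hj hl
  have hl : (L.take 11).length = 11 := by rw [← h0.length_eq, List.length_map, lJ_length]
  obtain ⟨U, k1, k2⟩ := treeP_sound hk v (by rw [hl]; exact hv)
  rw [zero_add, one_mul] at k1
  have k3 := allP_mem k1 (a := i) (by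
    simp only [List.mem_cons, List.not_mem_nil, or_false]
    omega)
  have r1 : rowsP L i = vword L (wd i) u0 := by
    unfold rowsP
    rw [show Nat.ble 20 i = false from Bool.eq_false_iff.2 fun h => absurd (Nat.le_of_ble_eq_true h) (by omega),
      show Nat.beq i 0 = false from Bool.eq_false_iff.2 fun h => absurd (Nat.eq_of_beq_eq_true h) (by omega)]
    rfl
  have r2 : rowsP L (Nat.add i 20) = vword L (wd i) (wv i) := by
    unfold rowsP
    rw [show Nat.ble 20 (Nat.add i 20) = true from Nat.ble_eq_true_of_le (Nat.le_add_left 20 i),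
      show Nat.sub (Nat.add i 20) 20 = i from Nat.add_sub_cancel i 20]
    rfl
  have h20 : Nat.add i 20 < 40 := show i + 20 < 40 by omega
  unfold leafP at k3
  rw [k2 i (by omega), k2 (Nat.add i 20) (by omega), hb i (by omega), hb _ h20, r1, r2] at k3
  have hu : uu i = tv (vword L (wd i) u0) := by
    unfold uu; rw [rr_eq h2, vword_sound h]
  have hw : ww i = tv (vword L (wd i) (wv i)) := by
    unfold ww; rw [rr_eq h2, vword_sound h]
  have hul := vword_lt (L := L) (w := wd i) u0_lt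
  have hwl := vword_lt (L := L) (w := wd i) (wv_lt i h2)
  set ui := vword L (wd i) u0 with hui
  set wi := vword L (wd i) (wv i) with hwi
  rw [hu] at hf
  have h9 : vbeta (L.take 11) v ui = ui :=
    F2Mat.toVec_inj (vbeta_lt hul) hul ((vbeta_sound h0 v ui).symm.trans hf)
  rw [h9, Nat.beq_refl] at k3
  have h3 : okf (Am i) (Jl i) ui wi (L.take 11) v = true := k3
  unfold okf at h3
  rcases hA : bit (Am i) v with _ | _
  · rw [hA] at h3; exact absurd h3 Bool.false_ne_true
  rw [hA] at h3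
  refine ⟨rfl, ?_⟩
  rcases hJ : (Jl i).any (Nat.beq v) with _ | _
  · right
    rw [hJ] at h3
    have h4 : (F2Mat.force (vbeta (L.take 11) v wi) fun w' => cond (Nat.beq w' wi) false
      (cond (Nat.beq w' (Nat.xor wi ui)) false true)) = true := h3
    rw [F2Mat.force_eq] at h4
    have h5 := vbeta_sound h0 v wi
    have hvl := vbeta_lt (L := L.take 11) (b := v) hwl
    have h6 : ac (ww i) (V v) = tv (vbeta (L.take 11) v wi) := by rw [hw]; exact h5
    constructor
    · intro h7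
      rw [h6, hw] at h7
      rw [F2Mat.toVec_inj hvl hwl h7, Nat.beq_refl] at h4
      exact absurd h4 Bool.false_ne_true
    · intro h7
      rw [h6, hw, hu, ← tv_xor] at h7
      have h8 : Nat.xor wi ui < 2 ^ 112 := Nat.xor_lt_two_pow hwl hul
      rw [F2Mat.toVec_inj hvl h8 h7, Nat.beq_refl] at h4
      rcases hb : Nat.beq (Nat.xor wi ui) wi with _ | _
      · rw [hb] at h4; exact absurd h4 Bool.false_ne_true
      · rw [hb] at h4; exact absurd h4 Bool.false_ne_true
  · left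
    rw [List.any_eq_true] at hJ
    obtain ⟨a, ha, h5⟩ := hJ
    rw [Nat.eq_of_beq_eq_true h5]
    exact ha

/-! ### The points -/

/-- the conjugates of `2^11` -/
noncomputable def Pi (i : ℕ) : Subgroup Cfsg.Spor.J4 := cj (rr i)⁻¹ EJ

theorem mem_cj {G : Type*} [Group G] {g x : G} {H : Subgroup G} :
    x ∈ cj g H ↔ g⁻¹ * x * g ∈ H := by
  constructor
  · rintro ⟨y, hy, rfl⟩
    have : g⁻¹ * (MulAut.conj g).toMonoidHom y * g = y := by
      show g⁻¹ * (g * y * g⁻¹) * g = y
      group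
    rw [this]; exact hy
  · intro h
    refine ⟨_, h, ?_⟩
    show g * (g⁻¹ * x * g) * g⁻¹ = x
    group

theorem cj_mul {G : Type*} [Group G] (g h : G) (H : Subgroup G) : cj (g * h) H = cj g (cj h H) := by
  ext x
  rw [mem_cj, mem_cj, mem_cj]
  have : (g * h)⁻¹ * x * (g * h) = h⁻¹ * (g⁻¹ * x * g) * h := by group
  rw [this]

theorem cj_one {G : Type*} [Group G] (H : Subgroup G) : cj 1 H = H := by
  ext x
  rw [mem_cj]; simp

theorem cj_inf {G : Type*} [Group G] (g : G) (H K : Subgroup G) :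
    cj g (H ⊓ K) = cj g H ⊓ cj g K := by
  ext x
  rw [Subgroup.mem_inf, mem_cj, mem_cj, mem_cj, Subgroup.mem_inf]

theorem cj_bot {G : Type*} [Group G] (g : G) : cj g (⊥ : Subgroup G) = ⊥ := Subgroup.map_bot _

theorem cj_normalizer {G : Type*} [Group G] (g : G) (H : Subgroup G) :
    Subgroup.normalizer (cj g H : Set G) = cj g (Subgroup.normalizer (H : Set G)) := by
  ext x
  rw [mem_cj, Subgroup.mem_normalizer_iff, Subgroup.mem_normalizer_iff]
  constructor
  · intro h y
    have h1 := h (g * y * g⁻¹)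
    rw [mem_cj, mem_cj] at h1
    have e1 : g⁻¹ * (g * y * g⁻¹) * g = y := by group
    have e2 : g⁻¹ * (x * (g * y * g⁻¹) * x⁻¹) * g = g⁻¹ * x * g * y * (g⁻¹ * x * g)⁻¹ := by group
    rw [e1, e2] at h1
    exact h1
  · intro h y
    have h1 := h (g⁻¹ * y * g)
    rw [mem_cj, mem_cj]
    have e2 : g⁻¹ * (x * y * x⁻¹) * g = g⁻¹ * x * g * (g⁻¹ * y * g) * (g⁻¹ * x * g)⁻¹ := by group
    rw [e2]
    exact h1

theorem cj_eq_of_mem {G : Type*} [Group G] {g : G} {H : Subgroup G}
    (h : g ∈ Subgroup.normalizer (H : Set G)) : cj g H = H := by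
  ext x
  rw [mem_cj]
  have h1 := (Subgroup.mem_normalizer_iff.1 h) (g⁻¹ * x * g)
  have e1 : g * (g⁻¹ * x * g) * g⁻¹ = x := by group
  rw [e1] at h1
  exact h1

theorem B_norm : FixJ4.B ≤ Subgroup.normalizer (EJ : Set Cfsg.Spor.J4) := by
  intro g hg
  obtain ⟨e, he, k, rfl⟩ := mem_B.1 hg
  exact Subgroup.mul_mem _ (Subgroup.le_normalizer he) (phi_norm ⟨k, rfl⟩)

theorem rr_zero : rr 0 = 1 := rfl

theorem Pi_zero : Pi 0 = EJ := by
  unfold Pi
  rw [rr_zero, inv_one, cj_one]

/-- every element of `J4` is in the coset of some representative -/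
theorem exists_rep (g : Cfsg.Spor.J4) : ∃ i < 20, ∃ m : M24, ∃ b ∈ FixJ4.B,
    g = phi m * (rr i)⁻¹ * b := by
  obtain ⟨i, m, h⟩ := FixJ4.cover (QuotientGroup.mk g)
  refine ⟨i, i.2, m, (phi m * (rr i)⁻¹)⁻¹ * g, ?_, by group⟩
  have h1 : (QuotientGroup.mk g : Cfsg.Spor.J4 ⧸ FixJ4.B) = QuotientGroup.mk (phi m * (rr i)⁻¹) := h
  rw [eq_comm, QuotientGroup.eq] at h1
  exact h1

/-- every pair of points is conjugate to `(EJ, Pi i)` -/
theorem pair (g g' : Cfsg.Spor.J4) : ∃ i < 20, ∃ h : Cfsg.Spor.J4, cj g EJ = cj h EJ ∧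
    cj g' EJ = cj h (Pi i) := by
  obtain ⟨i, hi, m, b, hb, h⟩ := exists_rep (g⁻¹ * g')
  refine ⟨i, hi, g * phi m, ?_, ?_⟩
  · rw [cj_mul, cj_eq_of_mem (phi_norm ⟨m, rfl⟩)]
  · have h1 : g' = g * phi m * (rr i)⁻¹ * b := by
      calc g' = g * (g⁻¹ * g') := by group
        _ = g * phi m * (rr i)⁻¹ * b := by rw [h]; simp only [mul_assoc]
    rw [h1, cj_mul, cj_eq_of_mem (B_norm hb), cj_mul]
    rfl

/-- an element of `Pi i` fixes the vectors -/
theorem inter {i : ℕ} (h1 : 1 ≤ i) (h2 : i < 20) {v : ℕ} (hv : v < 2048) (h : V v ∈ Pi i) :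
    v ∈ Jl i := by
  unfold Pi at h
  rw [mem_cj, inv_inv, mem_EJ] at h
  obtain ⟨e, -, he⟩ := h
  have h3 : rr i * V v = V e * rr i := by rw [← he]; group
  have h4 : ac (uu i) (V v) = uu i := by
    unfold uu
    rw [← ac_mul, h3, ac_mul, props0.2.1 e]
  obtain ⟨-, h5 | h5⟩ := main h1 h2 hv h4
  · exact h5
  · exfalso
    obtain ⟨h6, h7⟩ := h5
    rcases (props0.2.2 i h2 e).2 with h8 | h8
    · apply h6
      unfold ww
      rw [← ac_mul, h3, ac_mul, h8]
    · apply h7
      unfold ww uu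
      rw [← ac_mul, h3, ac_mul, h8, ac_add]

theorem one_notMem_Jl : ∀ i < 20, 1 ∉ Jl i := by decide +kernel

theorem eq_zero_of_Pi {i : ℕ} (hi : i < 20) (h : Pi i = EJ) : i = 0 := by
  by_contra hne
  have h1 : V 1 ∈ Pi i := by rw [h]; exact V_mem 1
  exact one_notMem_Jl i hi (inter (by omega) hi (by norm_num) h1)

/-- **the normalizer of `2^11` in `J4`** -/
theorem normalizer_EJ : Subgroup.normalizer (EJ : Set Cfsg.Spor.J4) = FixJ4.B := by
  apply le_antisymm _ B_norm
  intro g hg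
  obtain ⟨i, hi, m, b, hb, h⟩ := exists_rep g
  have h1 := cj_eq_of_mem hg
  rw [h, mul_assoc, cj_mul, cj_mul, cj_eq_of_mem (B_norm hb)] at h1
  have h2 : Pi i = EJ := by
    have h3 : cj (phi m)⁻¹ (cj (phi m) (Pi i)) = cj (phi m)⁻¹ EJ := by
      unfold Pi; rw [h1]
    rw [← cj_mul, inv_mul_cancel, cj_one,
      cj_eq_of_mem (Subgroup.inv_mem _ (phi_norm ⟨m, rfl⟩))] at h3
    exact h3
  have h3 := eq_zero_of_Pi hi h2
  subst h3
  rw [rr_zero, inv_one, mul_one] at h
  rw [h]
  exact Subgroup.mul_mem _ (range_le ⟨m, rfl⟩) hb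

/-- an element of `EJ` that normalizes `Pi i` fixes the vector -/
theorem norm_fix {i : ℕ} (h1 : 1 ≤ i) (h2 : i < 20) {v : ℕ} (hv : v < 2048)
    (h : V v ∈ Subgroup.normalizer (Pi i : Set Cfsg.Spor.J4)) : bit (Am i) v = true := by
  unfold Pi at h
  rw [cj_normalizer, normalizer_EJ, mem_cj, inv_inv] at h
  set e := rr i * V v * (rr i)⁻¹ with he
  have h3 : rr i * V v = e * rr i := by rw [he]; group
  have h4 : ac (uu i) (V v) = uu i := by
    unfold uu
    rw [← ac_mul, h3, ac_mul, B_le_Fx h]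
  exact (main h1 h2 hv h4).1

end Cfsg.Agent.H68.JM
end

-- part: H68/JM/F5
section
/-!
# Facts F5 and F17 on the 2-local geometry of `J4`

Two conjugates of `2^11` intersect in 1, in a group of order 2 (of class 2A) or in a line;
if `P` and `P'` are disjoint then `|P ∩ N(P')| ≤ 16`.
-/

set_option autoImplicit false

open Cfsg

namespace Cfsg.Agent.H68.JM

open Cfsg.Agent.Lib Cfsg.Agent.Lib.F2MatGroup
open Cfsg.Agent.J4.Rep112 Cfsg.Agent.J4.LowerData Cfsg.Agent.J4.Lower Cfsg.Agent.J4.Beta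
open Cfsg.Agent.J4.Upper Cfsg.Agent.J4.Pres Cfsg.Agent.J4.Invol Cfsg.Agent.J4.M24Hom
open Cfsg.Agent.H858 Cfsg.Agent.H858.VK Cfsg.Agent.H858.Data Cfsg.Agent.H860.JM
open Cfsg.Agent.H858.Pent Cfsg.Agent.J4.Classes

/-! ### The nontrivial intersections -/

/-- the equations `r V(a) = V(b) r` -/
def eqJ (l : List (ℕ × ℕ)) : List (List ℕ × List ℕ) :=
  l.map fun p => (0 :: bw 11 1 p.1, bw 11 1 p.2 ++ [0])

theorem check7 : run 112 (slpQ ++ [wd 7]) codes (eqs 112 (eqJ [(36, 817), (619, 591), (94, 477)])) =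
    true := by decide +kernel

theorem check8 : run 112 (slpQ ++ [wd 8]) codes (eqs 112 (eqJ [(1563, 748)])) = true := by
  decide +kernel

theorem check11 : run 112 (slpQ ++ [wd 11]) codes (eqs 112 (eqJ [(765, 444)])) = true := by
  decide +kernel

theorem of_check {i : ℕ} (hi : i < 20) {l : List (ℕ × ℕ)}
    (h : run 112 (slpQ ++ [wd i]) codes (eqs 112 (eqJ l)) = true) {a b : ℕ} (hl : (a, b) ∈ l) :
    V a ∈ Pi i := by
  obtain ⟨L, h1, h2⟩ := run_sound codes_gens h
  have h3 := eqs_sound h1 h2 (0 :: bw 11 1 a, bw 11 1 b ++ [0]) (List.mem_map.2 ⟨(a, b), hl, rfl⟩)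
  rw [runG_map, evG_map, evG_map] at h3
  have h4 := rho_injective h3
  rw [runG_append] at h4
  have h5 : runG [wd i] (runG slpQ gens) = evG (runG slpQ gens) (wd i) :: runG slpQ gens := rfl
  rw [h5, ← rr_eq hi, evG_append, evG_cons, evG_cons] at h4
  have hg : ∀ k < lJ.length, getG (rr i :: runG slpQ gens) (1 + k) = lJ.getD k 1 := by
    intro k hk
    rw [lJ_length] at hk
    rw [add_comm]
    exact getG_take _ 11 k hk
  have h6 : ∀ v, evG (rr i :: runG slpQ gens) (bw 11 1 v) = V v := by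
    intro v
    have h7 := evG_bw (rr i :: runG slpQ gens) lJ 1 v hg
    rwa [lJ_length] at h7
  have h0 : getG (rr i :: runG slpQ gens) 0 = rr i := rfl
  rw [h6, h6, h0, evG_nil, mul_one] at h4
  unfold Pi
  rw [mem_cj, inv_inv, h4, mul_inv_cancel_right]
  exact V_mem b

theorem inter_le {i : ℕ} (h1 : 1 ≤ i) (h2 : i < 20) {A : List ℕ}
    (hA : ∀ v ∈ Jl i, ∃ u < 8, lin A u = v) : EJ ⊓ Pi i ≤ span A := by
  intro x hx
  obtain ⟨hx1, hx2⟩ := Subgroup.mem_inf.1 hx
  obtain ⟨v, hv, rfl⟩ := mem_EJ.1 hx1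
  obtain ⟨u, -, hu⟩ := hA v (inter h1 h2 hv hx2)
  exact mem_span_of u hu

theorem inter_eq {i : ℕ} (h1 : 1 ≤ i) (h2 : i < 20) {A : List ℕ}
    (hA : ∀ v ∈ Jl i, ∃ u < 8, lin A u = v) (hin : ∀ a ∈ A, V a ∈ Pi i) :
    EJ ⊓ Pi i = span A := by
  apply le_antisymm (inter_le h1 h2 hA)
  exact span_le (fun a ha => Subgroup.mem_inf.2 ⟨V_mem a, hin a ha⟩)

theorem inter_bot {i : ℕ} (h1 : 1 ≤ i) (h2 : i < 20) (hJ : ∀ v ∈ Jl i, v = 0) :
    EJ ⊓ Pi i = ⊥ := by
  rw [eq_bot_iff]
  intro x hx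
  obtain ⟨hx1, hx2⟩ := Subgroup.mem_inf.1 hx
  obtain ⟨v, hv, rfl⟩ := mem_EJ.1 hx1
  rw [hJ v (inter h1 h2 hv hx2), V_zero]
  exact Subgroup.one_mem _

theorem inter1 : EJ ⊓ Pi 1 = Loc7.Z := by
  apply inter_eq (by norm_num) (by norm_num) (by decide +kernel)
  intro a ha
  have h1 : rr 1 = t := mul_one _
  have h2 : V a ∈ Loc7.Z := V_mem_span ha
  have h3 := Subgroup.mem_centralizer_iff.1 Loc7.t_cent _ h2
  unfold Pi
  rw [mem_cj, inv_inv, h1, ← h3, mul_inv_cancel_right]
  exact V_mem a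

/-- a word -/
def w7 : List ℕ := [0, 2, 0, 2, 0, 2, 0, 1, 0, 1, 0, 2, 0, 2, 0, 1, 0, 1, 0, 2]
/-- a word -/
def w8 : List ℕ := [1, 0, 2, 0, 2, 0, 1, 0, 2, 0, 2, 0, 2, 0, 2, 0, 2, 0, 2, 0, 1, 0, 2, 0]
/-- a word -/
def w11 : List ℕ := [2, 0, 2, 0, 2, 0, 2, 0, 2, 0, 2, 0, 1, 0, 1, 0, 2, 0]

/-- the span of the images -/
theorem cj_span {g : Cfsg.Spor.J4} {M : List ℕ} (h : ∀ v : ℕ, g * V v * g⁻¹ = V (lin M v))
    (A : List ℕ) : cj g (span A) = span (A.map (lin M)) := by
  have h1 : cj g (span A) ≤ span (A.map (lin M)) := by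
    rw [Subgroup.map_le_iff_le_comap]
    apply span_le
    intro a ha
    show g * V a * g⁻¹ ∈ span (A.map (lin M))
    rw [h]
    exact V_mem_span (List.mem_map_of_mem ha)
  refine le_antisymm h1 (span_le ?_)
  intro b hb
  obtain ⟨a, ha, rfl⟩ := List.mem_map.1 hb
  rw [← h a]
  exact ⟨V a, V_mem_span ha, rfl⟩

theorem inter7 : EJ ⊓ Pi 7 = cj (phi (Cfsg.Agent.J4.Nodes.wordG w7)) Loc7.Z := by
  have h1 : EJ ⊓ Pi 7 = span [36, 619, 94] := by
    apply inter_eq (by norm_num) (by norm_num) (by decide +kernel)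
    intro a ha
    simp only [List.mem_cons, List.not_mem_nil, or_false] at ha
    rcases ha with rfl | rfl | rfl
    · exact of_check (by norm_num) check7 (b := 817) (by simp)
    · exact of_check (by norm_num) check7 (b := 591) (by simp)
    · exact of_check (by norm_num) check7 (b := 477) (by simp)
  rw [h1]
  unfold Loc7.Z
  rw [cj_span (conj_V (isMat_word w7))]
  have h2 : zl.map (lin (mat w7)) = [36, 619, 94] := by decide +kernel
  rw [h2]

theorem s_eq_V : s = V 1024 := by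
  apply rho_injective
  rw [rho_s, rho_V]

theorem isConj_V {w : List ℕ} {a : ℕ} (h : lin (mat w) 1024 = a) : IsConj s (V a) := by
  rw [s_eq_V, isConj_iff]
  exact ⟨phi (Cfsg.Agent.J4.Nodes.wordG w), by rw [conj_V (isMat_word w), h]⟩

theorem A1563 : IsConj s (V 1563) := isConj_V (w := w8) (by decide +kernel)
theorem A765 : IsConj s (V 765) := isConj_V (w := w11) (by decide +kernel)

theorem mem_span_single {a : ℕ} {x : Cfsg.Spor.J4} : x ∈ span [a] ↔ x = 1 ∨ x = V a := by
  constructor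
  · rintro ⟨u, rfl⟩
    rw [lin_cons, lin_nil]
    split_ifs
    · right
      have : a ^^^ 0 = a := Nat.xor_zero a
      rw [this]
    · left; exact V_zero
  · rintro (rfl | rfl)
    · exact Subgroup.one_mem _
    · exact V_mem_span (List.mem_singleton.2 rfl)

theorem inter8 : EJ ⊓ Pi 8 = span [1563] := by
  apply inter_eq (by norm_num) (by norm_num) (by decide +kernel)
  intro a ha
  simp only [List.mem_cons, List.not_mem_nil, or_false] at ha
  subst ha
  exact of_check (by norm_num) check8 (b := 748) (by simp)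

theorem inter11 : EJ ⊓ Pi 11 = span [765] := by
  apply inter_eq (by norm_num) (by norm_num) (by decide +kernel)
  intro a ha
  simp only [List.mem_cons, List.not_mem_nil, or_false] at ha
  subst ha
  exact of_check (by norm_num) check11 (b := 444) (by simp)

theorem others : ∀ i < 20, i = 0 ∨ i = 1 ∨ i = 7 ∨ i = 8 ∨ i = 11 ∨ (1 ≤ i ∧ ∀ v ∈ Jl i, v = 0) := by
  decide +kernel

/-! ### F5 -/

/-- **F5**: two points intersect in 1, in a group of order 2 (of class 2A) or in a line -/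
theorem f5 : F5 geo := by
  rintro _ _ ⟨g, rfl⟩ ⟨g', rfl⟩ hne
  obtain ⟨i, hi, h, h1, h2⟩ := pair g g'
  rw [h1, h2] at hne ⊢
  rw [← cj_inf]
  have h2A : ∀ a, IsConj s (V a) → EJ ⊓ Pi i = span [a] →
      ∃ z, geo.A z ∧ ∀ x, x ∈ cj h (EJ ⊓ Pi i) ↔ x = 1 ∨ x = z := by
    intro a ha he
    refine ⟨h * V a * h⁻¹, ?_, ?_⟩
    · show IsConj s (h * V a * h⁻¹)
      exact ha.trans (isConj_iff.2 ⟨h, rfl⟩)
    · intro x
      rw [he, mem_cj, mem_span_single]
      constructor
      · rintro (h3 | h3)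
        · left
          have : x = h * (h⁻¹ * x * h) * h⁻¹ := by group
          rw [this, h3]; group
        · right
          rw [← h3]; group
      · rintro (rfl | rfl)
        · left; group
        · right; group
  rcases others i hi with rfl | rfl | rfl | rfl | rfl | ⟨h3, h4⟩
  · exfalso
    apply hne
    rw [Pi_zero]
  · right; right
    exact ⟨h, by rw [inter1]⟩
  · right; right
    exact ⟨h * phi (Cfsg.Agent.J4.Nodes.wordG w7), by rw [inter7, cj_mul]⟩
  · right; left
    exact h2A 1563 A1563 inter8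
  · right; left
    exact h2A 765 A765 inter11
  · left
    rw [inter_bot h3 hi h4, cj_bot]

/-! ### F17 -/

/-- the number of elements fixing the vector -/
def cnt (i : ℕ) : ℕ := ((List.range 2048).filter fun v => bit (Am i) v).length

private theorem _root_.Cfsg.Agent.KOe3764af.e8.{ku, kv} {α : Type kv} {M : List α → Sort ku} (φ : ∀ l, M l) {z : M List.nil} {s : ∀ a l, M l → M (List.cons a l)} (h0 : φ List.nil = z) (hs : ∀ a l, φ (List.cons a l) = s a l (φ l)) (l : List α) : φ l = @List.rec α M z s l := List.rec h0 (fun a l ih => (hs a l).trans (congrArg (s a l) ih)) l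
private theorem _root_.Cfsg.Agent.KOe3764af.e10.{ku} {M : Nat → Sort ku} (φ : ∀ n, M n) {z : M Nat.zero} {s : ∀ n, M n → M (Nat.succ n)} (h0 : φ Nat.zero = z) (hs : ∀ n, φ (Nat.succ n) = s n (φ n)) (n : Nat) : φ n = @Nat.rec M z s n := Nat.rec h0 (fun n ih => (hs n).trans (congrArg (s n) ih)) n
private noncomputable def _root_.Cfsg.Agent.KOe3764af.k11 : type_of% @List.range.loop := @(fun x0 x1 => @Nat.rec.{1} @(fun x2 => (@List.{0} ℕ) → @List.{0} ℕ) @(fun x2 => @x2) @(fun x2 x3 x4 => @x3 (@x2 :: @x4)) @x0 @x1)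
private theorem _root_.Cfsg.Agent.KOe3764af.e11 : @List.range.loop = @_root_.Cfsg.Agent.KOe3764af.k11 := by delta _root_.Cfsg.Agent.KOe3764af.k11; funext a0 a1; refine (congrFun (_root_.Cfsg.Agent.KOe3764af.e10 (fun a0 a1 => @List.range.loop a0 a1) ?_ (fun c0 => ?_) a0) a1 :) <;> (rfl')
private noncomputable def _root_.Cfsg.Agent.KOe3764af.k17.{ku0} : type_of% @List.get?Internal.{ku0} := @(fun x0 x1 x2 => @List.rec.{(ku0+1), ku0} @x0 @(fun x3 => ℕ → @Option.{ku0} @x0) @(fun x3 => @Option.none.{ku0} _) @(fun x3 x4 x5 x6 => @Nat.rec.{(ku0+1)} @(fun x7 => @Option.{ku0} @x0) (@Option.some.{ku0} _ @x3) @(fun x7 x8 => @x5 @x7) @x6) @x1 @x2)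
private theorem _root_.Cfsg.Agent.KOe3764af.e17.{ku0} : @List.get?Internal.{ku0} = @_root_.Cfsg.Agent.KOe3764af.k17.{ku0} := by delta _root_.Cfsg.Agent.KOe3764af.k17; funext a0 a1 a2; refine (congrFun (_root_.Cfsg.Agent.KOe3764af.e8 (fun a1 a2 => @List.get?Internal.{ku0} a0 a1 a2) ?_ (fun c0 c1 => ?_) a1) a2 :) <;> [(funext b0; (rfl')); (funext b0; (cases b0 with | @zero  => (rfl') | @succ b0_0 => (rfl')))]
private noncomputable def _root_.Cfsg.Agent.KOe3764af.k30 : (by first | exact type_of% @Cfsg.Agent.H68.JM.bit | exact Unit : Sort _) := by first | (refine @Subtype.val _ (fun g => @Cfsg.Agent.H68.JM.bit = @g) (@Subtype.mk _ _ (@(fun x0 x1 => @Nat.beq (@Nat.land (nat_lit 1) (@Nat.shiftRight @x0 @x1)) (nat_lit 1))) ?_); rfl') | exact @Cfsg.Agent.H68.JM.bit | exact ()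
private theorem _root_.Cfsg.Agent.KOe3764af.e30 : (by first | exact @Cfsg.Agent.H68.JM.bit = @_root_.Cfsg.Agent.KOe3764af.k30 | exact True : Prop) := by first | (delta _root_.Cfsg.Agent.KOe3764af.k30; exact @Subtype.property _ (fun g => @Cfsg.Agent.H68.JM.bit = @g) _) | rfl | trivial
private noncomputable def _root_.Cfsg.Agent.KOe3764af.k31 : (by first | exact type_of% @Cfsg.Agent.H68.JM.Am | exact Unit : Sort _) := by first | (refine @Subtype.val _ (fun g => @Cfsg.Agent.H68.JM.Am = @g) (@Subtype.mk _ _ (@(fun x0 => @Option.rec.{1, 0} ℕ @(fun x1 => ℕ) (nat_lit 0) @(fun x1 => @x1) (@Cfsg.Agent.KOe3764af.k17.{0} _ ((nat_lit 32317006071311007300714876688669951960444102669715484032130345427524655138867890893197201411522913463688717960921898019494119559150490921095088152386448283120630877367300996091750197750389652106796057638384067568276792218642619756161838094338476170470581645852036305042887575891541065808607552399123930385521914333389668342420684974786564569494856176035326322058077805659331026192708460314150258592864177116725943603718461857357598351152301645904403697613233287231227125684710820209725157101726931323469678542580656697935045997268352998638215525166389437335543602135433229604645318478604952148193555853611059596230655)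 :: ((nat_lit 24239257386126471506104579685713673740638133823560191729364862641908312650814594132388787611087884973522009599318817635359293995637288318096381831820564938421253423626489974685110896371927107208023344342491031193295180433409522823700928058481311885604166577301782474395734750590836207564522987146190323864129516382376663447943097687335534055679610437815632137205296248920853924397993360088951937384569981492536709721524476852395908822195182596333093229980767839012065937450225197255266495955797045011194295573113129695291817752644555390252075134009782124677278062888910101015778563167080421027128160149940059677704195) :: ((nat_lit 986236757547332986472011617696226561292849812923961840057930032455468640966124451173184847817876673911359102656821557442597466198878259360460661605141731819249835364347384246890126362551406967469870177033031664560495639006998205676047420249909585835041935422916668670994332984725119423862843796306553176205149443193188075177546379865899286618742205178636966189694044148687575155881135094269010389534952906968138570630188369360768087128939142769645556055316259299428145485782936530654875538922614594725970554928688869615757949258695678285149070102071205127776208344108730718628257229638202129059112689783231479809)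 :: ((nat_lit 1) :: ((nat_lit 39916806190694396233127454260736771321349025208709150830050944848744237837379281315699159309852714021786848936883849904879448759767871873214783435965696628406400113459021713530350754428887259743653067134890878479866616209102417407777777105368960883150142418137515120832847169904606880198557697) :: ((nat_lit 1) :: ((nat_lit 1972473515094665972945693985447324807172797169769159147472130456223256434064866379165429258971197516634481689164690071562023282722780099223713993199465282094914362077155198562462359251025558096664270407089533275994587195580438729824142517413760425756605369886703028982494249477924939958568173876908911207063615866403848612495452659591831386351600174148644552014537471104904488725177402530324101858328935425145704566649263353310725357528831462179957441473773823822125192694423135763956749385467227948241539645742877181159772535529884327560442893612363264221012769909380866110076068710273382689634786467370661576705)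 :: ((nat_lit 16728582691467393379229506957130771040479338346018923515567823007185173911671471217152721063259162065985860480921692733983220129255493943738822187513371744305419251120223814284830512791706836394328188759889538819626300708184643813643996522567648936111487700665217265492999967032434057007958174098800109773362124878337336880184648761853466046774510706297682468899506978037847320206420446860904531634311554599549005158490996436031054209396024353494304684955004863510127139924305161474458317165950617442550612795933168739596292686373501045920698402069423935421913335169959583213280705127712361435622203584998073147334945) :: ((nat_lit 8079752461571423023056199119406194592724146600615224646585899342487177723624120024017755940891623075213687194193844115305102931543797712870999509435859210619039811518693376859997470196122690491005244019110256349063437695721508911404768828565520566766957394074577076061765695015683669209811795531958421677996011101658780922626293788119155386179013281609332900444011526574311904097582036924455268409328913985922788762249366176131746669820058868946947525349200345998543555842676272451811640118880889663028087384470439390467541397969025236875569162997252263319220208412997510833169498576882334563204243846510198857416705)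 :: ((nat_lit 448488552841505673528450469210120473780161805316384633330734231633987804681939191061198187084820817849520325051579159403623902525213761781075328951903225582710891528966639829869658473059981606859419695463441579954550715025975368947359392418052015129537728251685401299887634433344572495306464566451172873264451908573279656345932182748692553968416372542764996637289706599948943048233256593876230052268864694507140355054215925496106854671526649899550371925757657746620388362223673934036941120306162234543194350284137227140797912530472551128600067407670853005745235739254114443651355950591521118343921665) :: ((nat_lit 1) :: ((nat_lit 505943339206673289534096250237431914932284072415255785265063903550540790054845224115096839047143365866390623777324164259412291710119094968124448689029972540400526274198261123042713270661385178412563474969686663979529284896017107234795453542828150922610748769200781699784814124738323244870642451381748562070183321217448511488913776596312893709777796153716714262165181771188336120846789881180735557628088794092314924240978802100074883682061409224003182278176295794707711339892093989091064197020129939365348801900881312622968037333564241896521310759381735285636218432303718804070481834792050806979140086785165249480705)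 :: ((nat_lit 493118378773666493249371809287086757340306968572865720077140769698352217489091734033511044638041447021331823105645091762181585110605550030778499746114417922721131285620417892974488936904746800189030242975423235374977701251432636395035189328540620742713281059927416291332789097858002686285812451537153709998764922824750508486376428828626953492951812636058130160097944284968849015587698663907716277082302735224920554701878680671581855435784694253488575930003593711395210224880078072666672557676886399826498575799381302222508921942891276134105246270635275165261611302580190538037327804286574036491511836928307625985) :: ((nat_lit 918504556219403619386266560942145587217854161670956160382114189460613009113896251085327589053205015934756771711189970218757695168690444265140745084933322548313039913162498240005510233185920358971431415920507889958252923709171106911578536208323730831767239972465299190471557036844986493196289313775762661450753351271875668044819035878463312471207478212003432021733653006644176065057890250334090143066537652791963171345016174238867232337278825466012327115471216735364439662268717376313280655657733044662043043404669808124226790291355456436071322206271061001403484230406582742166543723630097478809192235009)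 :: ((nat_lit 1) :: ((nat_lit 1) :: ((nat_lit 1) :: ((nat_lit 1) :: ((nat_lit 130370302485407109521180524058200202307293977194619920040712988758680403184853549195737432065) :: ((nat_lit 1) :: [])))))))))))))))))))) @x0))) ?_); rewrite [← Cfsg.Agent.KOe3764af.e17.{0}]; rfl') | exact @Cfsg.Agent.H68.JM.Am | exact ()
private theorem _root_.Cfsg.Agent.KOe3764af.e31 : (by first | exact @Cfsg.Agent.H68.JM.Am = @_root_.Cfsg.Agent.KOe3764af.k31 | exact True : Prop) := by first | (delta _root_.Cfsg.Agent.KOe3764af.k31; exact @Subtype.property _ (fun g => @Cfsg.Agent.H68.JM.Am = @g) _) | rfl | trivial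
private noncomputable def _root_.Cfsg.Agent.KOe3764af.k34 : type_of% @Decidable.decide := @(fun x0 x1 => @Decidable.rec.{1} _ @(fun x2 => @Bool) @(fun x2 => @Bool.false) @(fun x2 => @Bool.true) @x1)
private theorem _root_.Cfsg.Agent.KOe3764af.e34 : @Decidable.decide = @_root_.Cfsg.Agent.KOe3764af.k34 := by delta _root_.Cfsg.Agent.KOe3764af.k34; rfl'
private noncomputable def _root_.Cfsg.Agent.KOe3764af.k35l (n : Nat) (P : ∀ k, k < n → Prop) (H : ∀ k h, Decidable (P k h)) (m : Nat) : m ≤ n → Bool := @Nat.rec (fun m => m ≤ n → Bool) (fun _ => true) (fun k ih h => @Decidable.rec (P k h) (fun _ => Bool) (fun _ => false) (fun _ => ih (Nat.le_of_succ_le h)) (H k h)) m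
private theorem _root_.Cfsg.Agent.KOe3764af.k35ls (n : Nat) (P : ∀ k, k < n → Prop) (H : ∀ k h, Decidable (P k h)) (m : Nat) : ∀ h : m ≤ n, _root_.Cfsg.Agent.KOe3764af.k35l n P H m h = true ↔ ∀ k (g : k < m), P k (Nat.lt_of_lt_of_le g h) := by induction m with | zero => exact fun _ => ⟨fun _ _ g => absurd g (Nat.not_lt_zero _), fun _ => rfl⟩ | succ m ih => intro h; show @Decidable.rec (P m h) (fun _ => Bool) (fun _ => false) (fun _ => _root_.Cfsg.Agent.KOe3764af.k35l n P H m (Nat.le_of_succ_le h)) (H m h) = true ↔ _; cases H m h with | isFalse q => exact ⟨fun g => absurd g Bool.false_ne_true, fun g => absurd (g m (Nat.lt_succ_self m)) q⟩ | isTrue q => exact ⟨fun g k hk => (Nat.lt_succ_iff_lt_or_eq.1 hk).elim ((ih _).1 g k) fun e => by subst e; exact q, fun g => (ih _).2 fun k hk => g k (Nat.lt_succ_of_lt hk)⟩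
private noncomputable def _root_.Cfsg.Agent.KOe3764af.k35 (n : Nat) (P : ∀ k, k < n → Prop) (H : ∀ k h, Decidable (P k h)) : Decidable (∀ k h, P k h) := @Bool.rec (fun b => _root_.Cfsg.Agent.KOe3764af.k35l n P H n (Nat.le_refl n) = b → Decidable (∀ k h, P k h)) (fun g => isFalse fun q => Bool.false_ne_true (g.symm.trans ((_root_.Cfsg.Agent.KOe3764af.k35ls n P H n _).2 fun k h => q k h))) (fun g => isTrue fun k h => (_root_.Cfsg.Agent.KOe3764af.k35ls n P H n _).1 g k h) (_root_.Cfsg.Agent.KOe3764af.k35l n P H n (Nat.le_refl n)) rfl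
private theorem _root_.Cfsg.Agent.KOe3764af.e35 : @Nat.decidableBallLT = @_root_.Cfsg.Agent.KOe3764af.k35 := funext fun _ => funext fun _ => funext fun _ => Subsingleton.elim _ _
private noncomputable def _root_.Cfsg.Agent.KOe3764af.k37 : type_of% @Bool.decEq := @(fun x0 x1 => @Bool.rec.{1} @(fun x2 => @Decidable (@Eq.{1} _ @x2 @x1)) (@Bool.rec.{1} @(fun x2 => @Decidable (@Eq.{1} _ @Bool.false @x2)) (@Decidable.isTrue _ (@rfl.{1} _ _)) (@Decidable.isFalse _ @(fun x2 => @Bool.noConfusion.{0} _ _ _ @x2)) @x1) (@Bool.rec.{1} @(fun x2 => @Decidable (@Eq.{1} _ @Bool.true @x2)) (@Decidable.isFalse _ @(fun x2 => @Bool.noConfusion.{0} _ _ _ @x2)) (@Decidable.isTrue _ (@rfl.{1} _ _)) @x1) @x0)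
private theorem _root_.Cfsg.Agent.KOe3764af.e37 : @Bool.decEq = @_root_.Cfsg.Agent.KOe3764af.k37 := by delta _root_.Cfsg.Agent.KOe3764af.k37; rfl'
private noncomputable def _root_.Cfsg.Agent.KOe3764af.k38 : type_of% @Nat.decLe := @(fun x0 x1 => @Decidable.rec.{1} _ @(fun x2 => @Decidable (@LE.le.{0} _ _ @x0 @x1)) @(fun x2 => @Decidable.isFalse _ (@Nat.not_le_of_not_ble_eq_true _ _ @x2)) @(fun x2 => @Decidable.isTrue _ (@Nat.le_of_ble_eq_true _ _ @x2)) (@Cfsg.Agent.KOe3764af.k37 (@Nat.ble @x0 @x1) @Bool.true))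
private theorem _root_.Cfsg.Agent.KOe3764af.e38 : @Nat.decLe = @_root_.Cfsg.Agent.KOe3764af.k38 := by delta _root_.Cfsg.Agent.KOe3764af.k38; rewrite [← Cfsg.Agent.KOe3764af.e37]; rfl'
private noncomputable def _root_.Cfsg.Agent.KOe3764af.k39 : type_of% @Nat.decLt := @(fun x0 x1 => @Cfsg.Agent.KOe3764af.k38 (@Nat.succ @x0) @x1)
private theorem _root_.Cfsg.Agent.KOe3764af.e39 : @Nat.decLt = @_root_.Cfsg.Agent.KOe3764af.k39 := by delta _root_.Cfsg.Agent.KOe3764af.k39; rewrite [← Cfsg.Agent.KOe3764af.e38]; rfl'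
private noncomputable def _root_.Cfsg.Agent.KOe3764af.k48 : type_of% @Nat.decEq := @(fun x0 x1 => @Bool.rec.{1} @(fun x2 => (@Eq.{1} _ (@Nat.beq @x0 @x1) @x2) → @Decidable (@Eq.{1} _ @x0 @x1)) @(fun x2 => @Decidable.isFalse _ (@Nat.ne_of_beq_eq_false _ _ @x2)) @(fun x2 => @Decidable.isTrue _ (@Nat.eq_of_beq_eq_true _ _ @x2)) (@Nat.beq @x0 @x1) (@Eq.refl.{1} _ (@Nat.beq @x0 @x1)))
private theorem _root_.Cfsg.Agent.KOe3764af.e48 : @Nat.decEq = @_root_.Cfsg.Agent.KOe3764af.k48 := by delta _root_.Cfsg.Agent.KOe3764af.k48; rfl'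
private noncomputable def _root_.Cfsg.Agent.KOe3764af.k49 : type_of% @instDecidableEqNat := @Cfsg.Agent.KOe3764af.k48
private theorem _root_.Cfsg.Agent.KOe3764af.e49 : @instDecidableEqNat = @_root_.Cfsg.Agent.KOe3764af.k49 := by delta _root_.Cfsg.Agent.KOe3764af.k49; rewrite [← Cfsg.Agent.KOe3764af.e48]; rfl'
private noncomputable def _root_.Cfsg.Agent.KOe3764af.k54 : type_of% @instDecidableOr := @(fun x0 x1 x2 x3 => @Decidable.rec.{1} _ @(fun x4 => @Decidable (@Or @x0 @x1)) @(fun x4 => @Decidable.rec.{1} _ @(fun x5 => @Decidable (@Or @x0 @x1)) @(fun x5 => @Decidable.isFalse _ (@instDecidableOr._proof_1 _ _ @x4 @x5)) @(fun x5 => @Decidable.isTrue _ (@Or.inr _ _ @x5)) @x3) @(fun x4 => @Decidable.isTrue _ (@Or.inl _ _ @x4)) @x2)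
private theorem _root_.Cfsg.Agent.KOe3764af.e54 : @instDecidableOr = @_root_.Cfsg.Agent.KOe3764af.k54 := by delta _root_.Cfsg.Agent.KOe3764af.k54; rfl'
private noncomputable def _root_.Cfsg.Agent.KOe3764af.k55.{ku0} : type_of% @List.length.{ku0} := @(fun x0 x1 => @List.rec.{1, ku0} @x0 @(fun x2 => ℕ) (nat_lit 0) @(fun x2 x3 x4 => @Nat.add @x4 (nat_lit 1)) @x1)
private theorem _root_.Cfsg.Agent.KOe3764af.e55.{ku0} : @List.length.{ku0} = @_root_.Cfsg.Agent.KOe3764af.k55.{ku0} := by delta _root_.Cfsg.Agent.KOe3764af.k55; funext a0 a1; refine (_root_.Cfsg.Agent.KOe3764af.e8 (fun a1 => @List.length.{ku0} a0 a1) ?_ (fun c0 c1 => ?_) a1 :) <;> (rfl')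
private noncomputable def _root_.Cfsg.Agent.KOe3764af.k56.{ku0} : type_of% @List.filter.{ku0} := @(fun x0 x1 x2 => @List.rec.{(ku0+1), ku0} @x0 @(fun x3 => @List.{ku0} @x0) [] @(fun x3 x4 x5 => @Bool.rec.{(ku0+1)} @(fun x6 => @List.{ku0} @x0) @x5 (@x3 :: @x5) (@x1 @x3)) @x2)
private theorem _root_.Cfsg.Agent.KOe3764af.e56.{ku0} : @List.filter.{ku0} = @_root_.Cfsg.Agent.KOe3764af.k56.{ku0} := by delta _root_.Cfsg.Agent.KOe3764af.k56; funext a0 a1 a2; refine (_root_.Cfsg.Agent.KOe3764af.e8 (fun a2 => @List.filter.{ku0} a0 a1 a2) ?_ (fun c0 c1 => ?_) a2 :) <;> (rfl')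
private noncomputable def _root_.Cfsg.Agent.KOe3764af.k57 : (by first | exact type_of% @Cfsg.Agent.H68.JM.cnt | exact Unit : Sort _) := by first | (refine @Subtype.val _ (fun g => @Cfsg.Agent.H68.JM.cnt = @g) (@Subtype.mk _ _ (@(fun x0 => @Cfsg.Agent.KOe3764af.k55.{0} _ (@Cfsg.Agent.KOe3764af.k56.{0} _ @(fun x1 => @Cfsg.Agent.KOe3764af.k30 (@Cfsg.Agent.KOe3764af.k31 @x0) @x1) (@Cfsg.Agent.KOe3764af.k11 (nat_lit 2048) [])))) ?_); rewrite [← Cfsg.Agent.KOe3764af.e11, ← Cfsg.Agent.KOe3764af.e31, ← Cfsg.Agent.KOe3764af.e30, ← Cfsg.Agent.KOe3764af.e56.{0}, ← Cfsg.Agent.KOe3764af.e55.{0}]; (try delta Cfsg.Agent.H68.JM.cnt); (try generalize @Cfsg.Agent.H68.JM.bit = g0); (try generalize @Cfsg.Agent.H68.JM.Am = g1); rfl') | exact @Cfsg.Agent.H68.JM.cnt | exact ()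
private theorem _root_.Cfsg.Agent.KOe3764af.e57 : (by first | exact @Cfsg.Agent.H68.JM.cnt = @_root_.Cfsg.Agent.KOe3764af.k57 | exact True : Prop) := by first | (delta _root_.Cfsg.Agent.KOe3764af.k57; exact @Subtype.property _ (fun g => @Cfsg.Agent.H68.JM.cnt = @g) _) | rfl | trivial

theorem cnt_lt : ∀ i < 20, i = 0 ∨ i = 1 ∨ i = 7 ∨ i = 8 ∨ i = 11 ∨ cnt i < 32 := by
  (first | (refine of_decide_eq_true ?_; rewrite [Cfsg.Agent.KOe3764af.e34, Cfsg.Agent.KOe3764af.e35, Cfsg.Agent.KOe3764af.e54, Cfsg.Agent.KOe3764af.e49, Cfsg.Agent.KOe3764af.e39, Cfsg.Agent.KOe3764af.e57]; set_option maxRecDepth 200000 in decide +kernel) | decide +kernel)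

theorem card_cj {G : Type*} [Group G] (g : G) (H : Subgroup G) : Nat.card (cj g H) = Nat.card H :=
  (Nat.card_congr (H.equivMapOfInjective (MulAut.conj g).toMonoidHom
    (MulAut.conj g).injective).toEquiv).symm

theorem card_le_cnt {i : ℕ} (h1 : 1 ≤ i) (h2 : i < 20) :
    Nat.card (EJ ⊓ Subgroup.normalizer (Pi i : Set Cfsg.Spor.J4) : Subgroup Cfsg.Spor.J4) ≤
      cnt i := by
  classical
  have hex : ∀ e : (EJ ⊓ Subgroup.normalizer (Pi i : Set Cfsg.Spor.J4) : Subgroup Cfsg.Spor.J4),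
      ∃ v, v ∈ ((List.range 2048).filter fun v => bit (Am i) v).toFinset ∧
        (e : Cfsg.Spor.J4) = V v := by
    intro e
    obtain ⟨he1, he2⟩ := Subgroup.mem_inf.1 e.2
    obtain ⟨v, hv, h3⟩ := mem_EJ.1 he1
    refine ⟨v, ?_, h3⟩
    rw [List.mem_toFinset, List.mem_filter]
    refine ⟨List.mem_range.2 hv, ?_⟩
    rw [h3] at he2
    exact norm_fix h1 h2 hv he2
  choose f hf1 hf2 using hex
  have h4 : Nat.card (EJ ⊓ Subgroup.normalizer (Pi i : Set Cfsg.Spor.J4) :
      Subgroup Cfsg.Spor.J4) ≤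
      Nat.card {v // v ∈ ((List.range 2048).filter fun v => bit (Am i) v).toFinset} := by
    apply Nat.card_le_card_of_injective (fun e => ⟨f e, hf1 e⟩)
    intro a b hab
    have h5 : f a = f b := congrArg Subtype.val hab
    apply Subtype.ext
    rw [hf2, hf2, h5]
  rw [Nat.card_eq_finsetCard] at h4
  exact h4.trans (List.toFinset_card_le _)

/-- **F17**: if `|P ∩ N(P')| ≥ 32` then `P` and `P'` meet -/
theorem f17 : F17 geo := by
  rintro _ _ ⟨g, rfl⟩ ⟨g', rfl⟩ hc
  obtain ⟨i, hi, h, h1, h2⟩ := pair g g'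
  rw [h1, h2] at hc ⊢
  rw [cj_normalizer, ← cj_inf, card_cj] at hc
  rw [← cj_inf]
  intro hbot
  have hb : EJ ⊓ Pi i = ⊥ := by
    have h3 : cj h⁻¹ (cj h (EJ ⊓ Pi i)) = cj h⁻¹ ⊥ := by rw [hbot]
    rwa [← cj_mul, inv_mul_cancel, cj_one, cj_bot] at h3
  have key : ∀ a, a < 2048 → a ≠ 0 → V a ∈ EJ ⊓ Pi i → False := by
    intro a ha hne h3
    rw [hb, Subgroup.mem_bot, ← V_zero] at h3
    exact hne (V_inj ha (by norm_num) h3)
  rcases cnt_lt i hi with rfl | rfl | rfl | rfl | rfl | h3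
  · rw [Pi_zero, inf_idem] at hb
    exact key 1 (by norm_num) (by norm_num) (by rw [Pi_zero, inf_idem]; exact V_mem 1)
  · exact key 165 (by norm_num) (by norm_num) (by
      rw [inter1]; exact V_mem_span (A := zl) (by decide))
  · refine key 36 (by norm_num) (by norm_num) (Subgroup.mem_inf.2 ⟨V_mem _, ?_⟩)
    exact of_check (by norm_num) check7 (b := 817) (by simp)
  · refine key 1563 (by norm_num) (by norm_num) (Subgroup.mem_inf.2 ⟨V_mem _, ?_⟩)
    exact of_check (by norm_num) check8 (b := 748) (by simp)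
  · refine key 765 (by norm_num) (by norm_num) (Subgroup.mem_inf.2 ⟨V_mem _, ?_⟩)
    exact of_check (by norm_num) check11 (b := 444) (by simp)
  · rcases Nat.eq_zero_or_pos i with h0 | h0
    · subst h0
      exact key 1 (by norm_num) (by norm_num) (by rw [Pi_zero, inf_idem]; exact V_mem 1)
    · have h4 := card_le_cnt h0 hi
      omega

end Cfsg.Agent.H68.JM
end
end

-- part: H860/JM/Basic
section
prune_inst 0x7f00000000000000000000000000000000000000000000000000000000000000000000000000000000000000000000000000000000000000000000000000000000000000000000000000000000000000003fffffffffffffffffffffffffffbeffbdffffffff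
set_option linter.all false
open scoped Cfsg.Agent.FastGrp

/-!
# The basic facts `F0` to `F4` of the 2-local geometry of `Spor.J4`
-/

set_option autoImplicit false

open Cfsg

namespace Cfsg.Agent.H860.JM

open Cfsg.Agent.J4.Invol (EJ s d)
open Cfsg.Agent.H858 Cfsg.Agent.H858.VK Cfsg.Agent.J4.Pres Cfsg.Agent.J4.M24Hom
  Cfsg.Agent.H858.Data

/-- the group `Spor.J4` -/
local notation "𝒢" => Cfsg.Spor.J4

theorem isJ4 : Cfsg.IsJ4 𝒢 := Cfsg.Agent.S1703.result
theorem simple_J : IsSimpleGroup 𝒢 := isJ4.1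
theorem finite_J : Finite 𝒢 := FixJ4.facts.1
theorem isJ : IsOfJankoFourType 𝒢 := H337.isOfJankoFourType_of_isoJ4 ⟨MulEquiv.refl _⟩

theorem EJ_sq {a : 𝒢} (ha : a ∈ EJ) : a * a = 1 := Cfsg.Agent.J4.Invol.EJ_sq rho_injective a ha
theorem EJ_comm {a b : 𝒢} (ha : a ∈ EJ) (hb : b ∈ EJ) : a * b = b * a :=
  Cfsg.Agent.J4.Invol.EJ_comm rho_injective a b ha hb
theorem card_EJ : Nat.card EJ = 2 ^ 11 := Cfsg.Agent.J4.Invol.card_EJ rho_injective
theorem d_mem : d ∈ EJ := Cfsg.Agent.J4.Invol.d_mem rho_injective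
theorem s_mem : s ∈ EJ := Cfsg.Agent.J4.Invol.s_mem rho_injective

theorem elem_EJ : IsElementaryAbelian 2 EJ :=
  ⟨⟨⟨fun a b => Subtype.ext (EJ_comm a.2 b.2)⟩⟩, fun a ha => by rw [pow_two]; exact EJ_sq ha⟩

theorem phi_mem (m : M24) : phi m ∈ Subgroup.normalizer (EJ : Set 𝒢) :=
  phi_norm ⟨m, rfl⟩

theorem EJ_cases {e : 𝒢} (he : e ∈ EJ) (he1 : e ≠ 1) :
    ∃ m : M24, e = phi m * s * (phi m)⁻¹ ∨ e = phi m * d * (phi m)⁻¹ :=
  Cfsg.Agent.J4.Invol.EJ_cases rho_injective e he he1

theorem s_eq : s = V 1024 := rho_injective (by rw [Cfsg.Agent.J4.Invol.rho_s, rho_V])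
theorem d_eq : d = V 5 := rho_injective (by rw [Cfsg.Agent.J4.Invol.rho_d, rho_V])

theorem s_ne : s ≠ 1 := by
  rw [s_eq, ← V_zero]
  intro h
  exact absurd (V_inj (by norm_num) (by norm_num) h) (by norm_num)

theorem d_ne : d ≠ 1 := by
  rw [d_eq, ← V_zero]
  intro h
  exact absurd (V_inj (by norm_num) (by norm_num) h) (by norm_num)

theorem nonab : ¬ IsMulCommutative 𝒢 := by
  intro h
  have h1 : V 1 ≠ 1 := by
    rw [← V_zero]
    intro h
    exact absurd (V_inj (by norm_num) (by norm_num) h) (by norm_num)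
  obtain ⟨m, hm⟩ := EJ_cases (V_mem 1) h1
  have h2 : ∀ a : 𝒢, phi m * a * (phi m)⁻¹ = a := fun a => by
    rw [h.1.1 (phi m) a, mul_inv_cancel_right]
  rw [h2, h2, s_eq, d_eq] at hm
  rcases hm with hm | hm
  · exact absurd (V_inj (by norm_num) (by norm_num) hm) (by norm_num)
  · exact absurd (V_inj (by norm_num) (by norm_num) hm) (by norm_num)

/-! ### F1 -/

theorem invol {u : 𝒢} (h1 : u ≠ 1) (h2 : u * u = 1) : IsConj s u ∨ IsConj d u :=
  (Cfsg.Agent.J4Type.Final.invol isJ4 u h2 h1).imp IsConj.symm IsConj.symm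

theorem sq_of_conj {a u : 𝒢} (ha : a ∈ EJ) (ha1 : a ≠ 1) (h : IsConj a u) : u ≠ 1 ∧ u * u = 1 := by
  obtain ⟨g, rfl⟩ := isConj_iff.1 h
  refine ⟨fun h1 => ha1 ?_, ?_⟩
  · have h2 : a = g⁻¹ * (g * a * g⁻¹) * g := by group
    rw [h2, h1]; group
  · have h2 : g * a * g⁻¹ * (g * a * g⁻¹) = g * (a * a) * g⁻¹ := by group
    rw [h2, EJ_sq ha]; group

theorem elem_cj {g : 𝒢} {P : Subgroup 𝒢} (h : IsElementaryAbelian 2 P) :
    IsElementaryAbelian 2 (cj g P) := by
  refine ⟨⟨⟨fun a b => Subtype.ext ?_⟩⟩, fun a ha => ?_⟩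
  · have ha := mem_cj.1 a.2
    have hb := mem_cj.1 b.2
    have h1 := congrArg Subtype.val (h.1.1.1 ⟨_, ha⟩ ⟨_, hb⟩)
    have h2 : g⁻¹ * (a : 𝒢) * g * (g⁻¹ * b * g) = g⁻¹ * b * g * (g⁻¹ * a * g) := h1
    show (a : 𝒢) * b = b * a
    calc (a : 𝒢) * b = g * (g⁻¹ * (a : 𝒢) * g * (g⁻¹ * b * g)) * g⁻¹ := by group
      _ = g * (g⁻¹ * b * g * (g⁻¹ * a * g)) * g⁻¹ := by rw [h2]
      _ = b * a := by group
  · have h1 := h.2 _ (mem_cj.1 ha)
    rw [pow_two] at h1 ⊢
    calc a * a = g * (g⁻¹ * a * g * (g⁻¹ * a * g)) * g⁻¹ := by group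
      _ = 1 := by rw [h1]; group

theorem f1 : F1 geo where
  invol _ h1 h2 := invol h1 h2
  A_inv _ h := sq_of_conj s_mem s_ne h
  B_inv _ h := sq_of_conj d_mem d_ne h
  disj _ h1 h2 := Cfsg.Agent.J4.Invol.not_isConj_s_d (h1.trans h2.symm)
  A_conj g u h := h.trans (isConj_iff.2 ⟨g, rfl⟩)
  B_conj g u h := h.trans (isConj_iff.2 ⟨g, rfl⟩)
  Pt_conj := by
    rintro g _ ⟨h, rfl⟩
    exact ⟨g * h, cj_cj g h _⟩
  Ln_conj := by
    rintro g _ ⟨h, rfl⟩
    exact ⟨g * h, cj_cj g h _⟩
  Xc_conj := by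
    rintro g X ⟨h1, h2, h3⟩
    exact ⟨elem_cj h1, (card_cj g X).trans h2, by rw [centralizer_cj, h3]⟩

/-! ### The normalizer of `EJ` -/

theorem index_NEJ : (Subgroup.normalizer (EJ : Set 𝒢)).index = 173067389 := by
  have := simple_J
  have := finite_J
  obtain ⟨z, hz⟩ := isJ
  exact (Cfsg.Agent.S5629.result nonab z hz EJ elem_EJ card_EJ).1

theorem B_le : FixJ4.B ≤ Subgroup.normalizer (EJ : Set 𝒢) := by
  intro x hx
  obtain ⟨e, he, k, rfl⟩ := mem_B.1 hx
  exact Subgroup.mul_mem _ (Subgroup.le_normalizer he) (phi_mem k)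

theorem NEJ_eq : Subgroup.normalizer (EJ : Set 𝒢) = FixJ4.B := by
  have := finite_J
  refine (Subgroup.eq_of_le_of_card_ge B_le ?_).symm
  have h1 := (Subgroup.normalizer (EJ : Set 𝒢)).card_mul_index
  have h2 := FixJ4.B.card_mul_index
  rw [index_NEJ] at h1
  rw [FixJ4.index_B, ← h1] at h2
  exact (Nat.eq_of_mul_eq_mul_right (by norm_num) h2).ge

theorem card_NEJ : Nat.card (Subgroup.normalizer (EJ : Set 𝒢)) = 2 ^ 11 * 244823040 := by
  rw [NEJ_eq, FixJ4.card_B]

/-! ### F2 -/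

theorem f2 : F2 geo := by
  have := finite_J
  intro Q hQ
  have h2 : Fact (Nat.Prime 2) := ⟨Nat.prime_two⟩
  have h1 := hQ.card_modEq_card_fixedPoints (𝒢 ⧸ Subgroup.normalizer (EJ : Set 𝒢))
  have h3 : Nat.card (𝒢 ⧸ Subgroup.normalizer (EJ : Set 𝒢)) = 173067389 := index_NEJ
  rw [h3] at h1
  have h4 : 0 < Nat.card (MulAction.fixedPoints Q (𝒢 ⧸ Subgroup.normalizer (EJ : Set 𝒢))) := by
    rw [Nat.pos_iff_ne_zero]
    intro h0
    rw [h0] at h1
    exact absurd h1 (by decide)
  obtain ⟨⟨⟨x, hx⟩⟩, -⟩ := Nat.card_pos_iff.1 h4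
  obtain ⟨g, rfl⟩ := QuotientGroup.mk_surjective x
  refine ⟨cj g EJ, ⟨g, rfl⟩, fun q hq => ?_⟩
  rw [normalizer_cj, mem_cj]
  have h5 : ((q * g : 𝒢) : 𝒢 ⧸ Subgroup.normalizer (EJ : Set 𝒢)) = (g : 𝒢) := hx ⟨q, hq⟩
  rw [QuotientGroup.eq] at h5
  have h6 := Subgroup.inv_mem _ h5
  have h7 : ((q * g)⁻¹ * g)⁻¹ = g⁻¹ * q * g := by group
  rw [h7] at h6
  exact h6

/-! ### F3 -/

theorem cent_EJ : Subgroup.centralizer (EJ : Set 𝒢) = EJ := by
  have := simple_J
  have := finite_J
  refine le_antisymm (Cfsg.Agent.S5567.result nonab isJ EJ elem_EJ card_EJ).1 ?_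
  intro a ha
  rw [Subgroup.mem_centralizer_iff]
  exact fun b hb => EJ_comm hb ha

theorem El_of {P : Subgroup 𝒢} (h : IsElementaryAbelian 2 P) : El P :=
  ⟨fun a ha => by rw [← pow_two]; exact h.2 a ha,
    fun a ha b hb => congrArg Subtype.val (h.1.1.1 ⟨a, ha⟩ ⟨b, hb⟩)⟩

theorem f3 : F3 geo where
  el := by
    rintro _ ⟨g, rfl⟩
    exact El_of (elem_cj elem_EJ)
  card := by
    rintro _ ⟨g, rfl⟩
    exact (card_cj g _).trans card_EJ
  self := by
    rintro _ ⟨g, rfl⟩
    rw [centralizer_cj, cent_EJ]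
  exA := by
    rintro u hu
    obtain ⟨g, rfl⟩ := isConj_iff.1 hu
    exact ⟨cj g EJ, ⟨g, rfl⟩, mem_cj.2 (by
      have : g⁻¹ * (g * s * g⁻¹) * g = s := by group
      rw [this]; exact s_mem)⟩
  elX := fun X hX => El_of hX.1
  cardX := fun X hX => hX.2.1
  selfX := fun X hX => hX.2.2

/-! ### The classes -/

theorem card_orbit_mul {G : Type*} [Group G] (N : Subgroup G) (u : G) :
    {v : G | ∃ n ∈ N, n * u * n⁻¹ = v}.ncard * Nat.card (N ⊓ Subgroup.centralizer {u} : Subgroup G) =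
      Nat.card N := by
  let act : MulAction N G := MulAction.compHom G (MulAut.conj.comp N.subtype)
  have hs : ∀ n : N, n • u = (n : G) * u * (n : G)⁻¹ := fun n => rfl
  have h1 : {v : G | ∃ n ∈ N, n * u * n⁻¹ = v} = MulAction.orbit N u := by
    ext v
    constructor
    · rintro ⟨n, hn, rfl⟩
      exact ⟨⟨n, hn⟩, rfl⟩
    · rintro ⟨n, rfl⟩
      exact ⟨n, n.2, rfl⟩
  have h2 : (N ⊓ Subgroup.centralizer {u} : Subgroup G) = (MulAction.stabilizer N u).map N.subtype := by
    ext x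
    rw [Subgroup.mem_inf, Subgroup.mem_centralizer_singleton_iff, Subgroup.mem_map]
    constructor
    · rintro ⟨hx, hc⟩
      refine ⟨⟨x, hx⟩, ?_, rfl⟩
      rw [MulAction.mem_stabilizer_iff, hs]
      show x * u * x⁻¹ = u
      rw [hc, mul_inv_cancel_right]
    · rintro ⟨n, hn, rfl⟩
      rw [MulAction.mem_stabilizer_iff, hs] at hn
      refine ⟨n.2, ?_⟩
      show (n : G) * u = u * n
      exact mul_inv_eq_iff_eq_mul.1 hn
  rw [h1, h2, Subgroup.card_map_of_injective N.subtype_injective, ← Nat.card_coe_set_eq,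
    Nat.card_congr (MulAction.orbitEquivQuotientStabilizer N u)]
  exact (Subgroup.card_eq_card_quotient_mul_card_subgroup _).symm

theorem card_cent_of_conj {a b : 𝒢} (h : IsConj a b) :
    Nat.card (Subgroup.centralizer ({a} : Set 𝒢)) = Nat.card (Subgroup.centralizer ({b} : Set 𝒢)) := by
  obtain ⟨g, rfl⟩ := isConj_iff.1 h
  refine Nat.card_congr (Equiv.subtypeEquiv (MulAut.conj g).toEquiv fun x => ?_)
  rw [Subgroup.mem_centralizer_singleton_iff, Subgroup.mem_centralizer_singleton_iff]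
  show _ ↔ g * x * g⁻¹ * (g * a * g⁻¹) = g * a * g⁻¹ * (g * x * g⁻¹)
  constructor
  · intro h1
    calc g * x * g⁻¹ * (g * a * g⁻¹) = g * (x * a) * g⁻¹ := by group
      _ = g * (a * x) * g⁻¹ := by rw [h1]
      _ = _ := by group
  · intro h1
    calc x * a = g⁻¹ * (g * x * g⁻¹ * (g * a * g⁻¹)) * g := by group
      _ = g⁻¹ * (g * a * g⁻¹ * (g * x * g⁻¹)) * g := by rw [h1]
      _ = _ := by group

/-- the involution of the hypothesis is conjugate to `s`, and the other class is that of `d` -/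
theorem classes : ∃ z t : 𝒢, IsOfJankoFourTypeAt z ∧ IsConj s z ∧ t ∈ EJ ∧ IsConj d t ∧
    Subgroup.centralizer ({t} : Set 𝒢) ≤ Subgroup.normalizer (EJ : Set 𝒢) ∧
    Nat.card (Subgroup.centralizer ({t} : Set 𝒢)) = 1816657920 := by
  have := simple_J
  have := finite_J
  obtain ⟨z, hz⟩ := isJ
  obtain ⟨z', t, hz', ht, ht1, hzz, hzt, -, h276, hc⟩ :=
    Cfsg.Agent.S5568.result nonab z hz EJ elem_EJ card_EJ
  have h1 := card_orbit_mul (Subgroup.normalizer (EJ : Set 𝒢)) t
  rw [h276, inf_eq_right.2 hc, card_NEJ] at h1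
  have h2 : Nat.card (Subgroup.centralizer ({t} : Set 𝒢)) = 1816657920 := by omega
  have h3 : Nat.card (Subgroup.centralizer ({s} : Set 𝒢)) = 21799895040 := by
    obtain ⟨P, hP⟩ := hz
    obtain ⟨Q, N, M, H, -, -⟩ := Cfsg.Agent.H856.ToHyp.exists_hyp hP
    exact CentS.card_cent_s H
  have h4 : IsConj d t := by
    rcases invol ht1 (EJ_sq ht) with h | h
    · have h5 := card_cent_of_conj h
      rw [h2, h3] at h5
      exact absurd h5 (by norm_num)
    · exact h
  have h6 : IsConj s z := by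
    have hz2 : orderOf z = 2 := by
      obtain ⟨P, hP⟩ := hz
      exact hP.1
    rcases invol (u := z) (by rintro rfl; rw [orderOf_one] at hz2; exact absurd hz2 (by norm_num))
      (by rw [← pow_two, ← hz2, pow_orderOf_eq_one]) with h | h
    · exact h
    · exact absurd (h.symm.trans h4) hzt
  exact ⟨z, t, hz, h6, ht, h4, hc, h2⟩

theorem cent_d_le : Subgroup.centralizer ({d} : Set 𝒢) ≤ Subgroup.normalizer (EJ : Set 𝒢) := by
  obtain ⟨z, t, hz, h1, h2, h3, h4, -⟩ := classes
  have ht1 : t ≠ 1 := (sq_of_conj d_mem d_ne h3).1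
  -- `t` is conjugate to `d` in `N(EJ)`
  obtain ⟨m, hm | hm⟩ := EJ_cases h2 ht1
  · exact absurd ((isConj_iff.2 ⟨phi m, hm.symm⟩).trans h3.symm) Cfsg.Agent.J4.Invol.not_isConj_s_d
  · intro x hx
    have h5 : phi m * x * (phi m)⁻¹ ∈ Subgroup.normalizer (EJ : Set 𝒢) := by
      apply h4
      rw [Subgroup.mem_centralizer_singleton_iff] at hx ⊢
      rw [hm]
      calc phi m * x * (phi m)⁻¹ * (phi m * d * (phi m)⁻¹) = phi m * (x * d) * (phi m)⁻¹ := by group
        _ = phi m * (d * x) * (phi m)⁻¹ := by rw [hx]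
        _ = _ := by group
    have h6 := Subgroup.mul_mem _ (Subgroup.mul_mem _ (Subgroup.inv_mem _ (phi_mem m)) h5) (phi_mem m)
    have h7 : (phi m)⁻¹ * (phi m * x * (phi m)⁻¹) * phi m = x := by group
    rw [h7] at h6
    exact h6

/-- a conjugate of `EJ` containing `d` is `EJ` -/
theorem norm_of_d_mem {g : 𝒢} (h : d ∈ cj g EJ) : g ∈ Subgroup.normalizer (EJ : Set 𝒢) := by
  rw [mem_cj] at h
  have h0 : IsConj d (g⁻¹ * d * g) := isConj_iff.2 ⟨g⁻¹, by group⟩
  obtain ⟨m, hm | hm⟩ := EJ_cases h (sq_of_conj d_mem d_ne h0).1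
  · exact absurd ((isConj_iff.2 ⟨phi m, hm.symm⟩).trans h0.symm) Cfsg.Agent.J4.Invol.not_isConj_s_d
  · have h1 : g * phi m ∈ Subgroup.centralizer ({d} : Set 𝒢) := by
      rw [Subgroup.mem_centralizer_singleton_iff]
      calc g * phi m * d = g * (phi m * d * (phi m)⁻¹) * phi m := by group
        _ = g * (g⁻¹ * d * g) * phi m := by rw [hm]
        _ = _ := by group
    have h2 := Subgroup.mul_mem _ (cent_d_le h1) (Subgroup.inv_mem _ (phi_mem m))
    have h3 : g * phi m * (phi m)⁻¹ = g := by group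
    rw [h3] at h2
    exact h2

theorem f4 : F4 geo := by
  intro t ht
  obtain ⟨g, rfl⟩ := isConj_iff.1 (show IsConj d t from ht)
  refine ⟨cj g EJ, ⟨g, rfl⟩, mem_cj.2 ?_, ?_, ?_⟩
  · have h : g⁻¹ * (g * d * g⁻¹) * g = d := by group
    rw [h]; exact d_mem
  · rintro _ ⟨k, rfl⟩ h
    have h1 : d ∈ cj (g⁻¹ * k) EJ := by
      rw [mem_cj] at h ⊢
      have h2 : (g⁻¹ * k)⁻¹ * d * (g⁻¹ * k) = k⁻¹ * (g * d * g⁻¹) * k := by group
      rw [h2]; exact h
    have h2 := cj_eq_iff.2 (norm_of_d_mem h1)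
    have h3 := congrArg (cj g) h2
    rw [cj_cj] at h3
    have h4 : g * (g⁻¹ * k) = k := by group
    rw [h4] at h3
    exact h3
  · intro x hx
    rw [normalizer_cj, mem_cj]
    apply cent_d_le
    rw [Subgroup.mem_centralizer_singleton_iff] at hx ⊢
    calc g⁻¹ * x * g * d = g⁻¹ * (x * (g * d * g⁻¹)) * g := by group
      _ = g⁻¹ * (g * d * g⁻¹ * x) * g := by rw [hx]
      _ = _ := by group

/-! ### F0 -/

theorem isPGroup_of_elem {P : Subgroup 𝒢} (h : El P) : IsPGroup 2 P := by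
  intro x
  exact ⟨1, Subtype.ext (by rw [pow_one, pow_two]; exact h.sq x x.2)⟩

theorem f0 : F0 geo := by
  have := finite_J
  have := simple_J
  intro e he
  rcases he with he | he
  · obtain ⟨z, t, hz, h1, -⟩ := classes
    have F := Cfsg.Agent.H821.J4MaxB.facts hz
    obtain ⟨g, rfl⟩ := isConj_iff.1 (h1.symm.trans he)
    set L := twoCoreOfCentralizer z with hL
    have hLz : L ≤ Subgroup.centralizer {z} := F.norm ▸ Subgroup.le_normalizer
    refine ⟨cj g L, ?_, ?_, ?_, ?_⟩
    · exact IsPGroup.of_card (n := 13) ((card_cj g L).trans F.card)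
    · intro x hx
      have h2 := hLz (mem_cj.1 hx)
      rw [Subgroup.mem_centralizer_singleton_iff] at h2 ⊢
      calc x * (g * z * g⁻¹) = g * (g⁻¹ * x * g * z) * g⁻¹ := by group
        _ = g * (z * (g⁻¹ * x * g)) * g⁻¹ := by rw [h2]
        _ = _ := by group
    · intro x hx
      rw [normalizer_cj, mem_cj, F.norm]
      rw [Subgroup.mem_centralizer_singleton_iff] at hx ⊢
      calc g⁻¹ * x * g * z = g⁻¹ * (x * (g * z * g⁻¹)) * g := by group
        _ = g⁻¹ * (g * z * g⁻¹ * x) * g := by rw [hx]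
        _ = _ := by group
    · rw [centralizer_cj]
      exact Subgroup.map_mono F.cent
  · obtain ⟨P, hP, h1, -, h3⟩ := f4 e he
    refine ⟨P, isPGroup_of_elem (f3.el P hP), ?_, h3, (f3.self P hP).le⟩
    intro x hx
    rw [Subgroup.mem_centralizer_singleton_iff]
    exact (f3.el P hP).comm x hx e h1

end Cfsg.Agent.H860.JM
end

-- part: H796/JM/Base
section
prune_inst 0x7f00000000000000000000000000000000000000000000000000000000000000000000000000000000000000000000000000000000000000000000000000000000000000000000000000000000000000003fffffffffffffffffffffffffffbeffbdffffffff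
set_option linter.all false
open scoped Cfsg.Agent.FastGrp

-- part: H796/JM/XGrp
section
/-!
# The self-centralising elementary abelian groups `X` of order `2^10` and the conjugates of `2^11` (helper796)

For a finite group `G` with the structure `J4Type.Compl G` (`E = C.E hex0` of order `2^11`):

* `noPure` : a subgroup of order 64 of `X` contains an involution not conjugate to `z`;
* `le_norm` (K1) : `|E ⊓ X| = 64` implies `X ≤ N(E)`;
* `octad_of` (K2) : if `X ≤ N(E)` then `X` is given by an octad `O`, `X ⊓ E = W(O)`, `|X ⊓ E| = 64`;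
* `eq_of_mem` (K3) : two such groups which have a common element outside `E` are equal;
* `exists_X` (K4) : existence of `X` containing a given involution over an element of `fixOct O`.
-/

set_option autoImplicit false

open scoped Pointwise

namespace Cfsg.Agent.H796.JM

open Cfsg Cfsg.Agent.SporadicA.GolayBase Cfsg.Agent.SporadicA.OctadFix
open Cfsg.Agent.J4Type Cfsg.Agent.J4Type.CocodeMask Cfsg.Agent.J4Type.TauM24
open Cfsg.Agent.J4Type.TauMask Cfsg.Agent.J4Type.FrameDefs
open Cfsg.Agent.J4.Beta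
open Cfsg.Agent.H857.Card Cfsg.Agent.H857.Classify Cfsg.Agent.H857.WGrp
open Cfsg.Agent.H857.Orbits Cfsg.Agent.H857.Normal
open Cfsg.Agent.H857.T10Rel Cfsg.Agent.H857.T10Act Cfsg.Agent.H857.T10Model
open Cfsg.Agent.H857.T10Tab

variable {G : Type*} [Group G]

/-- `X` is a self-centralising elementary abelian subgroup of order `2^10` -/
structure IsX (X : Subgroup G) : Prop where
  el : IsElem2 X
  card : Nat.card X = 2 ^ 10
  self : Subgroup.centralizer (X : Set G) = X

theorem IsX.smul [Finite G] {X : Subgroup G} (h : IsX X) (g : G) : IsX (MulAut.conj g • X) := by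
  refine ⟨Cfsg.Agent.H856.TwoEleven.isElem2_smul h.el g, ?_, ?_⟩
  · rw [Cfsg.Agent.H856.TwoEleven.card_smul, h.card]
  · ext x
    rw [mem_smul_iff]
    conv_rhs => rw [← h.self]
    rw [Subgroup.mem_centralizer_iff, Subgroup.mem_centralizer_iff]
    constructor
    · intro hx a ha
      have h1 := hx (g * a * g⁻¹) (conj_mem_smul.2 ha)
      calc a * (g⁻¹ * x * g) = g⁻¹ * (g * a * g⁻¹ * x) * g := by group
        _ = g⁻¹ * (x * (g * a * g⁻¹)) * g := by rw [h1]
        _ = _ := by group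
    · intro hx a ha
      rw [SetLike.mem_coe, mem_smul_iff] at ha
      have h1 := hx _ ha
      calc a * x = g * (g⁻¹ * a * g * (g⁻¹ * x * g)) * g⁻¹ := by group
        _ = g * (g⁻¹ * x * g * (g⁻¹ * a * g)) * g⁻¹ := by rw [h1]
        _ = _ := by group

/-! ### no pure subgroup of order 64 -/

/-- the orbit of length 155 as a set of bits -/
def bA : ℕ := bset 155 arrA

theorem bA_all : ((List.range 155).all fun j => bA.testBit (tget arrA j)) = true := by
  decide +kernel

theorem bA_count : ((Finset.range 155).filter fun i => bA.testBit (tget arrA i ^^^ 1) = true).card ≤ 42 := by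
  decide +kernel

section

variable [Finite G] {Xx E : Fin 5 → Fin 5 → G}

theorem tget_lt (t i : ℕ) : tget t i < 2 ^ 10 := Nat.mod_lt _ (by norm_num)

/-- a pure subgroup of the model which contains `beta 1` has order at most 44 -/
theorem model_lt (h : Rel5 Xx E) (hinj : ∀ v < 1024, beta (bl E) v = 1 → v = 0) {U : Subgroup G}
    (h1 : beta (bl E) 1 ∈ U)
    (hp : ∀ u ∈ U, u ≠ 1 → ∃ i < 155, beta (bl E) (tget arrA i) = u) : Nat.card U < 64 := by
  classical
  have hxor := beta_xor _ (bl_sq h) (bl_comm h)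
  have hinj' : ∀ v < 2 ^ 10, ∀ w < 2 ^ 10, beta (bl E) v = beta (bl E) w → v = w := by
    intro v hv w hw hvw
    have h2 := hxor v w
    rw [hvw, beta_sq _ (bl_sq h) (bl_comm h)] at h2
    have h3 := hinj _ (Nat.xor_lt_two_pow hv hw) h2
    exact Nat.xor_eq_zero_iff.1 h3
  let S : Finset ℕ := (Finset.range 155).filter fun i => bA.testBit (tget arrA i ^^^ 1) = true
  let T : Finset G := insert 1 (insert (beta (bl E) 1) (S.image fun i => beta (bl E) (tget arrA i)))
  have hT : T.card ≤ 44 := by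
    have h2 : (S.image fun i => beta (bl E) (tget arrA i)).card ≤ 42 :=
      Finset.card_image_le.trans bA_count
    have h3 := Finset.card_insert_le (1 : G) (insert (beta (bl E) 1) (S.image fun i => beta (bl E) (tget arrA i)))
    have h4 := Finset.card_insert_le (beta (bl E) 1) (S.image fun i => beta (bl E) (tget arrA i))
    show (insert 1 (insert (beta (bl E) 1) (S.image fun i => beta (bl E) (tget arrA i)))).card ≤ 44
    omega
  have hUT : ∀ u ∈ U, u ∈ T := by
    intro u hu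
    by_cases hu1 : u = 1
    · exact Finset.mem_insert.2 (Or.inl hu1)
    by_cases hu2 : u = beta (bl E) 1
    · exact Finset.mem_insert.2 (Or.inr (Finset.mem_insert.2 (Or.inl hu2)))
    obtain ⟨i, hi, rfl⟩ := hp u hu hu1
    have h3 : beta (bl E) (tget arrA i) * beta (bl E) 1 ∈ U := U.mul_mem hu h1
    have h4 : beta (bl E) (tget arrA i) * beta (bl E) 1 ≠ 1 := by
      intro h5
      apply hu2
      rw [eq_inv_of_mul_eq_one_left h5]
      exact inv_eq_of_mul_eq_one_left (beta_sq _ (bl_sq h) (bl_comm h) 1)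
    obtain ⟨j, hj, h5⟩ := hp _ h3 h4
    rw [← hxor] at h5
    have h6 : tget arrA j = tget arrA i ^^^ 1 :=
      hinj' _ (tget_lt _ _) _ (Nat.xor_lt_two_pow (tget_lt _ _) (by norm_num)) h5
    have h7 : bA.testBit (tget arrA j) = true := List.all_eq_true.1 bA_all j (List.mem_range.2 hj)
    refine Finset.mem_insert.2 (Or.inr (Finset.mem_insert.2 (Or.inr (Finset.mem_image.2 ⟨i, ?_, rfl⟩))))
    exact Finset.mem_filter.2 ⟨Finset.mem_range.2 hi, by rw [← h6]; exact h7⟩
  have h8 : Nat.card U ≤ T.card := by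
    have h9 : Nat.card U ≤ Nat.card T :=
      Nat.card_le_card_of_injective (fun a : U => (⟨a, hUT _ a.2⟩ : T))
        (fun a b h => Subtype.ext (congrArg (fun u : T => (u : G)) h))
    rwa [Nat.card_eq_fintype_card (α := T), Fintype.card_coe] at h9
  omega

end

/-- **no pure 2A subgroup of order 64** -/
theorem noPure [Finite G] [IsSimpleGroup G] (C : J4Type.Compl G) {X U : Subgroup G} (hX : IsX X)
    (hU : U ≤ X) (hc : 64 ≤ Nat.card U) : ∃ u ∈ U, u ≠ 1 ∧ ¬ IsConj C.z u := by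
  classical
  obtain ⟨Xx, E, hR, hA, hcard, hz, ⟨p, -, q, -, hpq, hb⟩, hinj⟩ := exists_model C
  have hab : ¬ IsConj (beta (bl E) 1) (beta (bl E) 26) := by
    intro h1
    rw [hb] at h1
    exact C.duad_not_conj p q hpq (hz.trans h1)
  obtain ⟨g, hg⟩ := exists_eq C hX.el hX.card (Cfsg.Agent.H857.T10Main.not_le C hX.card hX.self) O0_mem
  by_contra hno
  push Not at hno
  have hcase : ∀ q ∈ A0 E, q ≠ 1 → IsConj C.z q → q ∈ orb (A0 E) (beta (bl E) 1) ∧
      ∃ i < 155, beta (bl E) (tget arrA i) = q := by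
    intro q hq hq1 hqz
    rcases orb_cases hR hq hq1 with h | ⟨⟨n, -, hn⟩, -⟩
    · exact h
    · exact absurd ((hz.symm.trans hqz).trans (isConj_iff.2 ⟨n, hn⟩).symm) hab
  have hsub : ∀ V : Subgroup G, V ≤ A0 E → 64 ≤ Nat.card V → (∀ u ∈ V, u ≠ 1 → IsConj C.z u) →
      beta (bl E) 1 ∈ V → False := by
    intro V hV hVc hp h1
    have h2 := model_lt hR hinj h1 (fun u hu hu1 => (hcase u (hV hu) hu1 (hp u hu hu1)).2)
    omega
  -- the conjugate of `U` in the model
  have hU1 : MulAut.conj g • U ≤ A0 E := by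
    rw [hA, ← hg]
    exact Subgroup.pointwise_smul_le_pointwise_smul_iff.2 hU
  have hp1 : ∀ u ∈ MulAut.conj g • U, u ≠ 1 → IsConj C.z u := by
    intro u hu hu1
    rw [mem_smul_iff] at hu
    have h1 : g⁻¹ * u * g ≠ 1 := by
      intro h
      apply hu1
      have h2 : u = g * (g⁻¹ * u * g) * g⁻¹ := by group
      rw [h2, h]; group
    exact (hno _ hu h1).trans (isConj_iff.2 ⟨g, by group⟩)
  have hc1 : 64 ≤ Nat.card (MulAut.conj g • U : Subgroup G) := by
    rw [Cfsg.Agent.H856.TwoEleven.card_smul]; exact hc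
  obtain ⟨a, ha, ha1⟩ : ∃ a ∈ MulAut.conj g • U, a ≠ 1 := by
    by_contra h
    push Not at h
    have h1 : MulAut.conj g • U = ⊥ := (Subgroup.eq_bot_iff_forall _).2 h
    rw [h1, Subgroup.card_bot] at hc1
    omega
  obtain ⟨n, hn, hna⟩ := (hcase a (hU1 ha) ha1 (hp1 a ha ha1)).1
  apply hsub (MulAut.conj n⁻¹ • (MulAut.conj g • U))
  · intro u hu
    rw [mem_smul_iff, inv_inv] at hu
    have h1 := (Subgroup.mem_normalizer_iff.1 hn u).2 (hU1 hu)
    exact h1
  · rw [Cfsg.Agent.H856.TwoEleven.card_smul]; exact hc1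
  · intro u hu hu1
    rw [mem_smul_iff, inv_inv] at hu
    have h1 : n * u * n⁻¹ ≠ 1 := by
      intro h
      apply hu1
      have h2 : u = n⁻¹ * (n * u * n⁻¹) * n := by group
      rw [h2, h]; group
    exact (hp1 _ hu h1).trans (isConj_iff.2 ⟨n⁻¹, by group⟩)
  · rw [mem_smul_iff, inv_inv, hna]
    exact ha

/-! ### K1, K2 -/

/-- an involution of `E` is conjugate to `z` or a duad -/
theorem duad_of_not_conj (F : Frame G) {u : G} (hu : u ∈ F.E hex0) (hu1 : u ≠ 1)
    (huz : ¬ IsConj F.z u) : ∃ p q : GolayPt, p ≠ q ∧ u = F.ε {p, q} := by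
  by_contra hd
  obtain ⟨n, -, hn⟩ := (mem_orb_z (K := F)).2 ⟨hu, hu1, hd⟩
  exact huz (isConj_iff.2 ⟨n, hn⟩)

/-- (K1) -/
theorem le_norm [Finite G] [IsSimpleGroup G] (C : J4Type.Compl G) {X : Subgroup G} (hX : IsX X)
    (h : 64 ≤ Nat.card (X ⊓ C.E hex0 : Subgroup G)) :
    X ≤ Subgroup.normalizer (C.E hex0 : Set G) := by
  obtain ⟨u, hu, hu1, huz⟩ := noPure C hX inf_le_left h
  obtain ⟨p, q, hpq, rfl⟩ := duad_of_not_conj C.toFrame hu.2 hu1 huz
  intro x hx
  exact DuadCent.duad_cent C.toFrame hpq (hX.el.2 x hx _ hu.1)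

/-- (K2) -/
theorem octad_of [Finite G] (C : J4Type.Compl G) {X : Subgroup G} (hX : IsX X)
    (hN : X ≤ Subgroup.normalizer (C.E hex0 : Set G)) :
    ∃ O ∈ octads, im C.toFrame X = fixOct O ∧ X ⊓ C.E hex0 = WG C.toFrame O := by
  refine classify C.toFrame hX.el.1 hN hX.card ?_
  have h := Cfsg.Agent.H857.T10Main.not_le C hX.card hX.self 1
  rwa [map_one, one_smul] at h

theorem card_inf_E [Finite G] (C : J4Type.Compl G) {X : Subgroup G} (hX : IsX X)
    (hN : X ≤ Subgroup.normalizer (C.E hex0 : Set G)) :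
    Nat.card (X ⊓ C.E hex0 : Subgroup G) = 64 := by
  obtain ⟨O, hO, him, -⟩ := octad_of C hX hN
  have h1 := card_eq_mul C.toFrame hN
  rw [him, card_fixOct hO, hX.card] at h1
  omega

/-! ### K3 -/

/-- (K3) two groups `X` with a common element outside `E` are equal -/
theorem eq_of_mem [Finite G] (C : J4Type.Compl G) {X X' : Subgroup G} (hX : IsX X) (hX' : IsX X')
    (hN : X ≤ Subgroup.normalizer (C.E hex0 : Set G))
    (hN' : X' ≤ Subgroup.normalizer (C.E hex0 : Set G)) {w : G} (hw : w ∈ X) (hw' : w ∈ X')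
    (hwE : w ∉ C.E hex0) : X = X' := by
  obtain ⟨O, hO, him, hW⟩ := octad_of C hX hN
  obtain ⟨O', hO', him', hW'⟩ := octad_of C hX' hN'
  set σ := C.π ⟨w, hN hw⟩ with hσ
  have hσ1 : σ ≠ 1 := fun h => hwE ((C.π_ker ⟨w, hN hw⟩).1 h)
  have hσO : (σ : Equiv.Perm GolayPt) ∈ fixOct O := by
    rw [← him]
    exact (mem_im C.toFrame).2 ⟨⟨w, hN hw⟩, hw, rfl⟩
  have hσO' : (σ : Equiv.Perm GolayPt) ∈ fixOct O' := by
    rw [← him']
    exact (mem_im C.toFrame).2 ⟨⟨w, hN hw⟩, hw', rfl⟩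
  have hOO : O = O' := by
    by_contra hne
    exact hσ1 (Subtype.ext (OctadFixTrans.fix_inf hO hO' hne hσO hσO'))
  subst hOO
  obtain ⟨p, hp⟩ := FusionComm.exists_out hO
  have hpσ : p ≠ (σ : Equiv.Perm GolayPt) p := by
    intro h
    exact hσ1 (Subtype.ext (OctadFixTrans.eq_one_of_fix hO hσO hp h.symm))
  have hWX : WG C.toFrame O ≤ X := by rw [← hW]; exact inf_le_left
  -- the elements over `τ ≠ 1, σ`
  have key : ∀ x' ∈ X', ∀ hx' : x' ∈ Subgroup.normalizer (C.E hex0 : Set G),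
      C.π ⟨x', hx'⟩ ≠ 1 → C.π ⟨x', hx'⟩ ≠ σ → x' ∈ X := by
    intro x' hx'X hx' h1 hσ'
    have hτ : (C.π ⟨x', hx'⟩ : Equiv.Perm GolayPt) ∈ fixOct O := by
      rw [← him']
      exact (mem_im C.toFrame).2 ⟨⟨x', hx'⟩, hx'X, rfl⟩
    rw [← him] at hτ
    obtain ⟨x, hxX, hx⟩ := (mem_im C.toFrame).1 hτ
    rw [him] at hτ
    have hx2 : C.π x = C.π ⟨x', hx'⟩ := Subtype.ext hx
    set d := (x : G)⁻¹ * x' with hd
    have hdE : d ∈ C.E hex0 := by
      have h2 : C.π (x⁻¹ * ⟨x', hx'⟩) = 1 := by rw [map_mul, map_inv, hx2, inv_mul_cancel]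
      exact (C.π_ker _).1 h2
    have hxx : (x : G) * x = 1 := hX.el.1 _ hxX
    have hx'x' : x' * x' = 1 := hX'.el.1 _ hx'X
    have hdd : d * d = 1 := E_sq hdE
    have hx'd : x' = x * d := by rw [hd]; group
    have hxinv : (x : G)⁻¹ = x := inv_eq_of_mul_eq_one_left hxx
    have hxd : (x : G) * d = d * x := by
      have h2 : (x : G) * d * (x * d) = 1 := by rw [← hx'd]; exact hx'x'
      calc (x : G) * d = (x * d) * ((x * d) * (x * d)) := by rw [h2, mul_one]
        _ = (x * d * (x * d)) * (x * d) := by group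
        _ = x * d := by rw [h2, one_mul]
        _ = (x * d)⁻¹ := (inv_eq_of_mul_eq_one_left h2).symm
        _ = d⁻¹ * (x : G)⁻¹ := by group
        _ = d * x := by rw [inv_eq_of_mul_eq_one_left hdd, hxinv]
    have hwd : w * d = d * w := by
      have h2 := hX.el.2 w hw x hxX
      have h3 := hX'.el.2 w hw' x' hx'X
      calc w * d = w * x * x' := by rw [hd, hxinv]; group
        _ = x * (w * x') := by rw [h2]; group
        _ = x * (x' * w) := by rw [h3]
        _ = d * w := by rw [hd, hxinv]; group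
    have hc := cases_of_comm (F := C.toFrame) hO (n := ⟨w, hN hw⟩) hσO hσ1 hp hdE hwd
    rcases hc with hc | hc
    · rw [hx'd]
      exact X.mul_mem hxX (hWX hc)
    · exfalso
      have hε : (x : G) * C.ε {p, (σ : Equiv.Perm GolayPt) p} =
          C.ε {p, (σ : Equiv.Perm GolayPt) p} * x := by
        have h2 := hX.el.2 _ hxX _ (hWX hc)
        have h3 : C.ε {p, (σ : Equiv.Perm GolayPt) p} =
            d * (d * C.ε {p, (σ : Equiv.Perm GolayPt) p}) := by
          rw [← mul_assoc, hdd, one_mul]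
        calc (x : G) * C.ε {p, (σ : Equiv.Perm GolayPt) p}
            = x * (d * (d * C.ε {p, (σ : Equiv.Perm GolayPt) p})) := by rw [← h3]
          _ = x * d * (d * C.ε {p, (σ : Equiv.Perm GolayPt) p}) := by group
          _ = d * (x * (d * C.ε {p, (σ : Equiv.Perm GolayPt) p})) := by rw [hxd]; group
          _ = d * (d * C.ε {p, (σ : Equiv.Perm GolayPt) p} * x) := by rw [h2]
          _ = d * (d * C.ε {p, (σ : Equiv.Perm GolayPt) p}) * x := by group
          _ = _ := by rw [← h3]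
      rw [← hx2] at h1 hσ' hτ
      rcases duad_comm hpσ hε with h | h
      · exact h1 (Subtype.ext (OctadFixTrans.eq_one_of_fix hO hτ hp h))
      · apply hσ'
        apply Subtype.ext
        have h2 : (σ : Equiv.Perm GolayPt)⁻¹ * (C.π x : Equiv.Perm GolayPt) = 1 :=
          OctadFixTrans.eq_one_of_fix hO ((fixOct O).mul_mem ((fixOct O).inv_mem hσO) hτ) hp (by
            rw [Equiv.Perm.mul_apply, h]
            exact (σ : Equiv.Perm GolayPt).symm_apply_apply p)
        exact (inv_mul_eq_one.1 h2).symm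
  have hle : X' ≤ X := by
    intro x' hx'X
    have hx' := hN' hx'X
    by_cases h1 : C.π ⟨x', hx'⟩ = 1
    · have h2 : x' ∈ X' ⊓ C.E hex0 := ⟨hx'X, (C.π_ker ⟨x', hx'⟩).1 h1⟩
      rw [hW'] at h2
      exact hWX h2
    by_cases h2 : C.π ⟨x', hx'⟩ = σ
    · obtain ⟨τ, hτ, hτn⟩ : ∃ τ ∈ fixOct O, τ ∉ ({1, (σ : Equiv.Perm GolayPt)} : Finset _) := by
        classical
        apply FusionOne.exists_mem_notMem
        rw [card_fixOct hO]
        have := Finset.card_le_two (a := (1 : Equiv.Perm GolayPt)) (b := (σ : Equiv.Perm GolayPt))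
        omega
      simp only [Finset.mem_insert, Finset.mem_singleton, not_or] at hτn
      have hτ' := hτ
      rw [← him'] at hτ'
      obtain ⟨y, hyX, hy⟩ := (mem_im C.toFrame).1 hτ'
      have hy1 : C.π y ≠ 1 := fun h => hτn.1 (by rw [← hy, h]; rfl)
      have hyσ : C.π y ≠ σ := fun h => hτn.2 (by rw [← hy, h])
      have hyX' : (y : G) ∈ X := key y hyX y.2 hy1 hyσ
      have h3 : C.π (⟨x', hx'⟩ * y) = σ * C.π y := by rw [map_mul, h2]
      have hσσ : σ * σ = 1 := Subtype.ext (fixOct_sq hO hσO)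
      have h4 : x' * y ∈ X := by
        apply key (x' * y) (X'.mul_mem hx'X hyX) (mul_mem hx' y.2)
        · intro h
          have h5 : σ * C.π y = 1 := by rw [← h3]; exact h
          apply hyσ
          rw [eq_inv_of_mul_eq_one_right h5]
          exact inv_eq_of_mul_eq_one_left hσσ
        · intro h
          have h5 : σ * C.π y = σ := by rw [← h3]; exact h
          exact hy1 (mul_eq_left.1 h5)
      have h5 := X.mul_mem h4 (X.inv_mem hyX')
      rwa [mul_inv_cancel_right] at h5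
    · exact key x' hx'X hx' h1 h2
  exact (Subgroup.eq_of_le_of_card_ge hle (by rw [hX.card, hX'.card])).symm

/-! ### K4 -/

theorem isX_AG [Finite G] [IsSimpleGroup G] (C : J4Type.Compl G) {O : Finset GolayPt}
    (hO : O ∈ octads) : IsX (AG C O) := by
  refine ⟨⟨AG_sq hO, fun a ha b hb => comm_of_sq (AG_sq hO) a ha b hb⟩, ?_, AG_cent C hO⟩
  obtain ⟨Xx, E, -, hA, hcard, -, -, -⟩ := exists_model C
  obtain ⟨p, hp⟩ := FusionComm.exists_out hO
  obtain ⟨p', hp'⟩ := FusionComm.exists_out O0_mem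
  obtain ⟨k, hk, hkO, -⟩ :=
    Cfsg.Agent.SporadicStructure.M24Frame.exists_smul_octad O0_mem hO hp' hp
  have h1 := smul_AG (C := C) ⟨k, hk⟩ O0
  have h2 : (((⟨k, hk⟩ : M24) : Equiv.Perm GolayPt) • O0 : Finset GolayPt) = O := hkO
  rw [h2] at h1
  rw [← h1, Cfsg.Agent.H856.TwoEleven.card_smul, ← hA, hcard]
  norm_num

/-- the octad of `X` is determined by an element outside `E` -/
theorem octad_eq [Finite G] (C : J4Type.Compl G) {X : Subgroup G} (hX : IsX X)
    (hN : X ≤ Subgroup.normalizer (C.E hex0 : Set G)) {O : Finset GolayPt} (hO : O ∈ octads) {w : G}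
    (hwX : w ∈ X) (hw : w ∈ Subgroup.normalizer (C.E hex0 : Set G))
    (hwO : (C.π ⟨w, hw⟩ : Equiv.Perm GolayPt) ∈ fixOct O) (hw1 : C.π ⟨w, hw⟩ ≠ 1) :
    im C.toFrame X = fixOct O ∧ X ⊓ C.E hex0 = WG C.toFrame O := by
  obtain ⟨O', hO', him, hW⟩ := octad_of C hX hN
  have h1 : (C.π ⟨w, hw⟩ : Equiv.Perm GolayPt) ∈ fixOct O' := by
    rw [← him]
    exact (mem_im C.toFrame).2 ⟨⟨w, hw⟩, hwX, rfl⟩
  have h2 : O' = O := by
    by_contra hne
    exact hw1 (Subtype.ext (OctadFixTrans.fix_inf hO' hO hne h1 hwO))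
  subst h2
  exact ⟨him, hW⟩

/-- (K4) an involution over an element of `fixOct O` is in a group `X` -/
theorem exists_X [Finite G] [IsSimpleGroup G] (C : J4Type.Compl G) {O : Finset GolayPt}
    (hO : O ∈ octads) {w : G} (hw : w ∈ Subgroup.normalizer (C.E hex0 : Set G)) (hww : w * w = 1)
    (hwO : (C.π ⟨w, hw⟩ : Equiv.Perm GolayPt) ∈ fixOct O) (hw1 : C.π ⟨w, hw⟩ ≠ 1) :
    ∃ X : Subgroup G, IsX X ∧ w ∈ X ∧ X ≤ Subgroup.normalizer (C.E hex0 : Set G) ∧
      im C.toFrame X = fixOct O ∧ X ⊓ C.E hex0 = WG C.toFrame O := by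
  obtain ⟨p, hp⟩ := FusionComm.exists_out hO
  have hne : O.Nonempty := by
    rw [← Finset.card_pos, octad_card hO]; norm_num
  obtain ⟨o, ho⟩ := hne
  have hpo : p ≠ o := fun h => hp (h ▸ ho)
  set b := C.π ⟨w, hw⟩ with hb
  have he := div_mem (C := C) hw
  rw [← hb] at he
  set e := w * (C.φ b)⁻¹ with hedef
  have hwe : w = e * C.φ b := by rw [hedef]; group
  have hee := E_sq he
  have hbb := φ_sq (C := C) hO hwO
  have hcomm : C.φ b * e = e * C.φ b := by
    rw [hwe] at hww
    calc C.φ b * e = (e * e) * (C.φ b * e) * (C.φ b * C.φ b) := by rw [hee, hbb, one_mul, mul_one]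
      _ = e * (e * C.φ b * (e * C.φ b)) * C.φ b := by group
      _ = e * C.φ b := by rw [hww, mul_one]
  have hpb : p ≠ (b : Equiv.Perm GolayPt) p := by
    intro h
    exact hw1 (Subtype.ext (OctadFixTrans.eq_one_of_fix hO hwO hp h.symm))
  have hπ : C.π ⟨C.φ b, C.φ_mem b⟩ = b := C.π_φ b
  have hc := cases_of_comm (F := C.toFrame) hO (n := ⟨C.φ b, C.φ_mem b⟩) (by rw [hπ]; exact hwO)
    (by rw [hπ]; exact hw1) hp he hcomm
  rw [hπ] at hc
  have fin : ∀ X : Subgroup G, IsX X → w ∈ X → X ≤ Subgroup.normalizer (C.E hex0 : Set G) →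
      ∃ X : Subgroup G, IsX X ∧ w ∈ X ∧ X ≤ Subgroup.normalizer (C.E hex0 : Set G) ∧
        im C.toFrame X = fixOct O ∧ X ⊓ C.E hex0 = WG C.toFrame O := by
    intro X h1 h2 h3
    exact ⟨X, h1, h2, h3, octad_eq C h1 h3 hO h2 hw hwO hw1⟩
  rcases hc with h | h
  · exact fin (AG C O) (isX_AG C hO) ⟨e, h, b, hwO, hwe.symm⟩ (AG_le_norm O)
  · set g := C.ε {p, o} with hg
    have hgE : g ∈ C.E hex0 := C.ε_mem _ (even_pair' hpo)
    have hgg : g * g = 1 := E_sq hgE
    have hginv : g⁻¹ = g := inv_eq_of_mul_eq_one_right hgg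
    have hgN : g ∈ Subgroup.normalizer (C.E hex0 : Set G) := E_le C.toFrame hgE
    refine fin (MulAut.conj g • AG C O) ((isX_AG C hO).smul g) ?_ ?_
    · rw [mem_smul_iff]
      refine ⟨e * C.ε {p, (b : Equiv.Perm GolayPt) p}, h, b, hwO, ?_⟩
      have hbo : (b : Equiv.Perm GolayPt) o = o := (mem_fixOct.1 hwO).2 o ho
      have h2 := TauMain.φ_ε C b (even_pair' hpo)
      have h3 : (b : Equiv.Perm GolayPt) • ({p, o} : Finset GolayPt) =
          {(b : Equiv.Perm GolayPt) p, o} := by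
        rw [Finset.smul_finset_insert, Finset.smul_finset_singleton]
        show ({(b : Equiv.Perm GolayPt) p, (b : Equiv.Perm GolayPt) o} : Finset GolayPt) = _
        rw [hbo]
      rw [h3] at h2
      have hbpo : (b : Equiv.Perm GolayPt) p ≠ o := by
        intro h4
        exact hpo ((b : Equiv.Perm GolayPt).injective (h4.trans hbo.symm))
      have h4 : g * C.φ b * g = C.ε {p, (b : Equiv.Perm GolayPt) p} * C.φ b := by
        have h5 : C.φ b * g = C.ε {(b : Equiv.Perm GolayPt) p, o} * C.φ b :=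
          mul_inv_eq_iff_eq_mul.1 h2
        rw [mul_assoc, h5, ← mul_assoc, hg, Finset.pair_comm p o,
          Finset.pair_comm ((b : Equiv.Perm GolayPt) p) o,
          ε_pair_mul (F := C.toFrame) (Ne.symm hpo) (Ne.symm hbpo) hpb]
      have h6 : g * e = e * g := (C.E_elem hex0 HexMax.hex0_isHex).2 g hgE e he
      rw [hginv, hwe]
      calc e * C.ε {p, (b : Equiv.Perm GolayPt) p} * C.φ b
          = e * (g * C.φ b * g) := by rw [h4, mul_assoc]
        _ = e * g * C.φ b * g := by group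
        _ = g * e * C.φ b * g := by rw [h6]
        _ = g * (e * C.φ b) * g := by group
    · intro v hv
      rw [mem_smul_iff] at hv
      have h1 := AG_le_norm O hv
      have h2 : v = g * (g⁻¹ * v * g) * g⁻¹ := by group
      rw [h2]
      exact mul_mem (mul_mem hgN h1) (inv_mem hgN)

end Cfsg.Agent.H796.JM
end

-- part: H796/JM/Base
section
/-!
# The geometry of `Spor.J4` and the structure `J4Type.Compl` (helper796)

`exists_link` : there is `C : J4Type.Compl Spor.J4` such that 2A = the class of `C.z`, the points are the conjugates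
of `C.E hex0`, and the duads `C.ε {p, q}` are 2B.
-/

set_option autoImplicit false

open scoped Pointwise

namespace Cfsg.Agent.H796.JM

open Cfsg Cfsg.Agent.H860.JM
open Cfsg.Agent.J4Type
open Cfsg.Agent.J4.Invol (EJ s d)

/-- the group `Spor.J4` -/
local notation "𝒢" => Cfsg.Spor.J4

theorem cj_eq {G : Type*} [Group G] (g : G) (P : Subgroup G) : cj g P = MulAut.conj g • P := by
  ext x
  rw [mem_cj, Cfsg.Agent.H857.Orbits.mem_smul_iff]

/-- the link between the geometry `geo` and a structure `C` -/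
structure Link (C : J4Type.Compl 𝒢) : Prop where
  A : ∀ u, geo.A u ↔ IsConj C.z u
  Pt : ∀ P : Subgroup 𝒢, geo.Pt P ↔ ∃ g : 𝒢, P = MulAut.conj g • C.E hex0
  B : ∀ p q : GolayPt, p ≠ q → geo.B (C.ε {p, q})
  exB : ∀ u, geo.B u → ∃ (g : 𝒢) (p q : GolayPt), p ≠ q ∧ g * C.ε {p, q} * g⁻¹ = u

theorem xc_iff {X : Subgroup 𝒢} : geo.Xc X ↔ IsX X := by
  constructor
  · rintro ⟨h1, h2, h3⟩
    exact ⟨Cfsg.Agent.H857.T10Main.isElem2_of h1, h2, h3⟩
  · rintro ⟨h1, h2, h3⟩
    exact ⟨Cfsg.Agent.H857.T10Main.elementary_of h1.1, h2, h3⟩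

theorem exists_link : ∃ C : J4Type.Compl 𝒢, Link C := by
  have := simple_J
  have := finite_J
  obtain ⟨z, t, hz, hsz, -, -, -, -⟩ := classes
  obtain ⟨P, hP⟩ := hz
  obtain ⟨Q, N, M, H, -, -⟩ := Cfsg.Agent.H856.ToHyp.exists_hyp hP
  obtain ⟨C, -, hCz, -⟩ := Cfsg.Agent.H856.Bridge.exists_compl_of_hyp H
  have hA : ∀ u, geo.A u ↔ IsConj C.z u := by
    intro u
    rw [hCz]
    exact ⟨fun h => hsz.symm.trans h, fun h => hsz.trans h⟩
  have hEJ : IsElem2 EJ := ⟨fun a ha => EJ_sq ha, fun a ha b hb => EJ_comm ha hb⟩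
  obtain ⟨g, hg⟩ := Cfsg.Agent.H856.TwoEleven.exists_conj_E C.toHex hEJ card_EJ.ge
  have hPt : ∀ P : Subgroup 𝒢, geo.Pt P ↔ ∃ g : 𝒢, P = MulAut.conj g • C.E hex0 := by
    intro P
    constructor
    · rintro ⟨k, rfl⟩
      refine ⟨k * g⁻¹, ?_⟩
      rw [cj_eq, ← hg, ← mul_smul, ← map_mul, inv_mul_cancel_right]
    · rintro ⟨k, rfl⟩
      refine ⟨k * g, ?_⟩
      rw [cj_eq, ← hg, ← mul_smul, ← map_mul]
  have hB : ∀ p q : GolayPt, p ≠ q → geo.B (C.ε {p, q}) := by
    intro p q hpq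
    have h1 : C.ε {p, q} ∈ C.E hex0 := C.ε_mem _ (Cfsg.Agent.H857.WGrp.even_pair' hpq)
    have h2 : C.ε {p, q} ≠ 1 := DuadUniq.duad_ne_one C.toFrame hpq
    rcases f1.invol _ h2 (Cfsg.Agent.H857.WGrp.E_sq h1) with h | h
    · exact absurd ((hA _).1 h) (C.duad_not_conj p q hpq)
    · exact h
  refine ⟨C, hA, hPt, hB, ?_⟩
  intro u hu
  have h1 : geo.B (C.ε {none, some 0}) := hB _ _ (by decide)
  obtain ⟨k, hk⟩ := isConj_iff.1 (h1.symm.trans hu)
  exact ⟨k, none, some 0, by decide, hk⟩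

end Cfsg.Agent.H796.JM
end
end

-- part: H752/JM/Twelve_mg
section
prune_inst 0x7ffefffbaffebfffffff7e7fffffdffffbfdffffffdffbfbfffdffffafdf6ffffbf5fbafffef7affbef6f2be32f87bfbffffefffeffbdd7fffff5ffc7fffffdfffffffaf7dffbcbf1ffe6fffffffffff7f3fffffffffffffffffffffffffffffffffffffffff
set_option linter.all false
open scoped Cfsg.Agent.FastGrp

-- part: H752/JM/Duads
section
/-!
# J₄: the group `F_w` of an involution `w` of `N(E)` outside `E` (helper752)

For `n : NE F` inducing an involution `σ` on the 24 points: the elements `ε {x, σ x} * ε {y, σ y}`.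
-/

set_option autoImplicit false

open scoped Pointwise

namespace Cfsg.Agent.H752.JM

open Cfsg Cfsg.Agent.SporadicA.GolayBase Cfsg.Agent.SporadicA.OctadFix
open Cfsg.Agent.J4Type Cfsg.Agent.J4Type.CocodeMask Cfsg.Agent.J4Type.CloseInst
open Cfsg.Agent.J4Type.CocodeAct Cfsg.Agent.J4Type.TauM24 Cfsg.Agent.J4Type.TauMask
open Cfsg.Agent.J4Type.FrameDefs (NE)
open Cfsg.Agent.H857.Fix Cfsg.Agent.H857.WGrp Cfsg.Agent.H860.JM

variable {G : Type*} [Group G]

section

variable {F : Frame G}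

theorem pair_swap {x y x' y' : GolayPt} (h1 : x ≠ y) (h2 : x' ≠ y') (h3 : x ≠ x') (h4 : y ≠ y') :
    F.ε {x, y} * F.ε {x', y'} = F.ε {x, x'} * F.ε {y, y'} := by
  rw [← c_du h1, ← c_du h2, ← c_du h3, ← c_du h4, ← c_xor F (ev_du _ _) (ev_du _ _),
    ← c_xor F (ev_du _ _) (ev_du _ _)]
  congr 2
  simp only [du]
  ac_rfl

theorem pair_sq {x y : GolayPt} (h : x ≠ y) : F.ε {x, y} * F.ε {x, y} = 1 :=
  FrameDefs.ε_sq F (even_pair' h)

theorem pair_inv {x y : GolayPt} (h : x ≠ y) : (F.ε {x, y})⁻¹ = F.ε {x, y} :=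
  inv_eq_of_mul_eq_one_left (pair_sq h)

theorem pair_mem {x y : GolayPt} (h : x ≠ y) : F.ε {x, y} ∈ F.E hex0 := F.ε_mem _ (even_pair' h)

/-- the permutation of the points -/
abbrev sg (n : NE F) : Equiv.Perm GolayPt := (F.π n : Equiv.Perm GolayPt)

theorem conj_pair (n : NE F) {x y : GolayPt} (h : x ≠ y) :
    (n : G) * F.ε {x, y} * (n : G)⁻¹ = F.ε {sg n x, sg n y} := by
  have h1 := F.π_smul n {x, y} (even_pair' h)
  rw [DuadM24.smul_pair] at h1
  exact h1

/-- the element `ε {x, σ x} * ε {y, σ y}` -/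
def dd (n : NE F) (x y : GolayPt) : G := F.ε {x, sg n x} * F.ε {y, sg n y}

theorem dd_mem {n : NE F} {x y : GolayPt} (hx : sg n x ≠ x) (hy : sg n y ≠ y) :
    dd n x y ∈ F.E hex0 := (F.E hex0).mul_mem (pair_mem hx.symm) (pair_mem hy.symm)

/-- `v w` is a conjugate of `w` -/
theorem dd_conj {n : NE F} {x y : GolayPt} (hxy : x ≠ y) (hx : sg n x ≠ x) (hy : sg n y ≠ y) :
    dd n x y * n = F.ε {x, y} * n * (F.ε {x, y})⁻¹ := by
  have h1 := conj_pair n hxy
  have h2 : sg n x ≠ sg n y := fun h => hxy ((sg n).injective h)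
  rw [dd, ← pair_swap hxy h2 hx.symm hy.symm, ← h1, pair_inv hxy]
  group

theorem dd_comm {n : NE F} (hn : F.π n * F.π n = 1) {x y : GolayPt} (hx : sg n x ≠ x)
    (hy : sg n y ≠ y) : dd n x y * n = n * dd n x y := by
  have hs : ∀ p, sg n (sg n p) = p := fun p => by
    have := congrArg Subtype.val hn
    show (sg n * sg n) p = p
    rw [show sg n * sg n = 1 from this]; rfl
  have h1 := comm_duad (F := F) (n := n) hx.symm rfl (hs x)
  have h2 := comm_duad (F := F) (n := n) hy.symm rfl (hs y)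
  rw [dd, mul_assoc, ← h2, ← mul_assoc, ← h1, mul_assoc]

theorem sg_sg {n : NE F} (hn : F.π n * F.π n = 1) (p : GolayPt) : sg n (sg n p) = p := by
  have := congrArg Subtype.val hn
  show (sg n * sg n) p = p
  rw [show sg n * sg n = 1 from this]; rfl

theorem dd_self {n : NE F} {x : GolayPt} (hx : sg n x ≠ x) : dd n x x = 1 := pair_sq hx.symm

theorem dd_sg {n : NE F} (hn : F.π n * F.π n = 1) {x : GolayPt} (hx : sg n x ≠ x) :
    dd n x (sg n x) = 1 := by
  rw [dd, sg_sg hn, Finset.pair_comm (sg n x) x]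
  exact pair_sq hx.symm

theorem dd_mul {n : NE F} {x y z : GolayPt} (hx : sg n x ≠ x) (hy : sg n y ≠ y) :
    dd n x y * dd n x z = dd n y z := by
  have h1 := (F.E_elem hex0 HexMax.hex0_isHex).2 _ (pair_mem (F := F) hx.symm) _ (pair_mem (F := F) hy.symm)
  have h2 := pair_sq (F := F) hx.symm
  rw [dd, dd, dd, h1]
  calc F.ε {y, sg n y} * F.ε {x, sg n x} * (F.ε {x, sg n x} * F.ε {z, sg n z}) =
      F.ε {y, sg n y} * (F.ε {x, sg n x} * F.ε {x, sg n x}) * F.ε {z, sg n z} := by group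
    _ = _ := by rw [h2, mul_one]

/-- the 4-set -/
theorem dd_eq_four {n : NE F} (hn : F.π n * F.π n = 1) {x y : GolayPt} (hx : sg n x ≠ x)
    (hy : sg n y ≠ y) (h1 : y ≠ x) (h2 : y ≠ sg n x) :
    ({x, sg n x, y, sg n y} : Finset GolayPt).card = 4 ∧ dd n x y = F.ε {x, sg n x, y, sg n y} := by
  have h3 : sg n y ≠ sg n x := fun h => h1 ((sg n).injective h)
  have h4 : sg n y ≠ x := fun h => h2 (by rw [← h, sg_sg hn])
  have h5 : symmDiff ({x, sg n x} : Finset GolayPt) {y, sg n y} = {x, sg n x, y, sg n y} := by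
    ext p
    simp only [Finset.mem_symmDiff, Finset.mem_insert, Finset.mem_singleton]
    constructor
    · rintro (⟨h, -⟩ | ⟨h, -⟩)
      · rcases h with h | h
        · exact Or.inl h
        · exact Or.inr (Or.inl h)
      · exact Or.inr (Or.inr h)
    · rintro (rfl | rfl | rfl | rfl)
      · exact Or.inl ⟨Or.inl rfl, fun h => h.elim (fun h => h1 h.symm) (fun h => h4 h.symm)⟩
      · exact Or.inl ⟨Or.inr rfl, fun h => h.elim (fun h => h2 h.symm) (fun h => h3 h.symm)⟩
      · exact Or.inr ⟨Or.inl rfl, fun h => h.elim h1 h2⟩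
      · exact Or.inr ⟨Or.inr rfl, fun h => h.elim h4 h3⟩
  have h6 := DuadM24.card_four hx.symm h1.symm h4.symm h2.symm h3.symm hy.symm
  rw [h5] at h6
  refine ⟨h6, ?_⟩
  rw [dd, ← F.ε_mul _ _ (even_pair' hx.symm) (even_pair' hy.symm), h5]

theorem dd_conj_z {n : NE F} (hn : F.π n * F.π n = 1) {x y : GolayPt} (hx : sg n x ≠ x)
    (hy : sg n y ≠ y) (h1 : y ≠ x) (h2 : y ≠ sg n x) : IsConj F.z (dd n x y) := by
  obtain ⟨h3, h4⟩ := dd_eq_four hn hx hy h1 h2
  rw [h4]
  exact DuadCent.isConj_four F h3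

theorem dd_ne_one {n : NE F} (hn : F.π n * F.π n = 1) {x y : GolayPt} (hx : sg n x ≠ x)
    (hy : sg n y ≠ y) (h1 : y ≠ x) (h2 : y ≠ sg n x) : dd n x y ≠ 1 := by
  intro h
  have h3 := dd_conj_z hn hx hy h1 h2
  rw [h] at h3
  exact z_ne_one F (isConj_one_left.1 h3)

theorem dd_eq_iff {n : NE F} (hn : F.π n * F.π n = 1) {x y z : GolayPt} (hx : sg n x ≠ x)
    (hy : sg n y ≠ y) (hz : sg n z ≠ z) (h : dd n x y = dd n x z) : z = y ∨ z = sg n y := by
  by_contra hno
  rw [not_or] at hno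
  apply dd_ne_one hn hy hz hno.1 hno.2
  rw [← dd_mul hx hy, h, dd_mul hx hz, dd_self hz]

end

/-! ### `F_w` -/

section

variable {F : Frame G} {Γ : Geom G}

/-- the elements `v` are in `F_w` -/
theorem dd_mem_Fs (hA : ∀ u, Γ.A u ↔ IsConj F.z u) {n : NE F} (hn : F.π n * F.π n = 1)
    (hnA : Γ.A (n : G)) {x y : GolayPt} (hx : sg n x ≠ x) (hy : sg n y ≠ y) :
    dd n x y ∈ Fs Γ (F.E hex0) (n : G) := by
  refine ⟨dd_mem hx hy, dd_comm hn hx hy, ?_⟩
  by_cases h1 : y = x
  · subst h1; exact Or.inl (dd_self hx)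
  by_cases h2 : y = sg n x
  · subst h2; exact Or.inl (dd_sg hn hx)
  right
  rw [hA, hA, dd_conj (Ne.symm h1) hx hy]
  rw [hA] at hnA
  exact ⟨dd_conj_z hn hx hy h1 h2, hnA.trans (isConj_iff.2 ⟨_, rfl⟩)⟩

/-- the fixed points of `σ` form an octad, and `F_w` is the set of the elements `v` -/
theorem Fs_eq [Finite G] (hA : ∀ u, Γ.A u ↔ IsConj F.z u) {n : NE F} (hn : F.π n * F.π n = 1)
    (hn1 : F.π n ≠ 1) (hnA : Γ.A (n : G)) (h8 : (Fs Γ (F.E hex0) (n : G)).ncard = 8) :
    ∃ O ∈ octads, (∀ p, sg n p = p ↔ p ∈ O) ∧ sg n ∈ fixOct O ∧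
      ∀ x, x ∉ O → ∀ v, v ∈ Fs Γ (F.E hex0) (n : G) ↔ ∃ y, y ∉ O ∧ v = dd n x y := by
  classical
  set M : Finset GolayPt := Finset.univ.filter fun p => sg n p ≠ p with hM
  have hmemM : ∀ p, p ∈ M ↔ sg n p ≠ p := fun p => by rw [hM, Finset.mem_filter]; simp
  -- counting
  have key : ∀ x, x ∈ M → M.card ≤ 2 * (M.image (dd n x)).card := by
    intro x hx
    rw [hmemM] at hx
    refine (Finset.card_le_mul_card_image M 2 ?_)
    intro b hb
    obtain ⟨y, hy, rfl⟩ := Finset.mem_image.1 hb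
    rw [hmemM] at hy
    refine (Finset.card_le_card (t := {y, sg n y}) ?_).trans (Finset.card_le_two)
    intro z hz
    rw [Finset.mem_filter, hmemM] at hz
    rw [Finset.mem_insert, Finset.mem_singleton]
    exact dd_eq_iff hn hx hy hz.1 hz.2.symm
  have hsub : ∀ x, x ∈ M → ((M.image (dd n x) : Finset G) : Set G) ⊆ Fs Γ (F.E hex0) (n : G) := by
    intro x hx v hv
    rw [Finset.mem_coe, Finset.mem_image] at hv
    obtain ⟨y, hy, rfl⟩ := hv
    rw [hmemM] at hx hy
    exact dd_mem_Fs hA hn hnA hx hy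
  have hle : ∀ x, x ∈ M → (M.image (dd n x)).card ≤ 8 := by
    intro x hx
    rw [← h8, ← Set.ncard_coe_finset]
    exact Set.ncard_le_ncard (hsub x hx) (Set.toFinite _)
  have hsg : sg n ∈ M24 := (F.π n).2
  have hsq : sg n * sg n = 1 := congrArg Subtype.val hn
  have hsg1 : sg n ≠ 1 := fun h => hn1 (Subtype.ext h)
  obtain ⟨p0, hp0⟩ : ∃ p, sg n p = p := by
    by_contra hno
    push Not at hno
    have h1 := key none ((hmemM _).2 (hno _))
    have h2 := hle none ((hmemM _).2 (hno _))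
    have h3 : M = Finset.univ := Finset.eq_univ_of_forall fun p => (hmemM p).2 (hno p)
    rw [h3, Finset.card_univ, HexMax.card24] at h1
    rw [h3] at h2
    omega
  have hO := H857.Classify.fix_octad hsg hsq hsg1 hp0
  set O : Finset GolayPt := Finset.univ.filter fun p : GolayPt => sg n p = p with hOd
  have hmemO : ∀ p, sg n p = p ↔ p ∈ O := fun p => by rw [hOd, Finset.mem_filter]; simp
  have hMO : ∀ p, p ∈ M ↔ p ∉ O := fun p => by rw [hmemM, Ne, hmemO]
  have hMcard : M.card = 16 := by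
    have h1 : M = Finset.univ \ O := by
      ext p
      rw [hMO, Finset.mem_sdiff]
      simp
    rw [h1, Finset.card_sdiff_of_subset (Finset.subset_univ _), Finset.card_univ, HexMax.card24,
      octad_card hO]
  refine ⟨O, hO, hmemO, mem_fixOct.2 ⟨hsg, fun x hx => (hmemO x).2 hx⟩, fun x hx v => ?_⟩
  rw [← hMO] at hx
  have h1 := key x hx
  have h2 : ((M.image (dd n x) : Finset G) : Set G) = Fs Γ (F.E hex0) (n : G) := by
    apply Set.eq_of_subset_of_ncard_le (hsub x hx) _ (Set.toFinite _)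
    rw [h8, Set.ncard_coe_finset]
    omega
  rw [← h2, Finset.mem_coe, Finset.mem_image]
  constructor
  · rintro ⟨y, hy, rfl⟩
    exact ⟨y, (hMO y).1 hy, rfl⟩
  · rintro ⟨y, hy, rfl⟩
    exact ⟨y, (hMO y).2 hy, rfl⟩

/-- `F_w ≤ W(O)` -/
theorem Fs_le_WG {n : NE F} {O : Finset GolayPt} (hO : O ∈ octads) (hmem : ∀ p, sg n p = p ↔ p ∈ O)
    (hn : F.π n * F.π n = 1) (hn1 : F.π n ≠ 1) (hu : sg n ∈ fixOct O) {x y : GolayPt} (hx : x ∉ O)
    (hy : y ∉ O) : dd n x y ∈ WG F O := by
  have hx' : sg n x ≠ x := fun h => hx ((hmem x).1 h)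
  have hy' : sg n y ≠ y := fun h => hy ((hmem y).1 h)
  have hsy : sg n y ∉ O := fun h => hy' (by
    have h1 := (hmem _).2 h
    exact (sg n).injective h1)
  rcases cases_of_comm hO hu hn1 hx (dd_mem hx' hy') (dd_comm hn hx' hy').symm with h | h
  · exact h
  · exfalso
    have h1 : dd n x y * F.ε {x, sg n x} = F.ε {y, sg n y} := by
      rw [dd, (F.E_elem hex0 HexMax.hex0_isHex).2 _ (pair_mem (F := F) hx'.symm) _
        (pair_mem (F := F) hy'.symm), mul_assoc, pair_sq hx'.symm, mul_one]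
    rw [h1] at h
    exact duad_not_mem_WG hO hy hsy hy'.symm h

end

end Cfsg.Agent.H752.JM
end

-- part: H752/JM/NotSub
section
/-!
# J₄: `F_w` is not contained in a second conjugate of `E` (helper752)
-/

set_option autoImplicit false

open scoped Pointwise

namespace Cfsg.Agent.H752.JM

open Cfsg Cfsg.Agent.SporadicA.GolayBase Cfsg.Agent.SporadicA.OctadFix
open Cfsg.Agent.J4Type Cfsg.Agent.J4Type.CloseInst
open Cfsg.Agent.J4Type.FrameDefs (NE)
open Cfsg.Agent.H857.WGrp Cfsg.Agent.H860.JM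

variable {G : Type*} [Group G] {F : Frame G}

theorem tet_cov : ∀ x : GolayPt, ∃ i, x ∈ tet i := by decide +kernel

theorem mog_mem (i : Fin 6) : mog i 0 ∈ tet i := Finset.mem_image_of_mem _ (Finset.mem_univ _)

theorem tet_even : ∀ i : Fin 6, ∀ x ∈ tet i, x ≠ mog i 0 → ∀ j : Fin 6,
    Even (({mog i 0, x} : Finset GolayPt) ∩ tet j).card := by decide +kernel

/-- `ρ` as an element of the normalizer of `E` -/
def rh (F : Frame G) : NE F := ⟨F.ρ, FrameDefs.ρ_norm F.toHex⟩

theorem rho_move {i : Fin 6} {x : GolayPt} (hx : x ∈ tet i) (h0 : x ≠ mog i 0) :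
    sg (rh F) x ≠ x := by
  intro h
  have hb := (F.ρ_tet (rh F) rfl i).1
  have h1 := conj_pair (rh F) (Ne.symm h0)
  rw [show sg (rh F) (mog i 0) = mog i 0 from hb, h] at h1
  have hQ : F.ε {mog i 0, x} ∈ F.Q :=
    (F.A_iff _ (even_pair' (Ne.symm h0))).2 (Or.inl fun j => tet_even i x hx h0 j)
  rcases F.ρ_fix _ hQ (mul_inv_eq_iff_eq_mul.1 h1) with h2 | h2
  · exact DuadUniq.duad_ne_one F (Ne.symm h0) h2
  · exact DuadUniq.duad_ne_z F (Ne.symm h0) h2

/-- a product of two disjoint duads is not a duad -/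
theorem four_ne_duad {a b c d p q : GolayPt} (hab : a ≠ b) (hac : a ≠ c) (had : a ≠ d) (hbc : b ≠ c)
    (hbd : b ≠ d) (hcd : c ≠ d) (hpq : p ≠ q) : F.ε {a, b} * F.ε {c, d} ≠ F.ε {p, q} := by
  intro h
  rw [← F.ε_mul _ _ (even_pair' hab) (even_pair' hcd)] at h
  have h1 := DuadCent.isConj_four F (DuadM24.card_four hab hac had hbc hbd hcd)
  rw [h] at h1
  exact F.duad_not_conj p q hpq h1

theorem exists_notMem {T : Finset GolayPt} (h : T.card < 24) : ∃ q, q ∉ T := by
  obtain ⟨x, -, hx⟩ := Finset.exists_mem_notMem_of_card_lt_card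
    (s := T) (t := Finset.univ) (by rw [Finset.card_univ, HexMax.card24]; exact h)
  exact ⟨x, hx⟩

/-- `F_w` is not contained in a second conjugate of `E` -/
theorem not_sub [Finite G] {n : NE F} (hn : F.π n * F.π n = 1) {O : Finset GolayPt}
    (hO : O ∈ octads) (hmem : ∀ p, sg n p = p ↔ p ∈ O) {S : Set G}
    (hS : ∀ x, x ∉ O → ∀ v, v ∈ S ↔ ∃ y, y ∉ O ∧ v = dd n x y) (hS8 : S.ncard = 8) {g : G}
    (hcard : Nat.card (F.E hex0 ⊓ cj g (F.E hex0) : Subgroup G) ≤ 8)
    (hsub : ∀ v ∈ S, v ∈ cj g (F.E hex0)) : False := by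
  classical
  have hO8 := octad_card hO
  obtain ⟨x0, hx0⟩ := exists_notMem (T := O) (by omega)
  have hmv : ∀ x, x ∉ O → sg n x ≠ x := fun x hx h => hx ((hmem x).1 h)
  have hmv' : ∀ x, sg n x ≠ x → x ∉ O := fun x hx h => hx ((hmem x).2 h)
  have hsO : ∀ x, x ∉ O → sg n x ∉ O := fun x hx h => hmv x hx ((sg n).injective ((hmem _).2 h))
  obtain ⟨y0, hy0⟩ := exists_notMem (T := O ∪ {x0, sg n x0}) (by
    have h1 := Finset.card_union_le O {x0, sg n x0}
    have h2 := Finset.card_le_two (a := x0) (b := sg n x0)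
    omega)
  rw [Finset.mem_union, Finset.mem_insert, Finset.mem_singleton, not_or, not_or] at hy0
  obtain ⟨hy0, hyx, hysx⟩ := hy0
  obtain ⟨hT4, hT⟩ := dd_eq_four hn (hmv x0 hx0) (hmv y0 hy0) hyx hysx
  set T : Finset GolayPt := {x0, sg n x0, y0, sg n y0} with hTd
  have hTO : ∀ p ∈ T, p ∉ O := by
    intro p hp
    rw [hTd] at hp
    simp only [Finset.mem_insert, Finset.mem_singleton] at hp
    rcases hp with rfl | rfl | rfl | rfl
    · exact hx0
    · exact hsO _ hx0
    · exact hy0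
    · exact hsO _ hy0
  have hTs : ∀ p ∈ T, sg n p ∈ T := by
    intro p hp
    rw [hTd] at hp ⊢
    simp only [Finset.mem_insert, Finset.mem_singleton] at hp ⊢
    rcases hp with rfl | rfl | rfl | rfl
    · exact Or.inr (Or.inl rfl)
    · exact Or.inl (sg_sg hn _)
    · exact Or.inr (Or.inr (Or.inr rfl))
    · exact Or.inr (Or.inr (Or.inl (sg_sg hn _)))
  -- `S = E ∩ gEg⁻¹`
  have hSE : S ⊆ ((F.E hex0 ⊓ cj g (F.E hex0) : Subgroup G) : Set G) := by
    intro v hv
    refine ⟨?_, hsub v hv⟩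
    obtain ⟨y, hy, rfl⟩ := (hS x0 hx0 v).1 hv
    exact dd_mem (hmv _ hx0) (hmv _ hy)
  have hSeq : S = ((F.E hex0 ⊓ cj g (F.E hex0) : Subgroup G) : Set G) := by
    apply Set.eq_of_subset_of_ncard_le hSE _ (Set.toFinite _)
    rw [hS8]
    exact hcard
  have hv0 : dd n x0 y0 ∈ S := (hS x0 hx0 _).2 ⟨y0, hy0, rfl⟩
  obtain ⟨n0, hn0, hnz⟩ := conj_sextet F T hT4
  rw [← hT] at hnz
  obtain ⟨O', hO', hiff⟩ := F.E_unique (n0⁻¹ * g) (by
    have h1 := mem_cj.1 (hsub _ hv0)
    have h2 : (n0⁻¹ * g)⁻¹ * F.z * (n0⁻¹ * g) = g⁻¹ * (n0 * F.z * n0⁻¹) * g := by group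
    rw [h2, hnz]
    exact h1)
  set m : NE F := ⟨n0, hn0⟩ with hm
  set r : NE F := m * rh F * m⁻¹ with hr
  have hrS : ∀ v ∈ S, (r : G) * v * (r : G)⁻¹ ∈ S := by
    intro v hv
    rw [hSeq] at hv ⊢
    refine ⟨((Subgroup.mem_normalizer_iff.1 r.2) v).1 hv.1, mem_cj.2 ?_⟩
    have h1 := mem_cj.1 hv.2
    have h2 : g⁻¹ * v * g = (n0⁻¹ * g)⁻¹ * (n0⁻¹ * v * n0) * (n0⁻¹ * g) := by group
    rw [h2, hiff, FrameDefs.ρ_E F.toHex hO', ← hiff] at h1
    have h3 : g⁻¹ * ((r : G) * v * (r : G)⁻¹) * g =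
        (n0⁻¹ * g)⁻¹ * (F.ρ * (n0⁻¹ * v * n0) * F.ρ⁻¹) * (n0⁻¹ * g) := by
      show g⁻¹ * ((n0 * F.ρ * n0⁻¹) * v * (n0 * F.ρ * n0⁻¹)⁻¹) * g = _
      group
    rw [h3]
    exact h1
  have hτ : ∀ p, sg r (sg m p) = sg m (sg (rh F) p) := by
    intro p
    have h1 : sg r = sg m * sg (rh F) * (sg m)⁻¹ := by
      show ((F.π (m * rh F * m⁻¹) : M24) : Equiv.Perm GolayPt) = _
      rw [map_mul, map_mul, map_inv]
      rfl
    rw [h1]
    show sg m (sg (rh F) ((sg m)⁻¹ (sg m p))) = _
    have h2 : (sg m)⁻¹ (sg m p) = p := (sg m).symm_apply_apply p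
    rw [h2]
  -- the tetrad
  obtain ⟨i, hi⟩ := tet_cov ((sg m)⁻¹ x0)
  have hTi : sg m • tet i = T := by
    have h1 : F.ε (sg m • tet i) = F.ε T := by
      rw [← hT, ← hnz, ← F.ε_tet i]
      exact (F.π_smul m (tet i) (by rw [tet_card]; decide)).symm
    have hx : x0 ∈ sg m • tet i := by
      have h2 : sg m • ((sg m)⁻¹ x0) ∈ sg m • tet i := Finset.smul_mem_smul_finset hi
      have h3 : sg m • ((sg m)⁻¹ x0) = x0 := (sg m).apply_symm_apply x0
      rwa [h3] at h2
    have hx' : x0 ∈ T := Finset.mem_insert_self _ _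
    have h3 : (sg m • tet i).card = 4 := by rw [Finset.card_smul_finset, tet_card]
    apply DuadUniq.ε_inj F (by rw [h3]; decide) (by rw [hT4]; decide) _ h1
    have h4 : symmDiff (sg m • tet i) T ⊆ ((sg m • tet i).erase x0) ∪ (T.erase x0) := by
      intro y hy
      rw [Finset.mem_symmDiff] at hy
      rw [Finset.mem_union, Finset.mem_erase, Finset.mem_erase]
      rcases hy with ⟨h5, h6⟩ | ⟨h5, h6⟩
      · exact Or.inl ⟨fun h => h6 (h ▸ hx'), h5⟩
      · exact Or.inr ⟨fun h => h6 (h ▸ hx), h5⟩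
    have h5 := Finset.card_le_card h4
    have h6 := Finset.card_union_le ((sg m • tet i).erase x0) (T.erase x0)
    rw [Finset.card_erase_of_mem hx, Finset.card_erase_of_mem hx', h3, hT4] at h6
    omega
  set a := sg m (mog i 0) with ha
  have haT : a ∈ T := by rw [← hTi]; exact Finset.smul_mem_smul_finset (mog_mem i)
  have haO := hTO a haT
  have hτa : sg r a = a := by rw [ha, hτ, (F.ρ_tet (rh F) rfl i).1]
  set b := sg n a with hb
  have hbT : b ∈ T := hTs a haT
  have hab : b ≠ a := hmv a haO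
  have hτT : ∀ p, p ∈ T → sg r p ∈ T := by
    intro p hp
    rw [← hTi] at hp ⊢
    obtain ⟨y, hy, rfl⟩ := Finset.mem_smul_finset.1 hp
    show sg r (sg m y) ∈ _
    rw [hτ]
    apply Finset.smul_mem_smul_finset
    have h1 : sg (rh F) • tet i = tet i := (F.ρ_tet (rh F) rfl i).2
    rw [← h1]
    exact Finset.smul_mem_smul_finset hy
  have hτT' : ∀ p, p ∉ T → sg r p ∉ T := by
    intro p hp h
    have h1 : sg r • T = T := H857.Classify.smul_eq_of_mapsTo hτT
    rw [← h1] at h
    obtain ⟨y, hy, hyp⟩ := Finset.mem_smul_finset.1 h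
    exact hp ((sg r).injective hyp ▸ hy)
  have hτb : sg r b ≠ b := by
    have h1 := hbT
    rw [← hTi] at h1
    obtain ⟨y, hy, hyb⟩ := Finset.mem_smul_finset.1 h1
    have hyb' : sg m y = b := hyb
    rw [← hyb', hτ]
    intro h
    refine rho_move hy ?_ ((sg m).injective h)
    rintro rfl
    exact hab hyb'.symm
  obtain ⟨q, hq⟩ := exists_notMem (T := O ∪ T) (by
    have h1 := Finset.card_union_le O T
    omega)
  rw [Finset.mem_union, not_or] at hq
  have hvq : dd n a q ∈ S := (hS a haO _).2 ⟨q, hq.1, rfl⟩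
  obtain ⟨q', hq', h1⟩ := (hS a haO _).1 (hrS _ hvq)
  have hqq := hmv q hq.1
  have h2 : (r : G) * dd n a q * (r : G)⁻¹ = F.ε {a, sg r b} * F.ε {sg r q, sg r (sg n q)} := by
    have h3 : (r : G) * dd n a q * (r : G)⁻¹ = ((r : G) * F.ε {a, b} * (r : G)⁻¹) *
        ((r : G) * F.ε {q, sg n q} * (r : G)⁻¹) := by
      rw [dd, ← hb]; group
    rw [h3, conj_pair r hab.symm, conj_pair r hqq.symm, hτa]
  rw [h2, dd, ← hb] at h1
  have hq2 := hmv q' hq'
  have hτab : sg r b ≠ a := fun h => hab ((sg r).injective (h.trans hτa.symm))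
  have h3 : F.ε {sg r b, b} * F.ε {sg r q, sg r (sg n q)} = F.ε {q', sg n q'} := by
    have h4 := ε_pair_mul (F := F) hτab.symm hab.symm hτb
    have h5 := (F.E_elem hex0 HexMax.hex0_isHex).2 _ (pair_mem (F := F) hτab.symm) _
      (pair_mem (F := F) hab.symm)
    have h6 := pair_sq (F := F) hab.symm
    rw [← h4, h5, mul_assoc, h1, ← mul_assoc, h6, one_mul]
  have hnqT : sg n q ∉ T := fun h => hq.2 (by
    have h7 := hTs _ h
    rwa [sg_sg hn] at h7)
  have hTr : ∀ x y, x ∈ T → y ∉ T → x ≠ y := fun x y hx hy h => hy (h ▸ hx)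
  refine four_ne_duad hτb ?_ ?_ ?_ ?_ ?_ hq2.symm h3
  · exact hTr _ _ (hτT _ hbT) (hτT' _ hq.2)
  · exact hTr _ _ (hτT _ hbT) (hτT' _ hnqT)
  · exact hTr _ _ hbT (hτT' _ hq.2)
  · exact hTr _ _ hbT (hτT' _ hnqT)
  · exact fun h => hqq ((sg r).injective h).symm

end Cfsg.Agent.H752.JM
end

-- part: H752/JM/TwelveOf
section
/-!
# J₄: the fact `F12` of the 2-local geometry (helper752)

`f12_of` : `F12` from the structure of `N(E)` (`Frame`), the facts `F1`, `F5`, `F6`, and four properties of the groups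
`X` (helper796).
-/

set_option autoImplicit false

open scoped Pointwise

namespace Cfsg.Agent.H752.JM

open Cfsg Cfsg.Agent.SporadicA.GolayBase Cfsg.Agent.SporadicA.OctadFix
open Cfsg.Agent.J4Type Cfsg.Agent.J4Type.CloseInst
open Cfsg.Agent.J4Type.FrameDefs (NE)
open Cfsg.Agent.H857.WGrp Cfsg.Agent.H860.JM

variable {G : Type*} [Group G] {F : Frame G} {Γ : Geom G}

/-- the input -/
structure Hyp (Γ : Geom G) (F : Frame G) : Prop where
  A : ∀ u, Γ.A u ↔ IsConj F.z u
  Pt : ∀ P, Γ.Pt P ↔ ∃ g, P = cj g (F.E hex0)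
  f1 : F1 Γ
  f5 : F5 Γ
  f6 : F6 Γ
  elX : ∀ X, Γ.Xc X → El X
  k1 : ∀ X P, Γ.Xc X → Γ.Pt P → Nat.card (P ⊓ X : Subgroup G) = 64 →
    X ≤ Subgroup.normalizer (P : Set G)
  k2 : ∀ X P, Γ.Xc X → Γ.Pt P → X ≤ Subgroup.normalizer (P : Set G) →
    Nat.card (P ⊓ X : Subgroup G) = 64
  k3 : ∀ X X' P w, Γ.Xc X → Γ.Xc X' → Γ.Pt P → X ≤ Subgroup.normalizer (P : Set G) →
    X' ≤ Subgroup.normalizer (P : Set G) → w ∈ X → w ∈ X' → w ∉ P → X = X'
  k4 : ∀ O ∈ octads, ∀ n : NE F, (n : G) ∉ F.E hex0 → (n : G) * n = 1 → sg n ∈ fixOct O →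
    ∃ X, Γ.Xc X ∧ (n : G) ∈ X ∧ WG F O ≤ X

theorem cj_inf (g : G) (P X : Subgroup G) : cj g (P ⊓ X) = cj g P ⊓ cj g X := by
  ext x
  rw [Subgroup.mem_inf, mem_cj, mem_cj, mem_cj, Subgroup.mem_inf]

theorem cj_inv (g : G) (P : Subgroup G) : cj g (cj g⁻¹ P) = P := by
  rw [cj_cj, mul_inv_cancel, cj_eq_iff]
  exact Subgroup.one_mem _

theorem ncard_pair_le (a b : G) : ({a, b} : Set G).ncard ≤ 2 := by
  have h := Set.ncard_insert_le a ({b} : Set G)
  rwa [Set.ncard_singleton] at h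

/-- two points have an intersection of order at most 8 -/
theorem card_inf_le (h5 : F5 Γ) (h6 : F6 Γ) {P P' : Subgroup G} (hP : Γ.Pt P) (hP' : Γ.Pt P')
    (hne : P ≠ P') : Nat.card (P ⊓ P' : Subgroup G) ≤ 8 := by
  rcases h5 P P' hP hP' hne with h | ⟨z, -, h⟩ | h
  · rw [h, Subgroup.card_bot]; norm_num
  · have h1 : ((P ⊓ P' : Subgroup G) : Set G) = {1, z} := by
      ext x
      rw [SetLike.mem_coe, h, Set.mem_insert_iff, Set.mem_singleton_iff]
    have h2 : ((P ⊓ P' : Subgroup G) : Set G).ncard ≤ 2 := by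
      rw [h1]; exact ncard_pair_le 1 z
    have h3 : Nat.card (P ⊓ P' : Subgroup G) = ((P ⊓ P' : Subgroup G) : Set G).ncard := rfl
    omega
  · rw [h6.card _ h]

/-- two points through `v ≠ v'` and `w'` are equal if `v`, `v'` are in a third point not containing
`w'` -/
theorem eq_of_three (h5 : F5 Γ) (h6 : F6 Γ) {P P' P'' : Subgroup G} (hP : Γ.Pt P) (hP' : Γ.Pt P')
    (hP'' : Γ.Pt P'') {v v' w : G} (hv1 : v ≠ 1) (hv1' : v' ≠ 1) (hvv : v ≠ v') (hv : v ∈ P)
    (hv' : v' ∈ P) (hw : w ∉ P) (hvP' : v ∈ P') (hvP'' : v ∈ P'') (hvP2 : v' ∈ P') (hvP3 : v' ∈ P'')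
    (hwP' : w ∈ P') (hwP'' : w ∈ P'') : P' = P'' := by
  by_contra hne
  rcases h5 P' P'' hP' hP'' hne with h | ⟨z, -, h⟩ | h
  · have h1 : v ∈ (P' ⊓ P'' : Subgroup G) := ⟨hvP', hvP''⟩
    rw [h, Subgroup.mem_bot] at h1
    exact hv1 h1
  · have h1 := ((h v).1 ⟨hvP', hvP''⟩).resolve_left hv1
    have h2 := ((h v').1 ⟨hvP2, hvP3⟩).resolve_left hv1'
    exact hvv (h1.trans h2.symm)
  · exact hw (h6.le _ P h hP v v' hv1 hv1' hvv ⟨hvP', hvP''⟩ ⟨hvP2, hvP3⟩ hv hv' ⟨hwP', hwP''⟩)

theorem one_mem_Fs {P : Subgroup G} (w : G) : (1 : G) ∈ Fs Γ P w :=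
  ⟨P.one_mem, by rw [one_mul, mul_one], Or.inl rfl⟩

theorem twelve_E [Finite G] (H : Hyp Γ F) {w : G} (hw : KA Γ (F.E hex0) w) : ∃ X, Γ.Xc X ∧
    (∀ g : G, (∀ u, u ∈ Ws Γ (F.E hex0) w → g * u * g⁻¹ ∈ Ws Γ (F.E hex0) w) →
      g ∈ Subgroup.normalizer (X : Set G)) ∧
    ∀ P', Γ.Pt P' → 8 ≤ (Ws Γ (F.E hex0) w ∩ (P' : Set G)).ncard →
      Nat.card (P' ⊓ X : Subgroup G) = 64 := by
  classical
  set E := F.E hex0 with hE
  have hEPt : Γ.Pt E := (H.Pt E).2 ⟨1, (cj_eq_iff.2 (Subgroup.one_mem _)).symm⟩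
  have hww : w * w = 1 := (H.f1.A_inv w hw.act.A).2
  set n : NE F := ⟨w, hw.act.mem⟩ with hn
  have hnn : F.π n * F.π n = 1 := by
    rw [← map_mul, show n * n = 1 from Subtype.ext hww, map_one]
  have hn1 : F.π n ≠ 1 := fun h => hw.act.not_mem ((F.π_ker n).1 h)
  obtain ⟨O, hO, hmem, hfix, hFs⟩ := Fs_eq (Γ := Γ) H.A hnn hn1 hw.act.A hw.card
  have hFs' : ∀ x, x ∉ O → ∀ v, v ∈ Fs Γ E w ↔ ∃ y, y ∉ O ∧ v = dd n x y := hFs
  obtain ⟨x0, hx0⟩ := exists_notMem (T := O) (by have := octad_card hO; omega)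
  have hFW : ∀ v ∈ Fs Γ E w, v ∈ WG F O := by
    intro v hv
    obtain ⟨y, hy, rfl⟩ := (hFs' x0 hx0 v).1 hv
    exact Fs_le_WG hO hmem hnn hn1 hfix hx0 hy
  obtain ⟨X, hX, hwX, hWX⟩ := H.k4 O hO n hw.act.not_mem hww hfix
  have hwX' : w ∈ X := hwX
  have hXel := H.elX X hX
  have hFX : ∀ v ∈ Fs Γ E w, v ∈ X := fun v hv => hWX (hFW v hv)
  have hWs : ∀ u ∈ Ws Γ E w, u ∈ X := by
    rintro u (h | h)
    · exact hFX u h
    · have h1 := X.mul_mem hwX' (hFX _ h)
      rwa [← mul_assoc, hww, one_mul] at h1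
  have hWsE : ∀ u ∈ Ws Γ E w, u ∈ E → u ∈ Fs Γ E w := by
    rintro u (h | h) hu
    · exact h
    · exact absurd ((E.mul_mem_cancel_right hu).1 h.1) hw.act.not_mem
  have hWsE' : ∀ u ∈ Ws Γ E w, u ∉ E → w * u ∈ Fs Γ E w := by
    rintro u (h | h) hu
    · exact absurd h.1 hu
    · exact h
  have hwWs : w ∈ Ws Γ E w := Or.inr (by rw [hww]; exact one_mem_Fs w)
  have hFWs : Fs Γ E w ⊆ Ws Γ E w := fun v hv => Or.inl hv
  -- `X` normalizes `E`
  have hXE : X ≤ Subgroup.normalizer (E : Set G) := by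
    intro x hx
    obtain ⟨p, hp, q, hq, hpq⟩ := Finset.one_lt_card.1
      (show 1 < O.card by rw [octad_card hO]; norm_num)
    exact DuadCent.duad_cent F hpq (hXel.comm x hx _ (hWX (duad_mem_WG hp hq hpq)))
  have h64 : Nat.card (E ⊓ X : Subgroup G) = 64 := H.k2 X E hX hEPt hXE
  -- (3)
  have h3 : ∀ P', Γ.Pt P' → 8 ≤ (Ws Γ E w ∩ (P' : Set G)).ncard →
      Nat.card (P' ⊓ X : Subgroup G) = 64 := by
    intro P' hP' h8
    by_cases hPE : P' = E
    · rw [hPE]; exact h64
    have hle := card_inf_le H.f5 H.f6 hEPt hP' (Ne.symm hPE)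
    have hns : ¬ (∀ v ∈ Fs Γ E w, v ∈ P') := by
      intro hsub
      obtain ⟨g, rfl⟩ := (H.Pt P').1 hP'
      exact not_sub hnn hO hmem hFs' hw.card hle hsub
    -- an element outside `E`
    obtain ⟨w', hw', hwE'⟩ : ∃ w' ∈ Ws Γ E w ∩ (P' : Set G), w' ∉ E := by
      by_contra hno
      push Not at hno
      apply hns
      have h1 : Ws Γ E w ∩ (P' : Set G) ⊆ Fs Γ E w := fun u hu => hWsE u hu.1 (hno u hu)
      have h2 : Ws Γ E w ∩ (P' : Set G) = Fs Γ E w :=
        Set.eq_of_subset_of_ncard_le h1 (by rw [hw.card]; exact h8) (Set.toFinite _)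
      intro v hv
      rw [← h2] at hv
      exact hv.2
    have hsplit : Ws Γ E w ∩ (P' : Set G) ⊆ (Fs Γ E w ∩ (P' : Set G)) ∪
        (fun v => w' * v) '' (Fs Γ E w ∩ (P' : Set G)) := by
      intro u hu
      by_cases huE : u ∈ E
      · exact Or.inl ⟨hWsE u hu.1 huE, hu.2⟩
      · right
        have hsq : w' * w' = 1 := hXel.sq w' (hWs w' hw'.1)
        refine ⟨w' * u, ⟨?_, P'.mul_mem hw'.2 hu.2⟩, ?_⟩
        · have h1 := hw.mul _ (hWsE' w' hw'.1 hwE') _ (hWsE' u hu.1 huE)
          have h2 : w * w' * (w * u) = w' * u := by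
            rw [hXel.comm w hwX' w' (hWs w' hw'.1), mul_assoc, ← mul_assoc w w u, hww, one_mul]
          rwa [h2] at h1
        · show w' * (w' * u) = u
          rw [← mul_assoc, hsq, one_mul]
    have h4 : 4 ≤ (Fs Γ E w ∩ (P' : Set G)).ncard := by
      have h1 := Set.ncard_le_ncard hsplit (Set.toFinite _)
      have h2 := Set.ncard_union_le (Fs Γ E w ∩ (P' : Set G))
        ((fun v => w' * v) '' (Fs Γ E w ∩ (P' : Set G)))
      have h3 := Set.ncard_image_le (f := fun v => w' * v)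
        (Set.toFinite (Fs Γ E w ∩ (P' : Set G)))
      omega
    obtain ⟨v, hv, hv1⟩ := Set.exists_ne_of_one_lt_ncard
      (show 1 < (Fs Γ E w ∩ (P' : Set G)).ncard by omega) 1
    obtain ⟨v', hv', hv1'⟩ : ∃ v' ∈ Fs Γ E w ∩ (P' : Set G), v' ∉ ({1, v} : Set G) := by
      by_contra hno
      push Not at hno
      have h1 := Set.ncard_le_ncard (fun u hu => hno u hu : Fs Γ E w ∩ (P' : Set G) ⊆ {1, v})
        (Set.toFinite _)
      have h2 := ncard_pair_le 1 v
      omega
    rw [Set.mem_insert_iff, Set.mem_singleton_iff, not_or] at hv1'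
    -- `X` normalizes `P'`
    apply H.k2 X P' hX hP'
    intro x hx
    rw [← cj_eq_iff]
    have hc : ∀ y, y ∈ X → y ∈ P' → y ∈ cj x P' := by
      intro y hy hyP
      rw [mem_cj]
      have h1 : x⁻¹ * y * x = y := by
        rw [mul_assoc, hXel.comm y hy x hx, inv_mul_cancel_left]
      rwa [h1]
    exact (eq_of_three H.f5 H.f6 hEPt hP' (H.f1.Pt_conj x P' hP') hv1 hv1'.1 (Ne.symm hv1'.2)
      hv.1.1 hv'.1.1 hwE' hv.2 (hc v (hFX v hv.1) hv.2) hv'.2 (hc v' (hFX v' hv'.1) hv'.2)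
      hw'.2 (hc w' (hWs w' hw'.1) hw'.2)).symm
  refine ⟨X, hX, fun g hg => ?_, h3⟩
  -- (4)
  have hinv : ∀ u ∈ Ws Γ E w, g⁻¹ * u * g ∈ Ws Γ E w := by
    have h1 : (fun u => g * u * g⁻¹) '' Ws Γ E w = Ws Γ E w := by
      apply Set.eq_of_subset_of_ncard_le
      · rintro _ ⟨u, hu, rfl⟩
        exact hg u hu
      · rw [Set.ncard_image_of_injective]
        intro a b h
        exact mul_left_cancel (mul_right_cancel h)
      · exact Set.toFinite _
    intro u hu
    rw [← h1] at hu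
    obtain ⟨u', hu', rfl⟩ := hu
    have h2 : g⁻¹ * (g * u' * g⁻¹) * g = u' := by group
    show g⁻¹ * (g * u' * g⁻¹) * g ∈ _
    rw [h2]
    exact hu'
  have hPg : Γ.Pt (cj g⁻¹ E) := H.f1.Pt_conj _ _ hEPt
  have h5 : 8 ≤ (Ws Γ E w ∩ (cj g⁻¹ E : Set G)).ncard := by
    have h1 : (fun u => g⁻¹ * u * g) '' Fs Γ E w ⊆ Ws Γ E w ∩ (cj g⁻¹ E : Set G) := by
      rintro _ ⟨u, hu, rfl⟩
      refine ⟨hinv u (hFWs hu), mem_cj.2 ?_⟩
      have h2 : g⁻¹⁻¹ * (g⁻¹ * u * g) * g⁻¹ = u := by group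
      show g⁻¹⁻¹ * (g⁻¹ * u * g) * g⁻¹ ∈ E
      rw [h2]
      exact hu.1
    have h2 := Set.ncard_le_ncard h1 (Set.toFinite _)
    rw [Set.ncard_image_of_injective _ (fun a b h => mul_left_cancel (mul_right_cancel h)),
      show (Fs Γ E w).ncard = 8 from hw.card] at h2
    exact h2
  have h6 := h3 _ hPg h5
  have h7 : Nat.card (E ⊓ cj g X : Subgroup G) = 64 := by
    rw [← card_cj g, cj_inf, cj_inv] at h6
    exact h6
  have hX' := H.f1.Xc_conj g X hX
  have h8 := H.k1 _ E hX' hEPt h7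
  have h9 : X = cj g X := by
    apply H.k3 X (cj g X) E w hX hX' hEPt hXE h8 hwX' _ hw.act.not_mem
    rw [mem_cj]
    exact hWs _ (hinv w hwWs)
  exact cj_eq_iff.1 h9.symm

/-! ### transport -/

theorem mem_Fs_cj (h1 : F1 Γ) {g : G} {P : Subgroup G} {w v : G} :
    v ∈ Fs Γ (cj g P) w ↔ g⁻¹ * v * g ∈ Fs Γ P (g⁻¹ * w * g) := by
  have hA : ∀ u, Γ.A (g⁻¹ * u * g) ↔ Γ.A u := by
    intro u
    constructor
    · intro h
      have h2 := h1.A_conj g _ h
      have h3 : g * (g⁻¹ * u * g) * g⁻¹ = u := by group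
      rwa [h3] at h2
    · intro h
      have h2 := h1.A_conj g⁻¹ _ h
      rwa [inv_inv] at h2
  have e1 : g⁻¹ * v * g * (g⁻¹ * w * g) = g⁻¹ * (v * w) * g := by group
  have e2 : g⁻¹ * w * g * (g⁻¹ * v * g) = g⁻¹ * (w * v) * g := by group
  show (v ∈ cj g P ∧ v * w = w * v ∧ (v = 1 ∨ (Γ.A v ∧ Γ.A (v * w)))) ↔
    (g⁻¹ * v * g ∈ P ∧ g⁻¹ * v * g * (g⁻¹ * w * g) = g⁻¹ * w * g * (g⁻¹ * v * g) ∧
      (g⁻¹ * v * g = 1 ∨ (Γ.A (g⁻¹ * v * g) ∧ Γ.A (g⁻¹ * v * g * (g⁻¹ * w * g)))))
  rw [e1, e2, hA, hA, mem_cj]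
  have e3 : g⁻¹ * (v * w) * g = g⁻¹ * (w * v) * g ↔ v * w = w * v :=
    ⟨fun h => mul_left_cancel (mul_right_cancel h), fun h => by rw [h]⟩
  have e4 : g⁻¹ * v * g = 1 ↔ v = 1 := by
    constructor
    · intro h
      have h2 : v = g * (g⁻¹ * v * g) * g⁻¹ := by group
      rw [h2, h]; group
    · rintro rfl; group
  rw [e3, e4]

theorem mem_Ws_cj (h1 : F1 Γ) {g : G} {P : Subgroup G} {w v : G} :
    v ∈ Ws Γ (cj g P) w ↔ g⁻¹ * v * g ∈ Ws Γ P (g⁻¹ * w * g) := by
  have e : g⁻¹ * (w * v) * g = g⁻¹ * w * g * (g⁻¹ * v * g) := by group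
  show (v ∈ Fs Γ (cj g P) w ∨ w * v ∈ Fs Γ (cj g P) w) ↔ (g⁻¹ * v * g ∈ Fs Γ P (g⁻¹ * w * g) ∨
    g⁻¹ * w * g * (g⁻¹ * v * g) ∈ Fs Γ P (g⁻¹ * w * g))
  rw [mem_Fs_cj h1, mem_Fs_cj h1, e]

theorem cc (g x : G) : g⁻¹ * (g * x * g⁻¹) * g = x := by group
theorem cc' (g x : G) : g * (g⁻¹ * x * g) * g⁻¹ = x := by group

theorem KA_cj (h1 : F1 Γ) {g : G} {P : Subgroup G} {w : G} (h : KA Γ (cj g P) w) :
    KA Γ P (g⁻¹ * w * g) := by
  have hmem : ∀ v, v ∈ Fs Γ P (g⁻¹ * w * g) → g * v * g⁻¹ ∈ Fs Γ (cj g P) w := by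
    intro v hv
    rw [mem_Fs_cj h1, cc]
    exact hv
  refine ⟨⟨?_, ?_, ?_⟩, ?_, ?_, ?_, ?_⟩
  · have h2 := h.act.mem
    rw [normalizer_cj, mem_cj] at h2
    exact h2
  · intro h2
    exact h.act.not_mem (mem_cj.2 h2)
  · have h2 := h1.A_conj g⁻¹ _ h.act.A
    rwa [inv_inv] at h2
  · rw [← h.card]
    have h2 : Fs Γ (cj g P) w = (fun x => g * x * g⁻¹) '' Fs Γ P (g⁻¹ * w * g) := by
      ext v
      constructor
      · intro hv
        exact ⟨_, (mem_Fs_cj h1).1 hv, cc' g v⟩
      · rintro ⟨v, hv, rfl⟩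
        exact hmem v hv
    rw [h2, Set.ncard_image_of_injective _ (fun a b h => mul_left_cancel (mul_right_cancel h))]
  · intro v hv
    obtain ⟨D, hD, hD1, hD2⟩ := h.tyA _ (hmem v hv)
    refine ⟨cj g⁻¹ D, h1.Ln_conj _ _ hD, mem_cj.2 ?_, mem_cj.2 ?_⟩
    · rw [inv_inv]; exact hD1
    · rw [inv_inv, cc']; exact hD2
  · intro v hv v' hv'
    obtain ⟨P', hP', h2, h3, h4⟩ := h.pt _ (hmem v hv) _ (hmem v' hv')
    refine ⟨cj g⁻¹ P', h1.Pt_conj _ _ hP', mem_cj.2 ?_, mem_cj.2 ?_, mem_cj.2 ?_⟩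
    · rw [inv_inv]; exact h2
    · rw [inv_inv]; exact h3
    · rw [inv_inv, cc']; exact h4
  · intro v hv v' hv'
    have h2 := (mem_Fs_cj h1).1 (h.mul _ (hmem v hv) _ (hmem v' hv'))
    have h3 : g⁻¹ * (g * v * g⁻¹ * (g * v' * g⁻¹)) * g = v * v' := by group
    rwa [h3] at h2

/-- **the fact F12** -/
theorem f12_of [Finite G] (H : Hyp Γ F) : F12 Γ := by
  intro P w hP hK
  obtain ⟨g, rfl⟩ := (H.Pt P).1 hP
  obtain ⟨X, hX, h2, h3⟩ := twelve_E H (KA_cj H.f1 hK)
  refine ⟨cj g X, H.f1.Xc_conj _ _ hX, fun k hk => ?_, fun P' hP' h8 => ?_⟩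
  · rw [normalizer_cj, mem_cj]
    apply h2
    intro u hu
    have h4 := hk (g * u * g⁻¹) ((mem_Ws_cj H.f1).2 (by rw [cc]; exact hu))
    rw [mem_Ws_cj H.f1] at h4
    have h5 : g⁻¹ * (k * (g * u * g⁻¹) * k⁻¹) * g = g⁻¹ * k * g * u * (g⁻¹ * k * g)⁻¹ := by group
    rwa [h5] at h4
  · have h4 := h3 (cj g⁻¹ P') (H.f1.Pt_conj _ _ hP') (by
      refine h8.trans ?_
      have h5 : (fun x => g⁻¹ * x * g) '' (Ws Γ (cj g (F.E hex0)) w ∩ (P' : Set G)) ⊆
          Ws Γ (F.E hex0) (g⁻¹ * w * g) ∩ (cj g⁻¹ P' : Set G) := by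
        rintro _ ⟨u, hu, rfl⟩
        refine ⟨(mem_Ws_cj H.f1).1 hu.1, mem_cj.2 ?_⟩
        show g⁻¹⁻¹ * (g⁻¹ * u * g) * g⁻¹ ∈ P'
        rw [inv_inv, cc']
        exact hu.2
      have h6 := Set.ncard_le_ncard h5 (Set.toFinite _)
      rwa [Set.ncard_image_of_injective _
        (fun a b h => mul_left_cancel (mul_right_cancel h))] at h6)
    rw [← card_cj g, cj_inf, cj_inv] at h4
    exact h4

end Cfsg.Agent.H752.JM
end

-- part: H752/JM/Twelve
section
/-!
# J₄: the fact `F12` for `Spor.J4` (helper752)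
-/

set_option autoImplicit false

open scoped Pointwise

namespace Cfsg.Agent.H752.JM

open Cfsg Cfsg.Agent.J4Type Cfsg.Agent.H860.JM Cfsg.Agent.H796.JM

/-- the group `Spor.J4` -/
local notation "𝒢" => Cfsg.Spor.J4

theorem IsX.cj' {G : Type*} [Group G] [Finite G] {X : Subgroup G} (h : IsX X) (g : G) :
    IsX (cj g X) := by
  rw [cj_eq]
  exact h.smul g

theorem hyp {C : J4Type.Compl 𝒢} (L : Link C) : Hyp geo C.toFrame := by
  have := simple_J
  have := finite_J
  have hPt : ∀ P : Subgroup 𝒢, geo.Pt P ↔ ∃ g, P = cj g (C.E hex0) := by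
    intro P
    rw [L.Pt]
    simp only [cj_eq]
  have hcj : ∀ (g : 𝒢) (X : Subgroup 𝒢), cj g (cj g⁻¹ X) = X := cj_inv
  have hcj' : ∀ (g : 𝒢) (X : Subgroup 𝒢), cj g⁻¹ (cj g X) = X := by
    intro g X
    have h := cj_inv g⁻¹ X
    rwa [inv_inv] at h
  have hle : ∀ (g : 𝒢) (X : Subgroup 𝒢), X ≤ Subgroup.normalizer (cj g (C.E hex0) : Set 𝒢) ↔
      cj g⁻¹ X ≤ Subgroup.normalizer (C.E hex0 : Set 𝒢) := by
    intro g X
    rw [normalizer_cj]
    constructor
    · intro h x hx
      have h1 := mem_cj.1 (h (mem_cj.1 hx))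
      have h2 : g⁻¹ * (g⁻¹⁻¹ * x * g⁻¹) * g = x := by group
      rwa [h2] at h1
    · intro h x hx
      refine mem_cj.2 (h (mem_cj.2 ?_))
      have h2 : g⁻¹⁻¹ * (g⁻¹ * x * g) * g⁻¹ = x := by group
      rwa [h2]
  have hcard : ∀ (g : 𝒢) (X : Subgroup 𝒢), Nat.card (cj g (C.E hex0) ⊓ X : Subgroup 𝒢) =
      Nat.card (cj g⁻¹ X ⊓ C.E hex0 : Subgroup 𝒢) := by
    intro g X
    rw [← card_cj g (cj g⁻¹ X ⊓ C.E hex0), cj_inf, hcj, inf_comm]
  refine ⟨L.A, hPt, f1, Cfsg.Agent.H68.JM.f5, Cfsg.Agent.H825.JM.f6 Cfsg.Agent.H68.JM.f5, ?_, ?_,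
    ?_, ?_, ?_⟩
  · intro X hX
    have h1 := (xc_iff.1 hX).el
    exact ⟨h1.1, h1.2⟩
  · intro X P hX hP h
    obtain ⟨g, rfl⟩ := (hPt P).1 hP
    rw [hle]
    apply le_norm C (IsX.cj' (xc_iff.1 hX) _)
    rw [← hcard, h]
  · intro X P hX hP h
    obtain ⟨g, rfl⟩ := (hPt P).1 hP
    rw [hcard]
    exact card_inf_E C (IsX.cj' (xc_iff.1 hX) _) ((hle g X).1 h)
  · intro X X' P w hX hX' hP h h' hw hw' hwP
    obtain ⟨g, rfl⟩ := (hPt P).1 hP
    have hm : ∀ Y : Subgroup 𝒢, w ∈ Y → g⁻¹ * w * g ∈ cj g⁻¹ Y := by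
      intro Y hY
      refine mem_cj.2 ?_
      have h2 : g⁻¹⁻¹ * (g⁻¹ * w * g) * g⁻¹ = w := by group
      rwa [h2]
    have h1 := eq_of_mem C (IsX.cj' (xc_iff.1 hX) g⁻¹) (IsX.cj' (xc_iff.1 hX') g⁻¹) ((hle g X).1 h)
      ((hle g X').1 h') (hm X hw) (hm X' hw') (fun h2 => hwP (mem_cj.2 h2))
    rw [← hcj g X, h1, hcj]
  · intro O hO n hn hnn hfix
    have hn1 : C.π n ≠ 1 := fun h => hn ((C.π_ker n).1 h)
    obtain ⟨X, hX, hw, -, -, hW⟩ := exists_X C hO n.2 hnn hfix hn1
    refine ⟨X, xc_iff.2 hX, hw, ?_⟩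
    rw [← hW]
    exact inf_le_left

/-- **the fact F12** -/
theorem f12 : F12 geo := by
  have := finite_J
  obtain ⟨C, L⟩ := exists_link
  exact f12_of (hyp L)

end Cfsg.Agent.H752.JM
end

-- part: H795/JM/Lab
section
/-!
# Labels of the elements of `2^11` (helper795, S5580, JM-F11): data and checks

Labels `v < 2048` of the elements `V v` of `EJ`; `dm` is the mask of the 276 duads (class 2B); `fb` is the list
of the 32 elements of `[V, XM]`, all sextets; `lns` are the five lines in `fb`, all through the sextet `20`.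
-/

set_option autoImplicit false

open Cfsg

namespace Cfsg.Agent.H795.JM

open Cfsg.Agent.J4.M24Hom Cfsg.Agent.J4.Nodes Cfsg.Agent.J4.Beta Cfsg.Agent.J4.Classes
open Cfsg.Agent.J4.ClassesData Cfsg.Agent.J4.ClassesAbs Cfsg.Agent.H858 Cfsg.Agent.H858.VK

/-- the mask of the duads -/
def dm : ℕ := nat_lit 505076499460793954935938484626134891784391843880328121055843326531295412629904696896955692172898454655086360507597525246270881981239231198159284450773574174334300782350834256839937681440331993149328473138034016111276231906621001598760510139847197682885969749192851951527214377847332539231074156954504452835259765983812153163254060833292330302230891415616772310791854138749387866979208497009310101863300052086997983651654062031251052201991162895847234216964905021762090991862592337634341491629447969461462716112569656507115691026026842226482656829129568342705292904024640031310227824313158329360587308883657592324128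

/-- is it a duad? -/
def isB (v : ℕ) : Bool := Nat.beq (Nat.land 1 (Nat.shiftRight dm v)) 1

/-- the list of the duads -/
def dl : List ℕ :=
  [5, 14, 15, 17, 26, 27, 33, 40, 47, 61, 66, 70, 73, 75, 89, 90, 97, 110, 121, 124, 130, 131, 143,
  149, 166, 169, 171, 183, 184, 191, 192, 200, 217, 219, 224, 226, 230, 237, 241, 253, 264, 270,
  275, 279, 280, 287, 288, 290, 307, 315, 321, 325, 334, 337, 341, 346, 357, 376, 377, 383, 403,
  405, 406, 410, 416, 419, 423, 424, 433, 440, 453, 454, 459, 467, 482, 484, 488, 494, 495, 496,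
  499, 505, 506, 507, 513, 522, 528, 539, 551, 552, 582, 586, 589, 592, 622, 624, 653, 654, 662,
  667, 670, 671, 679, 680, 689, 690, 692, 698, 701, 703, 707, 709, 713, 717, 719, 723, 737, 738,
  745, 763, 774, 781, 783, 789, 802, 808, 812, 818, 821, 831, 870, 879, 890, 893, 894, 895, 896,
  926, 938, 944, 950, 957, 983, 984, 1000, 1001, 1010, 1011, 1028, 1034, 1045, 1051, 1063, 1067,
  1082, 1083, 1084, 1086, 1089, 1095, 1103, 1112, 1120, 1150, 1154, 1165, 1186, 1187, 1195, 1196,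
  1197, 1198, 1201, 1204, 1217, 1218, 1224, 1227, 1228, 1234, 1251, 1252, 1258, 1276, 1284, 1287,
  1290, 1304, 1317, 1319, 1327, 1335, 1337, 1341, 1382, 1385, 1412, 1434, 1448, 1461, 1463, 1467,
  1475, 1483, 1486, 1487, 1496, 1502, 1506, 1516, 1527, 1529, 1537, 1541, 1547, 1553, 1555, 1557,
  1558, 1561, 1564, 1567, 1576, 1577, 1578, 1584, 1616, 1621, 1632, 1647, 1656, 1661, 1666, 1668,
  1674, 1687, 1697, 1700, 1701, 1712, 1713, 1717, 1737, 1742, 1749, 1752, 1787, 1790, 1793, 1796,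
  1825, 1830, 1847, 1850, 1857, 1859, 1862, 1877, 1880, 1885, 1901, 1908, 1912, 1914, 1920, 1923,
  1926, 1935, 1979, 1982, 1990, 1991, 1998, 2004, 2030, 2042]

/-- the elements of `[V, XM]` -/
def fb : List ℕ :=
  [0, 10, 20, 30, 160, 170, 180, 190, 320, 330, 340, 350, 480, 490, 500, 510, 1536, 1546, 1556,
  1566, 1696, 1706, 1716, 1726, 1856, 1866, 1876, 1886, 2016, 2026, 2036, 2046]

/-- preimages -/
def fbp : List ℕ :=
  [0, 2, 1, 3, 32, 34, 33, 35, 64, 66, 65, 67, 96, 98, 97, 99, 512, 514, 513, 515, 544, 546, 545,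
  547, 576, 578, 577, 579, 608, 610, 609, 611]


/-- the lines in `fb`: words and elements -/
def lns : List (List ℕ × List ℕ) := [
  ([1, 0, 2, 0, 1],
    [0, 20, 170, 190, 1536, 1556, 1706, 1726]),
  ([2, 0, 2, 0, 1, 0, 1, 0, 2, 0, 2, 0, 1, 0, 1, 0, 1, 0, 1],
    [0, 20, 320, 340, 1546, 1566, 1866, 1886]),
  ([1, 0, 1, 0, 1, 0, 2, 0, 2, 0, 1, 0, 1, 0, 1, 0, 1, 0, 2, 0, 1, 0, 1],
    [0, 10, 20, 30, 2016, 2026, 2036, 2046]),
  ([1, 0, 2, 0, 2, 0, 2, 0, 1, 0, 1, 0, 1, 0, 2, 0, 1, 0, 2, 0, 1, 0, 1],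
    [0, 20, 480, 500, 1696, 1716, 1856, 1876]),
  ([2, 0, 2, 0, 1, 0, 1, 0, 2, 0, 1, 0, 2, 0, 1, 0, 2, 0, 1, 0, 2, 0, 2, 0, 1],
    [0, 20, 160, 180, 330, 350, 490, 510])]

/-- words of elements commuting with the involution of type `1^8 2^8`, and their matrices -/
def cw1 : List (List ℕ × List ℕ) := [
  ([1, 0, 2, 0, 2, 0, 2, 0],
    [1219, 1699, 534, 1469, 1996, 8, 1658, 1741, 1036, 772, 752]),
  ([2, 0, 1, 0, 2, 0, 1, 0, 2, 0, 2, 0, 1, 0, 2, 0, 1, 0, 1, 0],
    [94, 2029, 560, 1132, 740, 1476, 538, 730, 1450, 1834, 1594]),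
  ([2, 0, 1, 0, 2, 0, 2, 0, 1, 0, 1, 0, 2, 0, 1, 0, 2, 0, 2, 0, 1, 0, 1, 0],
    [1238, 1119, 1235, 388, 1473, 1149, 1175, 1361, 394, 1894, 1162])]

/-- words of elements commuting with `XM`, and their matrices -/
def cw2 : List (List ℕ × List ℕ) := [
  ([0],
    [21, 8, 16, 2, 4, 128, 256, 32, 64, 1024, 512]),
  ([1, 0, 1, 0, 2, 0, 1, 0, 1, 0, 2, 0, 1, 0, 1, 0, 2],
    [2020, 746, 501, 1450, 481, 1751, 524, 1833, 1042, 853, 1345]),
  ([1, 0, 1, 0, 2, 0, 2, 0, 1, 0, 1, 0, 2, 0, 2, 0, 1, 0, 1],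
    [176, 772, 501, 1104, 481, 8, 1996, 2, 1906, 1765, 1957])]

/-! ### Checks -/

private noncomputable def frT (n : ℕ) (f : ℕ → Bool) : Bool := Nat.rec (f 0) (fun k _ => f (Nat.succ k)) n

private theorem frT_eq (n : ℕ) (f : ℕ → Bool) : frT n f = f n := by cases n <;> rfl

private noncomputable def alT (A : List ℕ) : (ℕ → ℕ → Bool) → Bool :=
  List.rec (fun P => P 0 0) (fun a _ ih P => ih fun u w => frT (Nat.mul 2 u) fun u => frT w fun w =>
    Bool.rec false (P (Nat.succ u) (Nat.xor a w)) (P u w)) A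

private theorem alT_sound (A : List ℕ) : ∀ P : ℕ → ℕ → Bool, alT A P = true → ∀ v < 2 ^ A.length, P v (lin A v) = true := by
  induction A with
  | nil =>
    intro P h v hv
    obtain rfl : v = 0 := Nat.lt_one_iff.1 hv
    exact h
  | cons a A ih =>
    intro P h v hv
    rw [List.length_cons, Nat.pow_succ] at hv
    have h1 := ih _ h (v / 2) (by omega)
    rw [frT_eq, frT_eq] at h1
    have h2 : (Bool.rec false (P (2 * (v / 2) + 1) (a ^^^ lin A (v / 2))) (P (2 * (v / 2)) (lin A (v / 2))) : Bool) = true := h1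
    rw [lin_cons]
    cases h3 : P (2 * (v / 2)) (lin A (v / 2))
    · rw [h3] at h2; exact absurd h2 Bool.false_ne_true
    · rw [h3] at h2
      split_ifs with h4
      · rw [show 2 * (v / 2) + 1 = v by omega] at h2; exact h2
      · rw [show 2 * (v / 2) = v by omega] at h3; exact h3

private noncomputable def mkT (L : List ℕ) : ℕ := List.rec 0 (fun a _ ih => Nat.lor ih (Nat.shiftLeft 1 a)) L

private theorem mkT_any (L : List ℕ) (x : ℕ) (h : (mkT L).testBit x = true) : L.any (Nat.beq x) = true := by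
  induction L with
  | nil => exact absurd ((Nat.zero_testBit x).symm.trans h) Bool.false_ne_true
  | cons a L ih =>
    rw [show mkT (a :: L) = mkT L ||| 1 <<< a from rfl, Nat.testBit_or, Nat.one_shiftLeft, Nat.testBit_two_pow,
      Bool.or_eq_true] at h
    rw [List.any_cons, Bool.or_eq_true]
    rcases h with h | h
    · exact Or.inr (ih h)
    · rw [of_decide_eq_true h]; exact Or.inl (Nat.beq_refl x)

theorem dl_check : ((List.range 2048).all fun v => cond (isB v) (dl.any (Nat.beq v)) true) = true := by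
  have h : dm &&& mkT dl = dm := Nat.eq_of_beq_eq_true (by decide +kernel)
  refine List.all_eq_true.2 fun v _ => ?_
  cases hv : isB v
  · rfl
  · have h1 : 1 &&& (dm >>> v) = 1 := Nat.eq_of_beq_eq_true hv
    have h2 : dm.testBit v = true := by rw [Nat.testBit, h1]; rfl
    rw [← h, Nat.testBit_and, Bool.and_eq_true] at h2
    exact mkT_any dl v h2.2

theorem dl_check2 : (dl.all fun e => cond (Nat.blt e 2048) (isB e) false) = true := by decide +kernel

/-- the duads are the elements of the second orbit -/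
theorem pos_check : ((List.range 2048).all fun v => cond (Nat.beq v 0) true
    (cond (isB v) (Nat.ble 1771 (tget pos 11 v)) (Nat.blt (tget pos 11 v) 1771))) = true := by
  decide +kernel

theorem fb_check2 : (fb.all fun f => cond (Nat.blt f 2048) (cond (isB f) false
    (fbp.any fun p => Nat.beq (Nat.xor p (lin Ax p)) f)) false) = true := by
  decide +kernel

theorem fb_nodup : fb.Nodup := by decide +kernel

/-- the relation `R` -/
def rr (a b e : ℕ) : Bool :=
  cond (isB (Nat.xor a e)) (cond (isB (Nat.xor b e)) (isB (Nat.xor (Nat.xor a b) e)) false) false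

/-- `20` is related to all elements of `fb` -/
theorem rr_twenty : (fb.all fun v => dl.any fun e => rr 20 v e) = true := by decide +kernel

/-- related elements of `fb` are on a line -/
def onl (a b : ℕ) : Bool := cond (Nat.beq a 0) true (cond (Nat.beq b 0) true (cond (Nat.beq a b) true
  (lns.any fun l => cond (l.2.any (Nat.beq a)) (l.2.any (Nat.beq b)) false)))

private noncomputable def btT {α : Type} (P : α → Bool) (l : List α) : ℕ := List.rec 0 (fun e _ ih => Nat.bit (P e) ih) l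

private theorem btT_any {α : Type} (P Q : α → Bool) (l : List α) :
    (l.any fun x => cond (P x) (Q x) false) = !(Nat.beq (Nat.land (btT P l) (btT Q l)) 0) := by
  induction l with
  | nil => exact (by decide : false = !(Nat.beq (Nat.land 0 0) 0))
  | cons e l ih =>
    rw [List.any_cons, ih]
    show _ = !(Nat.beq (Nat.bit (P e) (btT P l) &&& Nat.bit (Q e) (btT Q l)) 0)
    rw [Nat.land_bit]
    show (_ || !(Nat.beq (btT P l &&& btT Q l) 0)) = _
    generalize btT P l &&& btT Q l = z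
    cases P e <;> cases Q e <;> cases z <;> rfl

private noncomputable def lmT (a : ℕ) : ℕ := btT (fun l : List ℕ × List ℕ => l.2.any (Nat.beq a)) lns

private noncomputable def onT (a b : ℕ) : Bool := cond (Nat.beq a 0) true (cond (Nat.beq b 0) true (cond (Nat.beq a b) true
  (!(Nat.beq (Nat.land (lmT a) (lmT b)) 0))))

private theorem onT_eq : onl = onT := by
  funext a b
  delta onl onT lmT
  rw [btT_any]

private noncomputable def r1T (a : ℕ) : ℕ := btT (fun v => cond (Nat.beq v 0) false (cond (Nat.beq v 20) false (onT v a))) fb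

private noncomputable def r2T (b : ℕ) : ℕ := btT (fun v => onT v b) fb

/-- the members `e` of the list with `isB (a + e)`, as bits -/
private noncomputable def tB (l : List ℕ) (a : ℕ) : ℕ := List.rec 0 (fun e _ ih => Nat.bit (isB (Nat.xor a e)) ih) l

private theorem tB_spec (a b : ℕ) : ∀ l : List ℕ, tB l a &&& tB l b &&& tB l (Nat.xor a b) = 0 →
    (l.all fun e => cond (rr a b e) false true) = true
  | [], _ => rfl
  | e :: l, h => by
    replace h : Nat.bit (isB (Nat.xor a e)) (tB l a) &&& Nat.bit (isB (Nat.xor b e)) (tB l b) &&&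
      Nat.bit (isB (Nat.xor (Nat.xor a b) e)) (tB l (Nat.xor a b)) = 0 := h
    rw [Nat.land_bit, Nat.land_bit, Nat.bit_eq_zero_iff] at h
    rw [List.all_cons, tB_spec a b l h.1, Bool.and_true]
    have h2 := h.2
    delta rr
    revert h2
    cases isB (Nat.xor a e) <;> cases isB (Nat.xor b e) <;> cases isB (Nat.xor (Nat.xor a b) e) <;> decide

theorem rr_onl : (fb.all fun a => fb.all fun b => cond (onl a b) true
    (dl.all fun e => cond (rr a b e) false true)) = true := by
  have h : (fb.all fun a => fb.all fun b => cond (onl a b) true (Nat.beq (Nat.land (Nat.land (tB dl a) (tB dl b))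
      (Nat.rec (tB dl 0) (fun k _ => tB dl (Nat.succ k)) (Nat.xor a b))) 0)) = true := by
    rw [onT_eq]; decide +kernel
  refine List.all_eq_true.2 fun a ha => List.all_eq_true.2 fun b hb => ?_
  have h1 := List.all_eq_true.1 (List.all_eq_true.1 h a ha) b hb
  cases ho : onl a b with
  | true => rfl
  | false =>
    rw [ho, cond_false, show ∀ x : ℕ, (Nat.rec (tB dl 0) (fun k _ => tB dl (Nat.succ k)) x : ℕ) = tB dl x from fun x => by cases x <;> rfl] at h1
    exact tB_spec a b dl (Nat.eq_of_beq_eq_true h1)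

/-- an element which is on a line with `b` and with `b'`, not on a line, is `0` or `20` -/
theorem onl_two : (fb.all fun a => fb.all fun b => cond (onl a b) true
    (fb.all fun v => cond (Nat.beq v 0) true (cond (Nat.beq v 20) true
      (cond (onl v a) (cond (onl v b) false true) true)))) = true := by
  have h : (fb.all fun a => fb.all fun b => cond (onT a b) true (Nat.beq (Nat.land (r1T a) (r2T b)) 0)) = true := by
    decide +kernel
  rw [onT_eq]
  refine List.all_eq_true.2 fun a ha => List.all_eq_true.2 fun b hb => ?_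
  have h1 := List.all_eq_true.1 (List.all_eq_true.1 h a ha) b hb
  cases ho : onT a b with
  | true => rfl
  | false =>
    rw [ho, cond_false] at h1
    have h2 := btT_any (fun v => cond (Nat.beq v 0) false (cond (Nat.beq v 20) false (onT v a))) (fun v => onT v b) fb
    delta r1T r2T at h1
    rw [h1] at h2
    refine List.all_eq_true.2 fun v hv => ?_
    have h3 := List.any_eq_false.1 h2 v hv
    revert h3
    cases Nat.beq v 0 <;> cases Nat.beq v 20 <;> cases onT v a <;> cases onT v b <;> decide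

/-- the lines are images of the standard line -/
theorem lns_check : (lns.all fun l => l.2.all fun a => (List.range 8).any fun u =>
    Nat.beq a (actG Ax Ay l.1 (lin Data.zl u))) = true := by decide +kernel

theorem cw1_check : (cw1.all fun p => cond (Nat.beq (wordP (p.1 ++ w1)) (wordP (w1 ++ p.1)))
    (p.2 == mat p.1) false) = true := by decide +kernel

theorem cw2_check : (cw2.all fun p => cond (Nat.beq (wordP (p.1 ++ [0])) (wordP ([0] ++ p.1)))
    (p.2 == mat p.1) false) = true := by decide +kernel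

theorem cw1_fix : ((List.range 2048).all fun v => cond (Nat.beq v 0) true
    (cw1.any fun p => cond (Nat.beq (lin p.2 v) v) false true)) = true := by
  refine List.all_eq_true.2 fun v hv => ?_
  exact alT_sound [1219, 1699, 534, 1469, 1996, 8, 1658, 1741, 1036, 772, 752] (fun v w => cond (Nat.beq v 0) true
    (cond (Nat.beq w v) false true || cw1.tail.any fun p => cond (Nat.beq (lin p.2 v) v) false true)) (by decide +kernel) v
    (List.mem_range.1 hv)

theorem cw2_fix : ((List.range 2048).all fun v => cond (Nat.beq v 0) true (cond (Nat.beq v 20) true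
    (cw2.any fun p => cond (Nat.beq (lin p.2 v) v) false true))) = true := by
  refine List.all_eq_true.2 fun v hv => ?_
  exact alT_sound [21, 8, 16, 2, 4, 128, 256, 32, 64, 1024, 512] (fun v w => cond (Nat.beq v 0) true (cond (Nat.beq v 20) true
    (cond (Nat.beq w v) false true || cw2.tail.any fun p => cond (Nat.beq (lin p.2 v) v) false true))) (by decide +kernel) v
    (List.mem_range.1 hv)

end Cfsg.Agent.H795.JM
end

-- part: H795/JM/Equi
section
/-!
# Conjugation of the sets `F_w` (helper795, S5580, JM-F11)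
-/

set_option autoImplicit false

namespace Cfsg.Agent.H795.JM

open Cfsg.Agent.H860.JM

variable {G : Type*} [Group G] {Γ : Geom G}

theorem cj_inv_cj (g : G) (P : Subgroup G) : cj g⁻¹ (cj g P) = P := by
  rw [cj_cj, inv_mul_cancel, cj_eq_iff]
  exact Subgroup.one_mem _

theorem TyA_cj (hL : ∀ g D, Γ.Ln D → Γ.Ln (cj g D)) (g : G) {a b : G} (h : TyA Γ a b) :
    TyA Γ (g * a * g⁻¹) (g * b * g⁻¹) := by
  obtain ⟨D, h1, h2, h3⟩ := h
  refine ⟨cj g D, hL g D h1, mem_cj.2 ?_, mem_cj.2 ?_⟩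
  · have : g⁻¹ * (g * a * g⁻¹) * g = a := by group
    rw [this]; exact h2
  · have : g⁻¹ * (g * b * g⁻¹) * g = b := by group
    rw [this]; exact h3

theorem Fs_cj (hA : ∀ g u, Γ.A u → Γ.A (g * u * g⁻¹)) (g : G) {P : Subgroup G} {w v : G}
    (h : v ∈ Fs Γ P w) : g * v * g⁻¹ ∈ Fs Γ (cj g P) (g * w * g⁻¹) := by
  obtain ⟨h1, h2, h3⟩ := h
  refine ⟨mem_cj.2 ?_, ?_, h3.imp ?_ fun h => ⟨hA _ _ h.1, ?_⟩⟩
  · have : g⁻¹ * (g * v * g⁻¹) * g = v := by group
    rw [this]; exact h1
  · calc g * v * g⁻¹ * (g * w * g⁻¹) = g * (v * w) * g⁻¹ := by group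
      _ = g * (w * v) * g⁻¹ := by rw [h2]
      _ = _ := by group
  · rintro rfl
    group
  · have : g * v * g⁻¹ * (g * w * g⁻¹) = g * (v * w) * g⁻¹ := by group
    rw [this]; exact hA _ _ h.2

theorem Fs_cj_iff (hA : ∀ g u, Γ.A u → Γ.A (g * u * g⁻¹)) (g : G) {P : Subgroup G} {w v : G} :
    v ∈ Fs Γ (cj g P) (g * w * g⁻¹) ↔ g⁻¹ * v * g ∈ Fs Γ P w := by
  constructor
  · intro h
    have h1 := Fs_cj hA g⁻¹ h
    rw [cj_inv_cj] at h1
    have e1 : g⁻¹ * (g * w * g⁻¹) * g⁻¹⁻¹ = w := by group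
    rw [e1, inv_inv] at h1
    exact h1
  · intro h
    have h1 := Fs_cj hA g h
    have e1 : g * (g⁻¹ * v * g) * g⁻¹ = v := by group
    rw [e1] at h1
    exact h1

theorem Fs_ncard (hA : ∀ g u, Γ.A u → Γ.A (g * u * g⁻¹)) (g : G) (P : Subgroup G) (w : G) :
    (Fs Γ (cj g P) (g * w * g⁻¹)).ncard = (Fs Γ P w).ncard := by
  have h : Fs Γ (cj g P) (g * w * g⁻¹) = (fun v => g * v * g⁻¹) '' Fs Γ P w := by
    ext v
    rw [Fs_cj_iff hA]
    constructor
    · intro h
      exact ⟨_, h, by group⟩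
    · rintro ⟨u, hu, rfl⟩
      have e1 : g⁻¹ * (g * u * g⁻¹) * g = u := by group
      rw [e1]; exact hu
  rw [h]
  exact Set.ncard_image_of_injective _ fun a b hab => mul_left_cancel (mul_right_cancel hab)

theorem IsX_cj (hA : ∀ g u, Γ.A u → Γ.A (g * u * g⁻¹)) (hL : ∀ g D, Γ.Ln D → Γ.Ln (cj g D)) (g : G)
    {P : Subgroup G} {w x : G} (h : IsX Γ P w x) : IsX Γ (cj g P) (g * w * g⁻¹) (g * x * g⁻¹) where
  mem := Fs_cj hA g h.mem
  ne h1 := h.ne (by
    have h2 : x = g⁻¹ * (g * x * g⁻¹) * g := by group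
    rw [h2, h1]; group)
  tyA := TyA_cj hL g h.tyA

theorem Act_cj (hA : ∀ g u, Γ.A u → Γ.A (g * u * g⁻¹)) (g : G)
    {P : Subgroup G} {w : G} (h : Act Γ P w) : Act Γ (cj g P) (g * w * g⁻¹) where
  mem := by
    rw [normalizer_cj, mem_cj]
    have : g⁻¹ * (g * w * g⁻¹) * g = w := by group
    rw [this]; exact h.mem
  not_mem := by
    rw [mem_cj]
    have : g⁻¹ * (g * w * g⁻¹) * g = w := by group
    rw [this]; exact h.not_mem
  A := hA _ _ h.A

theorem KB_cj (hA : ∀ g u, Γ.A u → Γ.A (g * u * g⁻¹)) (hL : ∀ g D, Γ.Ln D → Γ.Ln (cj g D)) (g : G)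
    {P : Subgroup G} {w : G} (h : KB Γ P w) : KB Γ (cj g P) (g * w * g⁻¹) where
  act := Act_cj hA g h.act
  card := by rw [Fs_ncard hA]; exact h.card
  ex := by
    obtain ⟨x, h1, h2, h3⟩ := h.ex
    refine ⟨g * x * g⁻¹, IsX_cj hA hL g h1, fun y hy => ?_, fun v hv => ?_⟩
    · have h4 := IsX_cj hA hL g⁻¹ hy
      rw [cj_inv_cj] at h4
      have e1 : g⁻¹ * (g * w * g⁻¹) * g⁻¹⁻¹ = w := by group
      rw [e1] at h4
      rw [← h2 _ h4]
      group
    · have h4 := TyA_cj hL g (h3 _ ((Fs_cj_iff hA g).1 hv))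
      have e1 : g * (g⁻¹ * v * g) * g⁻¹ = v := by group
      rwa [e1] at h4

end Cfsg.Agent.H795.JM
end

-- part: H795/JM/F11A
section
/-!
# The fact `F11` of the 2-local geometry of `J4` (helper795, S5580, JM-F11)

For `w` of kind B at `EJ` the image of `w` in `M24` is of type `2^12` and `F_w`, `x_w` are the images of `fb`, `20`
under an element of `M24` (`exists_frame`).  In `F_w` the elements related to both elements of a pair of type b are
`1` and `x_w` (`onl_two`), and all elements of `F_w` are related to `x_w` (`rr_twenty`).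
-/

set_option autoImplicit false

open Cfsg

namespace Cfsg.Agent.H795.JM

open Cfsg.Agent.H860.JM
open Cfsg.Agent.J4.Invol (EJ s d)
open Cfsg.Agent.J4.Rep112 Cfsg.Agent.J4.Pres Cfsg.Agent.J4.M24Hom Cfsg.Agent.J4.Nodes Cfsg.Agent.J4.Beta
open Cfsg.Agent.J4.Classes Cfsg.Agent.J4.ClassesData Cfsg.Agent.J4.ClassesAbs
open Cfsg.Agent.J4.M24InvolData Cfsg.Agent.J4.Lower
open Cfsg.Agent.H858 Cfsg.Agent.H858.VK Cfsg.Agent.H858.Data

/-- the group `Spor.J4` -/
local notation "𝒢" => Cfsg.Spor.J4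

/-! ### Classes of labels -/

theorem geo_A_conj (g u : 𝒢) (h : geo.A u) : geo.A (g * u * g⁻¹) :=
  IsConj.trans h (isConj_iff.2 ⟨g, rfl⟩)

theorem geo_B_conj (g u : 𝒢) (h : geo.B u) : geo.B (g * u * g⁻¹) :=
  IsConj.trans h (isConj_iff.2 ⟨g, rfl⟩)

theorem geo_L_conj (g : 𝒢) (D : Subgroup 𝒢) (h : geo.Ln D) : geo.Ln (cj g D) := by
  obtain ⟨k, rfl⟩ := h
  exact ⟨g * k, cj_cj g k _⟩

theorem geo_disj {u : 𝒢} (h1 : geo.A u) (h2 : geo.B u) : False :=
  Cfsg.Agent.J4.Invol.not_isConj_s_d (IsConj.trans h1 (IsConj.symm h2))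

theorem rho_s' : rho s = beta qs 1024 := Cfsg.Agent.J4.Invol.rho_s
theorem rho_d' : rho d = beta qs 5 := Cfsg.Agent.J4.Invol.rho_d

theorem conj_label {v : ℕ} (hv : v < 2048) (h0 : v ≠ 0) :
    ∃ m : M24, V v = phi m * (if isB v = true then d else s) * (phi m)⁻¹ := by
  have h1 := orb_ok
  unfold orbOk at h1
  rw [Bool.and_eq_true, Bool.and_eq_true, List.all_eq_true, List.all_eq_true] at h1
  have h2 := h1.1.2 v (List.mem_range.mpr hv)
  rw [Bool.or_eq_true, Nat.beq_eq, Bool.and_eq_true, Nat.blt_eq, Nat.beq_eq] at h2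
  rcases h2 with h2 | ⟨h2, h3⟩
  · exact absurd h2 h0
  · obtain ⟨m, hm⟩ := Cfsg.Agent.J4.Invol.conj_arr hyp _ h2
    rw [h3] at hm
    refine ⟨m, rho_injective ?_⟩
    rw [map_mul, map_mul, map_inv, rho_V, hm]
    have h4 := pos_check
    rw [List.all_eq_true] at h4
    have h5 := h4 v (List.mem_range.mpr hv)
    have h6 : Nat.beq v 0 = false := by
      rw [← Bool.not_eq_true, Nat.beq_eq]; exact h0
    rw [h6, cond_false] at h5
    rcases hb : isB v with _ | _
    · rw [hb, cond_false, Nat.blt_eq] at h5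
      rw [if_pos h5, if_neg Bool.false_ne_true, rho_s']
      rfl
    · rw [hb, cond_true, Nat.ble_eq] at h5
      rw [if_neg (by omega), if_pos rfl, rho_d']
      rfl

theorem geo_A_V {v : ℕ} (hv : v < 2048) (h0 : v ≠ 0) (hb : isB v = false) : geo.A (V v) := by
  obtain ⟨m, hm⟩ := conj_label hv h0
  rw [hb, if_neg Bool.false_ne_true] at hm
  rw [hm]
  exact geo_A_conj _ _ (IsConj.refl s)

theorem geo_B_V {v : ℕ} (hv : v < 2048) : geo.B (V v) ↔ isB v = true := by
  have hz : isB 0 = false := by decide +kernel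
  rcases Nat.eq_zero_or_pos v with rfl | h0
  · rw [hz]
    refine ⟨fun h => ?_, fun h => absurd h Bool.false_ne_true⟩
    exfalso
    obtain ⟨g, hg⟩ := isConj_iff.1 (show IsConj d (V 0) from h)
    rw [V_zero] at hg
    have h1 : d = 1 := by
      have h2 : d = g⁻¹ * (g * d * g⁻¹) * g := by group
      rw [h2, hg]; group
    have h3 := rho_d'
    rw [h1, map_one] at h3
    have h4 : beta qs 0 = beta qs 5 := by rw [beta_zero]; exact h3
    exact absurd (beta_inj hyp.sq hyp.comm hyp.ind (by rw [qs_len]; norm_num)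
      (by rw [qs_len]; norm_num) h4) (by norm_num)
  · constructor
    · intro h
      rcases hb : isB v with _ | _
      · exact (geo_disj (geo_A_V hv h0.ne' hb) h).elim
      · rfl
    · intro hb
      obtain ⟨m, hm⟩ := conj_label hv h0.ne'
      rw [hb, if_pos rfl] at hm
      rw [hm]
      exact geo_B_conj _ _ (IsConj.refl d)

/-! ### The relation `R` -/

/-- there is a duad `e` with `a e`, `b e`, `a b e` duads -/
def RR (a b : 𝒢) : Prop := ∃ e, e ∈ EJ ∧ geo.B e ∧ geo.B (a * e) ∧ geo.B (b * e) ∧ geo.B (a * b * e)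

theorem phi_mem (m : M24) : phi m ∈ Subgroup.normalizer (EJ : Set 𝒢) := phi_norm ⟨m, rfl⟩

theorem conj_mem {g x : 𝒢} (hg : g ∈ Subgroup.normalizer (EJ : Set 𝒢)) (hx : x ∈ EJ) :
    g * x * g⁻¹ ∈ EJ := (Subgroup.mem_normalizer_iff.1 hg x).1 hx

theorem RR_conj {g a b : 𝒢} (hg : g ∈ Subgroup.normalizer (EJ : Set 𝒢)) (h : RR a b) :
    RR (g * a * g⁻¹) (g * b * g⁻¹) := by
  obtain ⟨e, h1, h2, h3, h4, h5⟩ := h
  refine ⟨g * e * g⁻¹, conj_mem hg h1, geo_B_conj _ _ h2, ?_, ?_, ?_⟩
  · have : g * a * g⁻¹ * (g * e * g⁻¹) = g * (a * e) * g⁻¹ := by group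
    rw [this]; exact geo_B_conj _ _ h3
  · have : g * b * g⁻¹ * (g * e * g⁻¹) = g * (b * e) * g⁻¹ := by group
    rw [this]; exact geo_B_conj _ _ h4
  · have : g * a * g⁻¹ * (g * b * g⁻¹) * (g * e * g⁻¹) = g * (a * b * e) * g⁻¹ := by group
    rw [this]; exact geo_B_conj _ _ h5

theorem xor_lt {a b : ℕ} (ha : a < 2048) (hb : b < 2048) : a ^^^ b < 2048 :=
  Nat.xor_lt_two_pow (n := 11) ha hb

theorem mem_dl {e : ℕ} (h : e ∈ dl) : e < 2048 ∧ isB e = true := by
  have h1 := dl_check2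
  rw [List.all_eq_true] at h1
  have h2 := h1 e h
  rcases hb : Nat.blt e 2048 with _ | _
  · rw [hb] at h2; exact absurd h2 Bool.false_ne_true
  · rw [hb] at h2
    rw [Nat.blt_eq] at hb
    exact ⟨hb, h2⟩

theorem mem_dl_of {e : ℕ} (h : e < 2048) (hb : isB e = true) : e ∈ dl := by
  have h1 := dl_check
  rw [List.all_eq_true] at h1
  have h2 := h1 e (List.mem_range.2 h)
  rw [hb, cond_true, List.any_eq_true] at h2
  obtain ⟨x, hx, h3⟩ := h2
  rw [Nat.beq_eq] at h3
  rwa [h3]

theorem rr_iff {a b e : ℕ} (ha : a < 2048) (hb : b < 2048) (he : e < 2048) : rr a b e = true ↔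
    geo.B (V a * V e) ∧ geo.B (V b * V e) ∧ geo.B (V a * V b * V e) := by
  rw [← V_xor, ← V_xor, ← V_xor, ← V_xor, geo_B_V (xor_lt ha he), geo_B_V (xor_lt hb he),
    geo_B_V (xor_lt (xor_lt ha hb) he)]
  change cond (isB (a ^^^ e)) (cond (isB (b ^^^ e)) (isB ((a ^^^ b) ^^^ e)) false) false = true ↔ _
  rcases isB (a ^^^ e) with _ | _ <;> rcases isB (b ^^^ e) with _ | _ <;>
    rcases isB ((a ^^^ b) ^^^ e) with _ | _ <;> simp

theorem RR_V {a b : ℕ} (ha : a < 2048) (hb : b < 2048) :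
    RR (V a) (V b) ↔ ∃ e ∈ dl, rr a b e = true := by
  constructor
  · rintro ⟨_, h1, h2, h3⟩
    obtain ⟨e, he, rfl⟩ := mem_EJ.1 h1
    exact ⟨e, mem_dl_of he ((geo_B_V he).1 h2), (rr_iff ha hb he).2 h3⟩
  · rintro ⟨e, he, h⟩
    obtain ⟨h1, h2⟩ := mem_dl he
    exact ⟨V e, V_mem e, (geo_B_V h1).2 h2, (rr_iff ha hb h1).1 h⟩

theorem mem_fb {f : ℕ} (h : f ∈ fb) : f < 2048 ∧ isB f = false ∧ ∃ p, f = p ^^^ lin Ax p := by
  have h1 := fb_check2
  rw [List.all_eq_true] at h1
  have h2 := h1 f h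
  rcases hb : Nat.blt f 2048 with _ | _
  · rw [hb] at h2; exact absurd h2 Bool.false_ne_true
  · rw [hb, cond_true] at h2
    rcases hc : isB f with _ | _
    · rw [hc, cond_false, List.any_eq_true] at h2
      obtain ⟨p, -, hp⟩ := h2
      rw [Nat.blt_eq] at hb
      exact ⟨hb, rfl, p, (Nat.eq_of_beq_eq_true hp).symm⟩
    · rw [hc] at h2; exact absurd h2 Bool.false_ne_true

/-- all elements of `fb` are related to `20` -/
theorem RR_twenty {f : ℕ} (h : f ∈ fb) : RR (V 20) (V f) := by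
  have h1 := rr_twenty
  rw [List.all_eq_true] at h1
  have h2 := h1 f h
  rw [List.any_eq_true] at h2
  exact (RR_V (by norm_num) (mem_fb h).1).2 h2

/-- related elements of `fb` are on a line -/
theorem onl_of_RR {a b : ℕ} (ha : a ∈ fb) (hb : b ∈ fb) (h : RR (V a) (V b)) : onl a b = true := by
  have h1 := rr_onl
  rw [List.all_eq_true] at h1
  have h2 := h1 a ha
  rw [List.all_eq_true] at h2
  have h3 := h2 b hb
  rcases hc : onl a b with _ | _
  · exfalso
    rw [hc, cond_false, List.all_eq_true] at h3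
    obtain ⟨e, he, h4⟩ := (RR_V (mem_fb ha).1 (mem_fb hb).1).1 h
    have h5 := h3 e he
    rw [h4] at h5
    exact absurd h5 Bool.false_ne_true
  · rfl

/-- elements on a line are of type a -/
theorem TyA_of_onl {a b : ℕ} (ha : a ≠ 0) (hb : b ≠ 0) (hab : a ≠ b) (h : onl a b = true) :
    TyA geo (V a) (V b) := by
  unfold onl at h
  have e1 : Nat.beq a 0 = false := by rw [← Bool.not_eq_true, Nat.beq_eq]; exact ha
  have e2 : Nat.beq b 0 = false := by rw [← Bool.not_eq_true, Nat.beq_eq]; exact hb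
  have e3 : Nat.beq a b = false := by rw [← Bool.not_eq_true, Nat.beq_eq]; exact hab
  rw [e1, e2, e3, cond_false, cond_false, cond_false, List.any_eq_true] at h
  obtain ⟨l, hl, h1⟩ := h
  have key : ∀ c, l.2.any (Nat.beq c) = true → V c ∈ cj (phi (wordG l.1)) Loc7.Z := by
    intro c hc
    rw [List.any_eq_true] at hc
    obtain ⟨c', hc', h2⟩ := hc
    rw [Nat.beq_eq] at h2
    subst h2
    have h3 := lns_check
    rw [List.all_eq_true] at h3
    have h4 := h3 l hl
    rw [List.all_eq_true] at h4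
    have h5 := h4 c hc'
    rw [List.any_eq_true] at h5
    obtain ⟨u, -, h6⟩ := h5
    rw [Nat.beq_eq] at h6
    refine ⟨V (lin zl u), Loc7.V_mem_Z u rfl, ?_⟩
    show phi (wordG l.1) * V (lin zl u) * (phi (wordG l.1))⁻¹ = V c
    apply rho_injective
    rw [map_mul, map_mul, map_inv, rho_V, rho_V, h6]
    exact act_word l.1 (lin zl u)
  rcases hc : l.2.any (Nat.beq a) with _ | _
  · rw [hc] at h1; exact absurd h1 Bool.false_ne_true
  · rw [hc, cond_true] at h1
    exact ⟨_, ⟨_, rfl⟩, key a hc, key b h1⟩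

theorem eq_of_onl {a b v : ℕ} (ha : a ∈ fb) (hb : b ∈ fb) (hv : v ∈ fb) (h : onl a b = false)
    (h1 : onl v a = true) (h2 : onl v b = true) (h0 : v ≠ 0) : v = 20 := by
  have h3 := onl_two
  rw [List.all_eq_true] at h3
  have h4 := h3 a ha
  rw [List.all_eq_true] at h4
  have h5 := h4 b hb
  rw [h, cond_false, List.all_eq_true] at h5
  have h6 := h5 v hv
  have e1 : Nat.beq v 0 = false := by rw [← Bool.not_eq_true, Nat.beq_eq]; exact h0
  rw [e1, cond_false, h1, cond_true, h2, cond_true] at h6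
  rcases hc : Nat.beq v 20 with _ | _
  · rw [hc] at h6; exact absurd h6 Bool.false_ne_true
  · exact Nat.eq_of_beq_eq_true hc

end Cfsg.Agent.H795.JM
end

-- part: H795/JM/F11B
section
/-!
# The fact `F11`: the elements of kind B (helper795, S5580, JM-F11)
-/

set_option autoImplicit false

open Cfsg

namespace Cfsg.Agent.H795.JM

open Cfsg.Agent.H860.JM
open Cfsg.Agent.J4.Invol (EJ s d)
open Cfsg.Agent.J4.Rep112 Cfsg.Agent.J4.Pres Cfsg.Agent.J4.M24Hom Cfsg.Agent.J4.Nodes Cfsg.Agent.J4.Beta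
open Cfsg.Agent.J4.Classes Cfsg.Agent.J4.ClassesData Cfsg.Agent.J4.ClassesAbs
open Cfsg.Agent.J4.M24InvolData Cfsg.Agent.J4.Lower Cfsg.Agent.SporadicStructure.M24El
open Cfsg.Agent.H858 Cfsg.Agent.H858.VK Cfsg.Agent.H858.Data

/-- the group `Spor.J4` -/
local notation "𝒢" => Cfsg.Spor.J4

theorem phi_XM_V (v : ℕ) : phi XM * V v * (phi XM)⁻¹ = V (lin Ax v) := by
  apply rho_injective
  rw [map_mul, map_mul, map_inv, rho_V, rho_V]
  exact hyp.actX v

theorem el_P2 : Cfsg.Agent.SporadicStructure.M24El.el P2 = XM := by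
  apply Subtype.ext
  rw [coe_el Cfsg.Agent.J4.M24Invol.ok_P2]
  ext1 p
  rw [Cfsg.Agent.SporadicA.GolayPerm.permOf_apply]
  revert p
  decide +kernel

theorem el_P1_word : Cfsg.Agent.SporadicStructure.M24El.el P1 = wordG w1 := by
  rw [el_P1]
  rfl

theorem EJ_comm' {a b : 𝒢} (ha : a ∈ EJ) (hb : b ∈ EJ) : a * b = b * a :=
  Cfsg.Agent.J4.Invol.EJ_comm rho_injective a b ha hb

theorem Pt_EJ : geo.Pt EJ := ⟨1, (cj_eq_iff.2 (Subgroup.one_mem _)).symm⟩

/-- `x_w` is fixed by the elements of `M24` which commute with the image of `w` -/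
theorem x_fixed (h9 : F9 geo) {w x e : 𝒢} {σ c : M24} (hw : KB geo EJ w) (hx : IsX geo EJ w x)
    (he : e ∈ EJ) (hwe : w = e * phi σ) (hc : c * σ = σ * c) : phi c * x * (phi c)⁻¹ = x := by
  have hcj : cj (phi c) EJ = EJ := cj_eq_iff.2 (phi_mem c)
  have h1 := KB_cj geo_A_conj geo_L_conj (phi c) hw
  have h2 := IsX_cj geo_A_conj geo_L_conj (phi c) hx
  rw [hcj] at h1 h2
  refine (h9.x_eq EJ w _ x _ Pt_EJ hw h1 ?_ hx h2).symm
  have h3 : phi c * phi σ * (phi c)⁻¹ = phi σ := by
    rw [← map_mul, hc, map_mul]; group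
  have h4 : w⁻¹ * (phi c * w * (phi c)⁻¹) =
      phi σ⁻¹ * (e⁻¹ * (phi c * e * (phi c)⁻¹)) * (phi σ⁻¹)⁻¹ := by
    rw [hwe, map_inv, inv_inv]
    calc (e * phi σ)⁻¹ * (phi c * (e * phi σ) * (phi c)⁻¹) =
        (phi σ)⁻¹ * e⁻¹ * (phi c * e * (phi c)⁻¹) * (phi c * phi σ * (phi c)⁻¹) := by group
      _ = (phi σ)⁻¹ * e⁻¹ * (phi c * e * (phi c)⁻¹) * phi σ := by rw [h3]
      _ = _ := by group
  rw [h4]
  exact conj_mem (phi_mem _) (EJ.mul_mem (EJ.inv_mem he) (conj_mem (phi_mem c) he))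

theorem wordG_comm {l m : List ℕ} (h : Nat.beq (wordP (l ++ m)) (wordP (m ++ l)) = true) :
    wordG l * wordG m = wordG m * wordG l := by
  rw [← M24Norm.wordG_append, ← M24Norm.wordG_append]
  exact M24Norm.wordG_eq (Nat.eq_of_beq_eq_true h)

/-- a label fixed by the words of a list -/
theorem lin_fixed {v : ℕ} (hv : v < 2048) {l M : List ℕ} (hM : M = mat l)
    (h : phi (wordG l) * V v * (phi (wordG l))⁻¹ = V v) (hlt : ∀ a ∈ M, a < 2048) : lin M v = v := by
  have h1 := conj_V (isMat_word l) v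
  rw [← hM, h] at h1
  exact (V_inj hv (lin_lt hlt v) h1).symm

theorem cw1_lt : ∀ p ∈ cw1, ∀ a ∈ p.2, a < 2048 := by decide +kernel
theorem cw2_lt : ∀ p ∈ cw2, ∀ a ∈ p.2, a < 2048 := by decide +kernel

theorem cw1_mem {p : List ℕ × List ℕ} (hp : p ∈ cw1) :
    wordG p.1 * wordG w1 = wordG w1 * wordG p.1 ∧ p.2 = mat p.1 := by
  have h1 := cw1_check
  rw [List.all_eq_true] at h1
  have h2 := h1 p hp
  rcases hb : Nat.beq (wordP (p.1 ++ w1)) (wordP (w1 ++ p.1)) with _ | _
  · rw [hb] at h2; exact absurd h2 Bool.false_ne_true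
  · rw [hb, cond_true] at h2
    exact ⟨wordG_comm hb, by simpa using h2⟩

theorem cw2_mem {p : List ℕ × List ℕ} (hp : p ∈ cw2) :
    wordG p.1 * XM = XM * wordG p.1 ∧ p.2 = mat p.1 := by
  have h1 := cw2_check
  rw [List.all_eq_true] at h1
  have h2 := h1 p hp
  rcases hb : Nat.beq (wordP (p.1 ++ [0])) (wordP ([0] ++ p.1)) with _ | _
  · rw [hb] at h2; exact absurd h2 Bool.false_ne_true
  · rw [hb, cond_true] at h2
    have h3 := wordG_comm hb
    have h4 : wordG [0] = XM := by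
      show letG 0 * 1 = XM
      rw [mul_one]; rfl
    rw [h4] at h3
    exact ⟨h3, by simpa using h2⟩

/-- no label is fixed by the centralizer of the involution of type `1^8 2^8` -/
theorem no_fixed {v : ℕ} (hv : v < 2048) (h0 : v ≠ 0)
    (h : ∀ p ∈ cw1, phi (wordG p.1) * V v * (phi (wordG p.1))⁻¹ = V v) : False := by
  have h1 := cw1_fix
  rw [List.all_eq_true] at h1
  have h2 := h1 v (List.mem_range.2 hv)
  have e1 : Nat.beq v 0 = false := by rw [← Bool.not_eq_true, Nat.beq_eq]; exact h0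
  rw [e1, cond_false, List.any_eq_true] at h2
  obtain ⟨p, hp, h3⟩ := h2
  have h4 := lin_fixed hv (cw1_mem hp).2 (h p hp) (cw1_lt p hp)
  rw [h4, Nat.beq_refl] at h3
  exact absurd h3 Bool.false_ne_true

/-- the only label fixed by the centralizer of `XM` is `20` -/
theorem eq_of_fixed {v : ℕ} (hv : v < 2048) (h0 : v ≠ 0)
    (h : ∀ p ∈ cw2, phi (wordG p.1) * V v * (phi (wordG p.1))⁻¹ = V v) : v = 20 := by
  have h1 := cw2_fix
  rw [List.all_eq_true] at h1
  have h2 := h1 v (List.mem_range.2 hv)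
  have e1 : Nat.beq v 0 = false := by rw [← Bool.not_eq_true, Nat.beq_eq]; exact h0
  rw [e1, cond_false] at h2
  rcases hb : Nat.beq v 20 with _ | _
  · exfalso
    rw [hb, cond_false, List.any_eq_true] at h2
    obtain ⟨p, hp, h3⟩ := h2
    have h4 := lin_fixed hv (cw2_mem hp).2 (h p hp) (cw2_lt p hp)
    rw [h4, Nat.beq_refl] at h3
    exact absurd h3 Bool.false_ne_true
  · exact Nat.eq_of_beq_eq_true hb

/-- `F_w` for `w = e XM` -/
theorem Fs_eq {w e : 𝒢} (hw : KB geo EJ w) (he : e ∈ EJ) (hwe : w = e * phi XM) (v : 𝒢) :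
    v ∈ Fs geo EJ w ↔ ∃ f ∈ fb, v = V f := by
  classical
  have hws : w * w = 1 := by
    obtain ⟨g, hg⟩ := isConj_iff.1 (show IsConj s w from hw.act.A)
    have h1 : s * s = 1 := Cfsg.Agent.J4.Invol.EJ_sq rho_injective s
      (Cfsg.Agent.J4.Invol.s_mem rho_injective)
    rw [← hg]
    calc g * s * g⁻¹ * (g * s * g⁻¹) = g * (s * s) * g⁻¹ := by group
      _ = 1 := by rw [h1]; group
  have hwi : w⁻¹ = w := inv_eq_of_mul_eq_one_left hws
  have hact : ∀ p, w * V p * w = V (lin Ax p) := by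
    intro p
    have h1 : w * V p * w⁻¹ = e * (phi XM * V p * (phi XM)⁻¹) * e⁻¹ := by rw [hwe]; group
    rw [phi_XM_V, EJ_comm' he (V_mem _), mul_inv_cancel_right, hwi] at h1
    exact h1
  have hsub : V '' ((fb.toFinset : Finset ℕ) : Set ℕ) ⊆ Fs geo EJ w := by
    rintro _ ⟨f, hf, rfl⟩
    rw [Finset.mem_coe, List.mem_toFinset] at hf
    obtain ⟨hf1, hf2, p, hp⟩ := mem_fb hf
    have h1 : V f = V p * (w * V p * w) := by rw [hact, ← V_xor, ← hp]
    have h1' : V f = w * V p * w * V p := by rw [hact, ← V_xor, Nat.xor_comm, ← hp]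
    have h2 : V f * w = V p * w * V p := by
      rw [h1]
      calc V p * (w * V p * w) * w = V p * w * V p * (w * w) := by group
        _ = _ := by rw [hws, mul_one]
    have h3 : w * V f = V p * w * V p := by
      rw [h1']
      calc w * (w * V p * w * V p) = w * w * (V p * w * V p) := by group
        _ = _ := by rw [hws, one_mul]
    refine ⟨V_mem f, h2.trans h3.symm, ?_⟩
    rcases Nat.eq_zero_or_pos f with h0 | h0
    · left; rw [h0, V_zero]
    · right
      refine ⟨geo_A_V hf1 h0.ne' hf2, ?_⟩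
      rw [h2]
      have h4 := geo_A_conj (V p) w hw.act.A
      rwa [V_inv] at h4
  have hcard : (V '' ((fb.toFinset : Finset ℕ) : Set ℕ)).ncard = 32 := by
    rw [Set.InjOn.ncard_image, Set.ncard_coe_finset, List.toFinset_card_of_nodup fb_nodup]
    · rfl
    · intro a ha b hb hab
      rw [Finset.mem_coe, List.mem_toFinset] at ha hb
      exact V_inj (mem_fb ha).1 (mem_fb hb).1 hab
  have hfin : (Fs geo EJ w).Finite := Set.finite_of_ncard_ne_zero (by rw [hw.card]; norm_num)
  have heq := Set.eq_of_subset_of_ncard_le hsub (by rw [hcard, hw.card]) hfin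
  rw [← heq]
  constructor
  · rintro ⟨f, hf, rfl⟩
    rw [Finset.mem_coe, List.mem_toFinset] at hf
    exact ⟨f, hf, rfl⟩
  · rintro ⟨f, hf, rfl⟩
    exact ⟨f, by rw [Finset.mem_coe, List.mem_toFinset]; exact hf, rfl⟩

/-- **The elements of kind B.** -/
theorem exists_frame (h9 : F9 geo)
    (hN : ∀ x ∈ Subgroup.normalizer (EJ : Set 𝒢), ∃ e ∈ EJ, ∃ k, x = e * phi k) {w x : 𝒢}
    (hw : KB geo EJ w) (hx : IsX geo EJ w x) : ∃ g : M24, x = phi g * V 20 * (phi g)⁻¹ ∧
      ∀ v, v ∈ Fs geo EJ w ↔ ∃ f ∈ fb, v = phi g * V f * (phi g)⁻¹ := by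
  obtain ⟨e, he, σ, hwe⟩ := hN w hw.act.mem
  have hws : w * w = 1 := by
    obtain ⟨g, hg⟩ := isConj_iff.1 (show IsConj s w from hw.act.A)
    have h1 : s * s = 1 := Cfsg.Agent.J4.Invol.EJ_sq rho_injective s
      (Cfsg.Agent.J4.Invol.s_mem rho_injective)
    rw [← hg]
    calc g * s * g⁻¹ * (g * s * g⁻¹) = g * (s * s) * g⁻¹ := by group
      _ = 1 := by rw [h1]; group
  have hσ : σ * σ = 1 := by
    have h1 : phi (σ * σ) = (e * (phi σ * e * (phi σ)⁻¹))⁻¹ := by
      rw [eq_inv_iff_mul_eq_one, map_mul]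
      have h2 : e * phi σ * (e * phi σ) = 1 := by rw [← hwe]; exact hws
      have h3 : e * (phi σ * e * (phi σ)⁻¹) * (phi σ * phi σ) = 1 := by
        rw [← h2]; group
      exact mul_eq_one_comm.1 h3
    have h2 : phi (σ * σ) ∈ EJ := by
      rw [h1]
      exact EJ.inv_mem (EJ.mul_mem he (conj_mem (phi_mem σ) he))
    exact phi_injective (by rw [map_one]; exact inf_eq_one _ h2 ⟨_, rfl⟩)
  have hσ1 : σ ≠ 1 := by
    rintro rfl
    apply hw.act.not_mem
    rw [hwe, map_one, mul_one]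
    exact he
  obtain ⟨g, hg⟩ := Cfsg.Agent.J4.M24Invol.invol_conj σ hσ hσ1
  have hcj : cj (phi g) EJ = EJ := cj_eq_iff.2 (phi_mem g)
  have hw0 := KB_cj geo_A_conj geo_L_conj (phi g) hw
  have hx0 := IsX_cj geo_A_conj geo_L_conj (phi g) hx
  rw [hcj] at hw0 hx0
  have he0 : phi g * e * (phi g)⁻¹ ∈ EJ := conj_mem (phi_mem g) he
  have hwe0 : phi g * w * (phi g)⁻¹ = phi g * e * (phi g)⁻¹ * phi (g * σ * g⁻¹) := by
    rw [hwe, map_mul, map_mul, map_inv]; group
  obtain ⟨v0, hv0, hxv⟩ := mem_EJ.1 hx0.mem.1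
  have hv0' : v0 ≠ 0 := by
    rintro rfl
    exact hx0.ne (by rw [hxv, V_zero])
  rcases hg with hg | hg
  · exfalso
    rw [hg, el_P1_word] at hwe0
    refine no_fixed hv0 hv0' fun p hp => ?_
    rw [← hxv]
    exact x_fixed h9 hw0 hx0 he0 hwe0 (cw1_mem hp).1
  · rw [hg, el_P2] at hwe0
    have h20 : v0 = 20 := by
      refine eq_of_fixed hv0 hv0' fun p hp => ?_
      rw [← hxv]
      exact x_fixed h9 hw0 hx0 he0 hwe0 (cw2_mem hp).1
    refine ⟨g⁻¹, ?_, fun v => ?_⟩
    · rw [← h20, ← hxv, map_inv]; group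
    · have h1 := Fs_cj_iff geo_A_conj (phi g) (P := EJ) (w := w) (v := phi g * v * (phi g)⁻¹)
      have e1 : (phi g)⁻¹ * (phi g * v * (phi g)⁻¹) * phi g = v := by group
      rw [e1, hcj] at h1
      rw [← h1, Fs_eq hw0 he0 hwe0]
      constructor
      · rintro ⟨f, hf, h2⟩
        refine ⟨f, hf, ?_⟩
        rw [← h2, map_inv]; group
      · rintro ⟨f, hf, h2⟩
        refine ⟨f, hf, ?_⟩
        rw [h2, map_inv]; group

/-- the main statement at the point `EJ` -/
theorem core (h9 : F9 geo)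
    (hN : ∀ x ∈ Subgroup.normalizer (EJ : Set 𝒢), ∃ e ∈ EJ, ∃ k, x = e * phi k)
    {w w' x x' b b' : 𝒢} (hw : KB geo EJ w) (hw' : KB geo EJ w') (hx : IsX geo EJ w x)
    (hx' : IsX geo EJ w' x') (hb : b ∈ Fs geo EJ w) (hb' : b' ∈ Fs geo EJ w)
    (hbw' : b ∈ Fs geo EJ w') (hbw'' : b' ∈ Fs geo EJ w') (hxw : x' ∈ Fs geo EJ w)
    (h1 : b ≠ 1) (h1' : b' ≠ 1) (hne : b ≠ b') (hty : ¬ TyA geo b b') : x = x' := by
  obtain ⟨g, hg1, hg2⟩ := exists_frame h9 hN hw hx
  obtain ⟨k, hk1, hk2⟩ := exists_frame h9 hN hw' hx'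
  have hR : ∀ c, c ∈ Fs geo EJ w' → RR x' c := by
    intro c hc
    obtain ⟨f, hf, rfl⟩ := (hk2 c).1 hc
    rw [hk1]
    exact RR_conj (phi_mem k) (RR_twenty hf)
  obtain ⟨β, hβ, hbβ⟩ := (hg2 b).1 hb
  obtain ⟨β', hβ', hbβ'⟩ := (hg2 b').1 hb'
  obtain ⟨ξ, hξ, hxξ⟩ := (hg2 x').1 hxw
  have hback : ∀ {a c : ℕ}, RR (phi g * V a * (phi g)⁻¹) (phi g * V c * (phi g)⁻¹) →
      RR (V a) (V c) := by
    intro a c h
    have h2 := RR_conj (phi_mem g⁻¹) h
    have e1 : ∀ u, phi g⁻¹ * (phi g * u * (phi g)⁻¹) * (phi g⁻¹)⁻¹ = u := by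
      intro u
      rw [map_inv]; group
    rwa [e1, e1] at h2
  have r1 := hR b hbw'
  have r2 := hR b' hbw''
  rw [hxξ, hbβ] at r1
  rw [hxξ, hbβ'] at r2
  have o1 := onl_of_RR hξ hβ (hback r1)
  have o2 := onl_of_RR hξ hβ' (hback r2)
  have z0 : ∀ {a : ℕ} {c : 𝒢}, c ≠ 1 → c = phi g * V a * (phi g)⁻¹ → a ≠ 0 := by
    rintro a c hc rfl rfl
    apply hc
    rw [V_zero]; group
  have o3 : onl β β' = false := by
    rcases hc : onl β β' with _ | _
    · rfl
    · exfalso
      apply hty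
      rw [hbβ, hbβ']
      refine TyA_cj geo_L_conj (phi g) (TyA_of_onl (z0 h1 hbβ) (z0 h1' hbβ') ?_ hc)
      rintro rfl
      exact hne (hbβ.trans hbβ'.symm)
  have h20 := eq_of_onl hβ hβ' hξ o3 o1 o2 (z0 hx'.ne hxξ)
  rw [hxξ, h20]
  exact hg1

/-- **F11** from the structure of the normalizer of `EJ` -/
theorem f11_of (hN : ∀ x ∈ Subgroup.normalizer (EJ : Set 𝒢), ∃ e ∈ EJ, ∃ k, x = e * phi k)
    (h9 : F9 geo) : F11 geo := by
  rintro _ E ⟨g, rfl⟩ hE hA hEn b b' hbE hbE' hbP hbP' hb1 hb1' hbb hty w w' hwE hwE' hwP hwP' -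
    hw hw' - x x' - hx hx' - - hxE' -
  have key : ∀ {u c : 𝒢}, u ∈ E → u ∉ cj g EJ → c ∈ E → c ∈ cj g EJ → c ≠ 1 →
      c ∈ Fs geo (cj g EJ) u := by
    intro u c hu huP hc hcP hc1
    refine ⟨hcP, hE.comm c hc u hu, Or.inr ⟨hA c hc hc1, hA _ (E.mul_mem hc hu) fun h => huP ?_⟩⟩
    have h2 : u = c⁻¹ := (inv_eq_of_mul_eq_one_right h).symm
    rw [h2]
    exact Subgroup.inv_mem _ hcP
  have hxP' : x' ∈ cj g EJ := hx'.mem.1
  have T : ∀ {u c : 𝒢}, c ∈ Fs geo (cj g EJ) u → g⁻¹ * c * g⁻¹⁻¹ ∈ Fs geo EJ (g⁻¹ * u * g⁻¹⁻¹) := by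
    intro u c h
    have h1 := Fs_cj geo_A_conj g⁻¹ h
    rwa [cj_inv_cj] at h1
  have K : ∀ {u : 𝒢}, KB geo (cj g EJ) u → KB geo EJ (g⁻¹ * u * g⁻¹⁻¹) := by
    intro u h
    have h1 := KB_cj geo_A_conj geo_L_conj g⁻¹ h
    rwa [cj_inv_cj] at h1
  have I : ∀ {u c : 𝒢}, IsX geo (cj g EJ) u c → IsX geo EJ (g⁻¹ * u * g⁻¹⁻¹) (g⁻¹ * c * g⁻¹⁻¹) := by
    intro u c h
    have h1 := IsX_cj geo_A_conj geo_L_conj g⁻¹ h
    rwa [cj_inv_cj] at h1
  have hinj : ∀ {a c : 𝒢}, g⁻¹ * a * g⁻¹⁻¹ = g⁻¹ * c * g⁻¹⁻¹ → a = c := fun h =>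
    mul_left_cancel (mul_right_cancel h)
  have hone : ∀ {a : 𝒢}, a ≠ 1 → g⁻¹ * a * g⁻¹⁻¹ ≠ 1 := fun h h2 => h (hinj (h2.trans (by group)))
  apply hinj
  refine core h9 hN (K hw) (K hw') (I hx) (I hx') (T (key hwE hwP hbE hbP hb1))
    (T (key hwE hwP hbE' hbP' hb1')) (T (key hwE' hwP' hbE hbP hb1))
    (T (key hwE' hwP' hbE' hbP' hb1')) (T (key hwE hwP hxE' hxP' hx'.ne)) (hone hb1) (hone hb1')
    (fun h => hbb (hinj h)) fun h => hty ?_
  have h1 := TyA_cj geo_L_conj g h
  have e1 : ∀ u : 𝒢, g * (g⁻¹ * u * g⁻¹⁻¹) * g⁻¹ = u := fun u => by group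
  rwa [e1, e1] at h1

end Cfsg.Agent.H795.JM
end

-- part: H795/JM/F11
section
/-!
# The fact `F11` of the 2-local geometry of `J4` (helper795, S5580, JM-F11)
-/

set_option autoImplicit false

open Cfsg

namespace Cfsg.Agent.H795.JM

open Cfsg.Agent.H860.JM

/-- **F11** -/
theorem f11 (h9 : F9 geo) : F11 geo :=
  f11_of (fun x hx => by
    rw [NEJ_eq] at hx
    exact Cfsg.Agent.H858.VK.mem_B.1 hx) h9

end Cfsg.Agent.H795.JM
end

-- part: H796/JM/FFourteen
section
/-!
# `F14` : points and groups `X` (helper796)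
-/

set_option autoImplicit false

open scoped Pointwise

namespace Cfsg.Agent.H796.JM

open Cfsg Cfsg.Agent.SporadicA.GolayBase Cfsg.Agent.SporadicA.OctadFix
open Cfsg.Agent.J4Type Cfsg.Agent.J4Type.CocodeMask Cfsg.Agent.J4Type.TauM24
open Cfsg.Agent.J4Type.TauMask Cfsg.Agent.J4Type.FrameDefs
open Cfsg.Agent.H857.Card Cfsg.Agent.H857.Classify Cfsg.Agent.H857.WGrp
open Cfsg.Agent.H857.Orbits Cfsg.Agent.H857.Normal Cfsg.Agent.H857.T10Norm

variable {G : Type*} [Group G]

/-- a subgroup of `W(O)` without duads `{x, y}`, `x, y` in a set of at least three points of `O` -/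
theorem card_le_sixteen [Finite G] (C : J4Type.Compl G) {O S : Finset GolayPt} (hO : O ∈ octads)
    (hS : 3 ≤ S.card) (hSO : S ⊆ O) {K : Subgroup G} (hK : K ≤ WG C.toFrame O)
    (hd : ∀ x ∈ S, ∀ y ∈ S, x ≠ y → C.ε {x, y} ∉ K) : Nat.card K ≤ 16 := by
  obtain ⟨x, hx, y, hy, z, hz, hxy, hxz, hyz⟩ := Finset.two_lt_card.1 (show 2 < S.card by omega)
  have h1 := four_mul_card_le hK (fun w hw => E_sq (WG_le O hw))
    (duad_mem_WG (F := C.toFrame) (hSO hx) (hSO hy) hxy)
    (duad_mem_WG (F := C.toFrame) (hSO hx) (hSO hz) hxz) (hd x hx y hy hxy) (hd x hx z hz hxz)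
    (by rw [ε_pair_mul hxy hxz hyz]; exact hd y hy z hz hyz)
  have h2 := card_WG_le (F := C.toFrame) hO
  omega

/-- (eq) -/
theorem inf_eq_inf [Finite G] (C : J4Type.Compl G) {X X' : Subgroup G} (hX : IsX X) (hX' : IsX X')
    (hN : X ≤ Subgroup.normalizer (C.E hex0 : Set G))
    (hN' : X' ≤ Subgroup.normalizer (C.E hex0 : Set G))
    (h : 17 ≤ Nat.card (C.E hex0 ⊓ X ⊓ X' : Subgroup G)) : C.E hex0 ⊓ X = C.E hex0 ⊓ X' := by
  obtain ⟨O, hO, -, hW⟩ := octad_of C hX hN
  obtain ⟨O', hO', -, hW'⟩ := octad_of C hX' hN'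
  rw [inf_comm] at hW hW'
  by_cases hOO : O = O'
  · subst hOO
    rw [hW, hW']
  · exfalso
    have h1 : (O ∩ O').card ≤ 4 := by
      by_contra h5
      exact hOO (octad_unique hO hO' (by omega))
    have h2 : 4 ≤ (O \ O').card := by
      have h3 := Finset.card_sdiff_add_card_inter O O'
      have h4 := octad_card hO
      omega
    have h3 := card_le_sixteen C hO (S := O \ O') (by omega) Finset.sdiff_subset
      (K := C.E hex0 ⊓ X ⊓ X') (by rw [hW]; exact inf_le_left) (by
        intro x hx y hy hxy hm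
        have h4 : C.ε {x, y} ∈ WG C.toFrame O' := by
          rw [← hW']
          exact ⟨hm.1.1, hm.2⟩
        exact (Finset.mem_sdiff.1 hx).2 (mem_of_duad hO' hxy h4))
    omega

/-- a duad is in no other conjugate of `E` -/
theorem duad_not_mem_conj [Finite G] (C : J4Type.Compl G) {g : G} {p q : GolayPt} (hpq : p ≠ q)
    (h : C.ε {p, q} ∈ MulAut.conj g • C.E hex0) : MulAut.conj g • C.E hex0 = C.E hex0 := by
  rw [mem_smul_iff] at h
  have h1 : g⁻¹ * C.ε {p, q} * g ≠ 1 := by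
    intro h2
    apply DuadUniq.duad_ne_one C.toFrame hpq
    have h3 : C.ε {p, q} = g * (g⁻¹ * C.ε {p, q} * g) * g⁻¹ := by group
    rw [h3, h2]; group
  obtain ⟨r, s, hrs, h2⟩ := duad_of_not_conj C.toFrame h h1 (by
    intro h3
    apply C.duad_not_conj p q hpq
    exact h3.trans (isConj_iff.2 ⟨g, by group⟩))
  have h3 : g ∈ Subgroup.normalizer (C.E hex0 : Set G) := by
    apply mem_norm_of_conj (C := C) hrs hpq
    rw [← h2]; group
  ext x
  rw [mem_smul_iff]
  have h4 := Subgroup.mem_normalizer_iff.1 h3 (g⁻¹ * x * g)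
  rw [show g * (g⁻¹ * x * g) * g⁻¹ = x by group] at h4
  exact h4

/-- the image of `P' ⊓ X` in `M24` has order at least 4 -/
theorem four_le_im [Finite G] (C : J4Type.Compl G) {X : Subgroup G} (hX : IsX X)
    (hN : X ≤ Subgroup.normalizer (C.E hex0 : Set G)) {g : G}
    (hg : MulAut.conj g • C.E hex0 ≠ C.E hex0)
    (h : 64 ≤ Nat.card (MulAut.conj g • C.E hex0 ⊓ X : Subgroup G)) :
    4 ≤ Nat.card (im C.toFrame (MulAut.conj g • C.E hex0 ⊓ X)) := by
  obtain ⟨O, hO, -, hW⟩ := octad_of C hX hN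
  have h1 := card_eq_mul C.toFrame (V := MulAut.conj g • C.E hex0 ⊓ X) (inf_le_right.trans hN)
  have h2 : Nat.card (MulAut.conj g • C.E hex0 ⊓ X ⊓ C.E hex0 : Subgroup G) ≤ 16 := by
    apply card_le_sixteen C hO (S := O) (by rw [octad_card hO]; norm_num) (le_refl _)
    · rw [inf_assoc, hW]; exact inf_le_right
    · intro x _ y _ hxy hm
      exact hg (duad_not_mem_conj C hxy hm.1.1)
  by_contra h3
  have h4 : Nat.card (im C.toFrame (MulAut.conj g • C.E hex0 ⊓ X)) ≤ 3 := by omega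
  have h5 := Nat.mul_le_mul h2 h4
  rw [← h1] at h5
  omega

/-- (le) -/
theorem inf_le_X [Finite G] (C : J4Type.Compl G) {X : Subgroup G} (hX : IsX X)
    (hN : X ≤ Subgroup.normalizer (C.E hex0 : Set G)) {g : G}
    (hg : MulAut.conj g • C.E hex0 ≠ C.E hex0)
    (h : 64 ≤ Nat.card (MulAut.conj g • C.E hex0 ⊓ X : Subgroup G)) :
    C.E hex0 ⊓ MulAut.conj g • C.E hex0 ≤ X := by
  intro d hd
  obtain ⟨O, hO, him, hW⟩ := octad_of C hX hN
  obtain ⟨a, ha, b, hb, ha1, hb1, hab⟩ := FusionFact.exists_two_of_card (four_le_im C hX hN hg h)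
  obtain ⟨na, hna, rfl⟩ := (mem_im C.toFrame).1 ha
  obtain ⟨nb, hnb, rfl⟩ := (mem_im C.toFrame).1 hb
  have hcomm : ∀ n ∈ MulAut.conj g • C.E hex0 ⊓ X, n * d = d * n := by
    intro n hn
    exact (Cfsg.Agent.H856.TwoEleven.isElem2_smul (C.E_elem hex0 HexMax.hex0_isHex) g).2 n hn.1 d hd.2
  have hO' : ∀ n : NE C.toFrame, (n : G) ∈ X → (C.π n : Equiv.Perm GolayPt) ∈ fixOct O := by
    intro n hn
    rw [← him]
    exact (mem_im C.toFrame).2 ⟨n, hn, rfl⟩
  have h1 := mem_WG_of_comm hO (F := C.toFrame) (n := na) (m := nb) (hO' na hna.2)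
    (fun h => ha1 (by rw [h]; rfl)) (hO' nb hnb.2) (fun h => hb1 (by rw [h]; rfl))
    (fun h => hab (by rw [h])) hd.1 (hcomm _ hna) (hcomm _ hnb)
  rw [← hW] at h1
  exact h1.1

/-- (uniq) -/
theorem eq_of_inf [Finite G] (C : J4Type.Compl G) {X X' : Subgroup G} (hX : IsX X) (hX' : IsX X')
    (hN : X ≤ Subgroup.normalizer (C.E hex0 : Set G))
    (hN' : X' ≤ Subgroup.normalizer (C.E hex0 : Set G)) {g : G}
    (hg : MulAut.conj g • C.E hex0 ≠ C.E hex0)
    (h : 64 ≤ Nat.card (MulAut.conj g • C.E hex0 ⊓ X : Subgroup G))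
    (h' : MulAut.conj g • C.E hex0 ⊓ X = MulAut.conj g • C.E hex0 ⊓ X') : X = X' := by
  obtain ⟨a, ha, -, -, ha1, -, -⟩ := FusionFact.exists_two_of_card (four_le_im C hX hN hg h)
  obtain ⟨na, hna, rfl⟩ := (mem_im C.toFrame).1 ha
  have hna' := hna
  rw [h'] at hna'
  refine eq_of_mem C hX hX' hN hN' hna.2 hna'.2 ?_
  intro hE
  exact ha1 (by rw [(C.π_ker na).2 hE]; rfl)

/-! ### `F14` -/

section

open Cfsg.Agent.H860.JM

/-- the group `Spor.J4` -/
local notation "𝒢" => Cfsg.Spor.J4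

theorem exists_smul_eq {G : Type*} [Group G] (g : G) (X : Subgroup G) :
    ∃ X₁ : Subgroup G, X = MulAut.conj g • X₁ :=
  ⟨(MulAut.conj g)⁻¹ • X, (smul_inv_smul _ _).symm⟩

theorem isX_of_smul {G : Type*} [Group G] [Finite G] {g : G} {X : Subgroup G}
    (h : IsX (MulAut.conj g • X)) : IsX X := by
  have h1 := h.smul g⁻¹
  rwa [map_inv, inv_smul_smul] at h1

theorem f14 : F14 geo := by
  have := simple_J
  have := finite_J
  obtain ⟨C, L⟩ := exists_link
  have hcs : ∀ (g : 𝒢) (V : Subgroup 𝒢), Nat.card (MulAut.conj g • V : Subgroup 𝒢) = Nat.card V :=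
    fun g V => Cfsg.Agent.H856.TwoEleven.card_smul V g
  have hN : ∀ X : Subgroup 𝒢, IsX X → Nat.card (C.E hex0 ⊓ X : Subgroup 𝒢) = 64 →
      X ≤ Subgroup.normalizer (C.E hex0 : Set 𝒢) := by
    intro X hX h
    apply le_norm C hX
    rw [inf_comm, h]
  refine ⟨?_, ?_, ?_⟩
  · intro P X X' hP hX hX' h h' h32
    obtain ⟨g, rfl⟩ := (L.Pt P).1 hP
    obtain ⟨X, rfl⟩ := exists_smul_eq g X
    obtain ⟨X', rfl⟩ := exists_smul_eq g X'
    have hX := isX_of_smul (xc_iff.1 hX)
    have hX' := isX_of_smul (xc_iff.1 hX')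
    rw [← Subgroup.smul_inf, hcs] at h h'
    rw [← Subgroup.smul_inf, ← Subgroup.smul_inf, hcs] at h32
    rw [← Subgroup.smul_inf, ← Subgroup.smul_inf,
      inf_eq_inf C hX hX' (hN X hX h) (hN X' hX' h') (by omega)]
  · intro P P' X hP hP' hne hX h h'
    obtain ⟨g, rfl⟩ := (L.Pt P).1 hP
    obtain ⟨k, rfl⟩ := (L.Pt P').1 hP'
    obtain ⟨X, rfl⟩ := exists_smul_eq g X
    have hX := isX_of_smul (xc_iff.1 hX)
    have e : MulAut.conj k • C.E hex0 = MulAut.conj g • (MulAut.conj (g⁻¹ * k) • C.E hex0) := by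
      rw [← mul_smul, ← map_mul, mul_inv_cancel_left]
    rw [e, ← Subgroup.smul_inf, hcs] at h'
    rw [← Subgroup.smul_inf, hcs] at h
    rw [e] at hne
    rw [e, ← Subgroup.smul_inf, Subgroup.pointwise_smul_le_pointwise_smul_iff]
    exact inf_le_X C hX (hN X hX h) (fun h1 => hne (by rw [h1])) h'.ge
  · intro P P' X X' hP hP' hne hX hX' h h' h1 h2
    obtain ⟨g, rfl⟩ := (L.Pt P).1 hP
    obtain ⟨k, rfl⟩ := (L.Pt P').1 hP'
    obtain ⟨X, rfl⟩ := exists_smul_eq g X
    obtain ⟨X', rfl⟩ := exists_smul_eq g X'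
    have hX := isX_of_smul (xc_iff.1 hX)
    have hX' := isX_of_smul (xc_iff.1 hX')
    have e : MulAut.conj k • C.E hex0 = MulAut.conj g • (MulAut.conj (g⁻¹ * k) • C.E hex0) := by
      rw [← mul_smul, ← map_mul, mul_inv_cancel_left]
    rw [e, ← Subgroup.smul_inf, hcs] at h'
    rw [← Subgroup.smul_inf, hcs] at h
    rw [e] at hne
    rw [e, ← Subgroup.smul_inf, ← Subgroup.smul_inf] at h2
    rw [← Subgroup.smul_inf, ← Subgroup.smul_inf] at h1
    have h3 := MulAction.injective (MulAut.conj g) h1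
    have h4 := MulAction.injective (MulAut.conj g) h2
    rw [eq_of_inf C hX hX' (hN X hX h) (hN X' hX' (by rw [← h3]; exact h))
      (fun h5 => hne (by rw [h5])) h'.ge h4]

end

end Cfsg.Agent.H796.JM
end

-- part: H796/JM/FSixC
section
/-!
# Part (c) of `F16` : the centralizer of an elementary abelian group over a subgroup of `fixOct O` (helper796)
-/

set_option autoImplicit false

open scoped Pointwise

namespace Cfsg.Agent.H796.JM

open Cfsg Cfsg.Agent.SporadicA.GolayBase Cfsg.Agent.SporadicA.OctadFix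
open Cfsg.Agent.J4Type Cfsg.Agent.J4Type.CocodeMask Cfsg.Agent.J4Type.TauM24
open Cfsg.Agent.J4Type.TauMask Cfsg.Agent.J4Type.FrameDefs
open Cfsg.Agent.H857.Card Cfsg.Agent.H857.Classify Cfsg.Agent.H857.WGrp
open Cfsg.Agent.H857.Orbits Cfsg.Agent.H857.Normal Cfsg.Agent.H857.T10Norm

variable {G : Type*} [Group G]

/-- an involution commuting with an element of `X` outside `E`, over a different element of `fixOct O` -/
theorem mem_X_of_comm [Finite G] (C : J4Type.Compl G) {X : Subgroup G} (hX : IsX X)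
    (hN : X ≤ Subgroup.normalizer (C.E hex0 : Set G)) {O : Finset GolayPt} (hO : O ∈ octads)
    (him : im C.toFrame X = fixOct O) (hW : X ⊓ C.E hex0 = WG C.toFrame O) {w : G} (hw : w ∈ X)
    (hwE : w ∉ C.E hex0) {x' : G} (hx' : x' ∈ Subgroup.normalizer (C.E hex0 : Set G))
    (hx'x' : x' * x' = 1) (hwx' : w * x' = x' * w)
    (hτ : (C.π ⟨x', hx'⟩ : Equiv.Perm GolayPt) ∈ fixOct O) (h1 : C.π ⟨x', hx'⟩ ≠ 1)
    (hσ' : C.π ⟨x', hx'⟩ ≠ C.π ⟨w, hN hw⟩) : x' ∈ X := by
  set σ := C.π ⟨w, hN hw⟩ with hσ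
  have hσ1 : σ ≠ 1 := fun h => hwE ((C.π_ker ⟨w, hN hw⟩).1 h)
  have hσO : (σ : Equiv.Perm GolayPt) ∈ fixOct O := by
    rw [← him]
    exact (mem_im C.toFrame).2 ⟨⟨w, hN hw⟩, hw, rfl⟩
  obtain ⟨p, hp⟩ := FusionComm.exists_out hO
  have hpσ : p ≠ (σ : Equiv.Perm GolayPt) p := by
    intro h
    exact hσ1 (Subtype.ext (OctadFixTrans.eq_one_of_fix hO hσO hp h.symm))
  have hWX : WG C.toFrame O ≤ X := by rw [← hW]; exact inf_le_left
  rw [← him] at hτ
  obtain ⟨x, hxX, hx⟩ := (mem_im C.toFrame).1 hτ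
  rw [him] at hτ
  have hx2 : C.π x = C.π ⟨x', hx'⟩ := Subtype.ext hx
  set d := (x : G)⁻¹ * x' with hd
  have hdE : d ∈ C.E hex0 := by
    have h2 : C.π (x⁻¹ * ⟨x', hx'⟩) = 1 := by rw [map_mul, map_inv, hx2, inv_mul_cancel]
    exact (C.π_ker _).1 h2
  have hxx : (x : G) * x = 1 := hX.el.1 _ hxX
  have hdd : d * d = 1 := E_sq hdE
  have hx'd : x' = x * d := by rw [hd]; group
  have hxinv : (x : G)⁻¹ = x := inv_eq_of_mul_eq_one_left hxx
  have hxd : (x : G) * d = d * x := by
    have h2 : (x : G) * d * (x * d) = 1 := by rw [← hx'd]; exact hx'x'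
    calc (x : G) * d = (x * d) * ((x * d) * (x * d)) := by rw [h2, mul_one]
      _ = (x * d * (x * d)) * (x * d) := by group
      _ = x * d := by rw [h2, one_mul]
      _ = (x * d)⁻¹ := (inv_eq_of_mul_eq_one_left h2).symm
      _ = d⁻¹ * (x : G)⁻¹ := by group
      _ = d * x := by rw [inv_eq_of_mul_eq_one_left hdd, hxinv]
  have hwd : w * d = d * w := by
    have h2 := hX.el.2 w hw x hxX
    calc w * d = w * x * x' := by rw [hd, hxinv]; group
      _ = x * (w * x') := by rw [h2]; group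
      _ = x * (x' * w) := by rw [hwx']
      _ = d * w := by rw [hd, hxinv]; group
  have hc := cases_of_comm (F := C.toFrame) hO (n := ⟨w, hN hw⟩) hσO hσ1 hp hdE hwd
  rcases hc with hc | hc
  · rw [hx'd]
    exact X.mul_mem hxX (hWX hc)
  · exfalso
    have hε : (x : G) * C.ε {p, (σ : Equiv.Perm GolayPt) p} =
        C.ε {p, (σ : Equiv.Perm GolayPt) p} * x := by
      have h2 := hX.el.2 _ hxX _ (hWX hc)
      have h3 : C.ε {p, (σ : Equiv.Perm GolayPt) p} =
          d * (d * C.ε {p, (σ : Equiv.Perm GolayPt) p}) := by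
        rw [← mul_assoc, hdd, one_mul]
      calc (x : G) * C.ε {p, (σ : Equiv.Perm GolayPt) p}
          = x * (d * (d * C.ε {p, (σ : Equiv.Perm GolayPt) p})) := by rw [← h3]
        _ = x * d * (d * C.ε {p, (σ : Equiv.Perm GolayPt) p}) := by group
        _ = d * (x * (d * C.ε {p, (σ : Equiv.Perm GolayPt) p})) := by rw [hxd]; group
        _ = d * (d * C.ε {p, (σ : Equiv.Perm GolayPt) p} * x) := by rw [h2]
        _ = d * (d * C.ε {p, (σ : Equiv.Perm GolayPt) p}) * x := by group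
        _ = _ := by rw [← h3]
    rw [← hx2] at h1 hσ' hτ
    rcases duad_comm hpσ hε with h | h
    · exact h1 (Subtype.ext (OctadFixTrans.eq_one_of_fix hO hτ hp h))
    · apply hσ'
      apply Subtype.ext
      have h2 : (σ : Equiv.Perm GolayPt)⁻¹ * (C.π x : Equiv.Perm GolayPt) = 1 :=
        OctadFixTrans.eq_one_of_fix hO ((fixOct O).mul_mem ((fixOct O).inv_mem hσO) hτ) hp (by
          rw [Equiv.Perm.mul_apply, h]
          exact (σ : Equiv.Perm GolayPt).symm_apply_apply p)
      exact (inv_mul_eq_one.1 h2).symm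

/-- an element of `M24` stabilising an octad `O` and fixing six points of `O` fixes `O` pointwise -/
theorem fix_of_six {O : Finset GolayPt} (hO : O ∈ octads) {g : Equiv.Perm GolayPt} (hM : g ∈ M24)
    (hgO : g • O = O) {a b : GolayPt} (ha : a ∈ O) (hb : b ∈ O) (hab : a ≠ b)
    (hfix : ∀ x ∈ O, x ≠ a → x ≠ b → g x = x) : g a = a := by
  classical
  by_contra hga
  have hst := FusionM22.mem_iff_of_smul_eq hgO
  have hO8 : O.card = 8 := octad_card hO
  have hgab : g a = b := by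
    by_contra h
    have h1 := hfix (g a) ((hst a).2 ha) hga h
    exact hga (g.injective h1)
  have hgba : g b = a := by
    by_contra h
    by_cases h2 : g b = b
    · exact hab (g.injective (hgab.trans h2.symm))
    · have h1 := hfix (g b) ((hst b).2 hb) h h2
      exact h2 (g.injective h1)
  have hgg : ∀ x ∈ O, g (g x) = x := by
    intro x hx
    by_cases h1 : x = a
    · rw [h1, hgab, hgba]
    by_cases h2 : x = b
    · rw [h2, hgba, hgab]
    rw [hfix x hx h1 h2, hfix x hx h1 h2]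
  have h1 : b ∈ O.erase a := Finset.mem_erase.2 ⟨hab.symm, hb⟩
  have hO6 : ((O.erase a).erase b).card = 6 := by
    rw [Finset.card_erase_of_mem h1, Finset.card_erase_of_mem ha, hO8]
  have hall : ∀ y ∈ (O.erase a).erase b, g y = y := by
    intro y hy
    rw [Finset.mem_erase, Finset.mem_erase] at hy
    exact hfix y hy.2.2 hy.2.1 hy.1
  obtain ⟨p, hp, q, hq, hpq⟩ := Finset.one_lt_card.1 (show 1 < ((O.erase a).erase b).card by omega)
  have hpO := Finset.mem_of_mem_erase (Finset.mem_of_mem_erase hp)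
  have hqO := Finset.mem_of_mem_erase (Finset.mem_of_mem_erase hq)
  have h2 := FusionM22.card_fix_octad hO hM hgg hgO hpO hqO hpq (hall p hp) (hall q hq)
    (fun h => hga (h a ha))
  have h3 : ((O.erase a).erase b).card ≤ (Finset.univ.filter fun y : ↥O => g y = y).card := by
    apply Finset.card_le_card_of_injOn
      (fun y => if hy : y ∈ O then (⟨y, hy⟩ : ↥O) else ⟨a, ha⟩)
    · intro y hy
      rw [Finset.mem_coe] at hy
      have hyO := Finset.mem_of_mem_erase (Finset.mem_of_mem_erase hy)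
      simp only [Finset.coe_filter, Finset.mem_univ, true_and, Set.mem_ofPred_eq, dif_pos hyO]
      exact hall y hy
    · intro y hy y' hy' h
      rw [Finset.mem_coe] at hy hy'
      have hyO := Finset.mem_of_mem_erase (Finset.mem_of_mem_erase hy)
      have hyO' := Finset.mem_of_mem_erase (Finset.mem_of_mem_erase hy')
      simp only [dif_pos hyO, dif_pos hyO'] at h
      exact congrArg Subtype.val h
  omega

/-- a subgroup of order at least 32 of `W(O)` contains one of three duads -/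
theorem duad_mem_of_three [Finite G] (C : J4Type.Compl G) {O : Finset GolayPt} (hO : O ∈ octads)
    {K : Subgroup G} (hK : K ≤ WG C.toFrame O) (h17 : 17 ≤ Nat.card K) {x y z : GolayPt}
    (hx : x ∈ O) (hy : y ∈ O) (hz : z ∈ O) (hxy : x ≠ y) (hxz : x ≠ z) (hyz : y ≠ z) :
    C.ε {x, y} ∈ K ∨ C.ε {x, z} ∈ K ∨ C.ε {y, z} ∈ K := by
  by_contra hno
  push Not at hno
  obtain ⟨h1, h2, h3⟩ := hno
  have h4 := four_mul_card_le hK (fun w hw => E_sq (WG_le O hw))
    (duad_mem_WG (F := C.toFrame) hx hy hxy) (duad_mem_WG (F := C.toFrame) hx hz hxz) h1 h2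
    (by rw [ε_pair_mul hxy hxz hyz]; exact h3)
  have h5 := card_WG_le (F := C.toFrame) hO
  omega

/-- an element centralising a large subgroup of `W(O)` and commuting with a nontrivial element of `fixOct O`
fixes `O` pointwise -/
theorem fix_of_cent [Finite G] (C : J4Type.Compl G) {O : Finset GolayPt} (hO : O ∈ octads)
    {K : Subgroup G} (hK : K ≤ WG C.toFrame O) (h17 : 17 ≤ Nat.card K) (n : NE C.toFrame)
    (hn : ∀ d ∈ K, (n : G) * d = d * n) (hnO : (C.π n : Equiv.Perm GolayPt) • O = O) :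
    (C.π n : Equiv.Perm GolayPt) ∈ fixOct O := by
  refine mem_fixOct.2 ⟨(C.π n).2, fun a ha => ?_⟩
  by_contra hga
  have hst := FusionM22.mem_iff_of_smul_eq hnO
  have hO8 : O.card = 8 := octad_card hO
  set g := (C.π n : Equiv.Perm GolayPt) with hg
  have hbO : g a ∈ O := (hst a).2 ha
  have hcomm : ∀ x y : GolayPt, x ≠ y → C.ε {x, y} ∈ K → g x = x ∨ g x = y := by
    intro x y hxy h
    exact duad_comm hxy (hn _ h)
  have h1 : ∀ x ∈ O, x ≠ a → x ≠ g a → C.ε {a, x} ∉ K := by
    intro x _ hxa hxb h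
    rcases hcomm a x (Ne.symm hxa) h with h2 | h2
    · exact hga h2
    · exact hxb h2.symm
  have h2 : ∀ x ∈ O, x ≠ a → x ≠ g a → ∀ y ∈ O, y ≠ a → y ≠ g a → x ≠ y → C.ε {x, y} ∈ K := by
    intro x hx hxa hxb y hy hya hyb hxy
    rcases duad_mem_of_three C hO hK h17 ha hx hy (Ne.symm hxa) (Ne.symm hya) hxy with h | h | h
    · exact absurd h (h1 x hx hxa hxb)
    · exact absurd h (h1 y hy hya hyb)
    · exact h
  apply hga
  apply fix_of_six hO (C.π n).2 hnO ha hbO (Ne.symm hga)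
  intro x hx hxa hxb
  by_contra hgx
  -- two further points
  have h3 : ∃ y ∈ O, y ∉ ({a, g a, x, g x} : Finset GolayPt) := by
    by_contra hno
    push Not at hno
    have h4 := Finset.card_le_card (fun z hz => hno z hz : O ⊆ {a, g a, x, g x})
    have h5 := Finset.card_le_four (a := a) (b := g a) (c := x) (d := g x)
    omega
  obtain ⟨y, hy, hyn⟩ := h3
  simp only [Finset.mem_insert, Finset.mem_singleton, not_or] at hyn
  rcases hcomm x y (Ne.symm hyn.2.2.1) (h2 x hx hxa hxb y hy hyn.1 hyn.2.1 (Ne.symm hyn.2.2.1)) with h | h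
  · exact hgx h
  · exact hyn.2.2.2 h.symm

/-- (c) -/
theorem cent_le_X [Finite G] [IsSimpleGroup G] (C : J4Type.Compl G) {E' : Subgroup G}
    (hE' : ∀ a ∈ E', a * a = 1) (hN' : E' ≤ Subgroup.normalizer (C.E hex0 : Set G))
    {O : Finset GolayPt} (hO : O ∈ octads) (hA : im C.toFrame E' ≤ fixOct O)
    (h4 : 4 ≤ Nat.card (im C.toFrame E')) (hD : 17 ≤ Nat.card (E' ⊓ C.E hex0 : Subgroup G)) :
    ∃ X : Subgroup G, IsX X ∧ E' ≤ X ∧ Subgroup.centralizer (E' : Set G) ≤ X := by
  have hcomm := comm_of_sq hE'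
  obtain ⟨a, ha, b, hb, ha1, hb1, hab⟩ := FusionFact.exists_two_of_card h4
  obtain ⟨n, hn, rfl⟩ := (mem_im C.toFrame).1 ha
  obtain ⟨m, hm, rfl⟩ := (mem_im C.toFrame).1 hb
  have hn1 : C.π n ≠ 1 := fun h => ha1 (by rw [h]; rfl)
  have hm1 : C.π m ≠ 1 := fun h => hb1 (by rw [h]; rfl)
  have hnm : C.π n ≠ C.π m := fun h => hab (by rw [h])
  have hDW : E' ⊓ C.E hex0 ≤ WG C.toFrame O := by
    intro d hd
    exact mem_WG_of_comm hO (F := C.toFrame) (n := n) (m := m) (hA ha) hn1 (hA hb) hm1 hnm hd.2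
      (hcomm _ hn _ hd.1) (hcomm _ hm _ hd.1)
  obtain ⟨X, hX, hnX, hN, him, hW⟩ := exists_X C hO n.2 (hE' _ hn) (hA ha) hn1
  have hnE : (n : G) ∉ C.E hex0 := fun h => hn1 ((C.π_ker n).2 h)
  have hmX : (m : G) ∈ X := mem_X_of_comm C hX hN hO him hW hnX hnE m.2 (hE' _ hm)
    (hcomm _ hn _ hm) (hA hb) hm1 (Ne.symm hnm)
  have hmE : (m : G) ∉ C.E hex0 := fun h => hm1 ((C.π_ker m).2 h)
  have hWX : WG C.toFrame O ≤ X := by rw [← hW]; exact inf_le_left
  have hE'X : E' ≤ X := by
    intro x hx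
    have hxN := hN' hx
    have hxO : (C.π ⟨x, hxN⟩ : Equiv.Perm GolayPt) ∈ fixOct O :=
      hA ((mem_im C.toFrame).2 ⟨⟨x, hxN⟩, hx, rfl⟩)
    by_cases h1 : C.π ⟨x, hxN⟩ = 1
    · exact hWX (hDW ⟨hx, (C.π_ker ⟨x, hxN⟩).1 h1⟩)
    by_cases h2 : C.π ⟨x, hxN⟩ = C.π n
    · refine mem_X_of_comm C hX hN hO him hW hmX hmE hxN (hE' _ hx) (hcomm _ hm _ hx) hxO h1 ?_
      intro h3
      exact hnm (h2.symm.trans h3)
    · exact mem_X_of_comm C hX hN hO him hW hnX hnE hxN (hE' _ hx) (hcomm _ hn _ hx) hxO h1 h2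
  refine ⟨X, hX, hE'X, ?_⟩
  intro c hc
  rw [Subgroup.mem_centralizer_iff] at hc
  have hcE : ∀ x ∈ E', c * x = x * c := fun x hx => (hc x hx).symm
  have hO8 : O.card = 8 := octad_card hO
  obtain ⟨x, hx, y, hy, z, hz, hxy, hxz, hyz⟩ := Finset.two_lt_card.1 (show 2 < O.card by omega)
  have hcN : c ∈ Subgroup.normalizer (C.E hex0 : Set G) := by
    rcases duad_mem_of_three C hO hDW hD hx hy hz hxy hxz hyz with h | h | h
    · exact DuadCent.duad_cent C.toFrame hxy (hcE _ h.1)
    · exact DuadCent.duad_cent C.toFrame hxz (hcE _ h.1)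
    · exact DuadCent.duad_cent C.toFrame hyz (hcE _ h.1)
  have hπ : C.π n * C.π ⟨c, hcN⟩ = C.π ⟨c, hcN⟩ * C.π n := by
    rw [← map_mul, ← map_mul]
    exact congrArg C.π (Subtype.ext (hcE _ hn).symm)
  have hcO : (C.π ⟨c, hcN⟩ : Equiv.Perm GolayPt) • O = O := by
    apply smul_eq_of_mapsTo
    intro p hp
    by_contra hout
    apply hn1
    apply Subtype.ext
    apply OctadFixTrans.eq_one_of_fix hO (hA ha) hout
    have h1 := congrArg (fun u : M24 => (u : Equiv.Perm GolayPt) p) hπ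
    have h2 : (C.π n : Equiv.Perm GolayPt) p = p := (mem_fixOct.1 (hA ha)).2 p hp
    have h3 : (C.π n : Equiv.Perm GolayPt) ((C.π ⟨c, hcN⟩ : Equiv.Perm GolayPt) p) =
        (C.π ⟨c, hcN⟩ : Equiv.Perm GolayPt) ((C.π n : Equiv.Perm GolayPt) p) := h1
    rw [h3, h2]
  have hcfix := fix_of_cent C hO hDW hD ⟨c, hcN⟩ (fun d hd => hcE d hd.1) hcO
  rw [← him] at hcfix
  obtain ⟨v, hvX, hv⟩ := (mem_im C.toFrame).1 hcfix
  have hv2 : C.π v = C.π ⟨c, hcN⟩ := Subtype.ext hv
  have hdE : (v : G)⁻¹ * c ∈ C.E hex0 := by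
    have h2 : C.π (v⁻¹ * ⟨c, hcN⟩) = 1 := by rw [map_mul, map_inv, hv2, inv_mul_cancel]
    exact (C.π_ker _).1 h2
  have hcd : ∀ k ∈ E', k * ((v : G)⁻¹ * c) = (v : G)⁻¹ * c * k := by
    intro k hk
    have h1 : k * (v : G) = v * k := hX.el.2 k (hE'X hk) v hvX
    have h2 : k * (v : G)⁻¹ = (v : G)⁻¹ * k := by
      rw [mul_inv_eq_iff_eq_mul, mul_assoc, h1, inv_mul_cancel_left]
    rw [← mul_assoc, h2, mul_assoc, ← hcE k hk, mul_assoc]
  have hdW := mem_WG_of_comm hO (F := C.toFrame) (n := n) (m := m) (hA ha) hn1 (hA hb) hm1 hnm hdE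
    (hcd _ hn) (hcd _ hm)
  have h5 := X.mul_mem hvX (hWX hdW)
  rwa [mul_inv_cancel_left] at h5

end Cfsg.Agent.H796.JM
end

private theorem dce_cd7d96f05a1d : _root_.True := by
  try have : _root_.True := by simp only [_root_.Cfsg.Agent.H752.JM.dd.eq_1]
  exact _root_.True.intro
end

-- part: H860/JM/Seven
section
set_option linter.all false
open scoped Cfsg.Agent.FastGrp

/-!
# A 2-element commuting with a 2A element normalizes a point through it; the fact `F7`
-/

set_option autoImplicit false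

open Cfsg

namespace Cfsg.Agent.H860.JM

open Cfsg.Agent.J4.Invol (EJ s d)
open Cfsg.Agent.H858 Cfsg.Agent.H858.VK Cfsg.Agent.J4.Pres Cfsg.Agent.J4.M24Hom
  Cfsg.Agent.H858.Data

/-- the group `Spor.J4` -/
local notation "𝒢" => Cfsg.Spor.J4

/-- there is a 2A element `z'` of `EJ` with `|C(z') : C(z') ∩ N(EJ)| = 77` -/
theorem exists_77 : ∃ z' ∈ EJ, IsConj s z' ∧
    Nat.card (Subgroup.centralizer ({z'} : Set 𝒢)) = 21799895040 ∧
    Nat.card (Subgroup.normalizer (EJ : Set 𝒢) ⊓ Subgroup.centralizer ({z'} : Set 𝒢) : Subgroup 𝒢) =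
      283115520 := by
  have := simple_J
  have := finite_J
  obtain ⟨z, -, hz, h6, -⟩ := classes
  obtain ⟨z', t, hz', ht, ht1, hzz, hzt, h1771, -, -⟩ :=
    Cfsg.Agent.S5568.result nonab z hz EJ elem_EJ card_EJ
  have h1 := card_orbit_mul (Subgroup.normalizer (EJ : Set 𝒢)) z'
  rw [h1771, card_NEJ] at h1
  have h3 : Nat.card (Subgroup.centralizer ({z} : Set 𝒢)) = 21799895040 := by
    rw [(Cfsg.Agent.H821.J4MaxB.facts hz).card_cent]; norm_num
  refine ⟨z', hz', h6.trans hzz, ?_, by omega⟩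
  rw [← card_cent_of_conj hzz, h3]

/-- **a 2-subgroup commuting with a 2A element `z` normalizes a point containing `z`** -/
theorem exists_pt_of_cent {z : 𝒢} (hz : IsConj s z) {Q : Subgroup 𝒢} (hQ : IsPGroup 2 Q)
    (hQz : Q ≤ Subgroup.centralizer ({z} : Set 𝒢)) :
    ∃ P, geo.Pt P ∧ z ∈ P ∧ Q ≤ Subgroup.normalizer (P : Set 𝒢) := by
  have := finite_J
  have h2 : Fact (Nat.Prime 2) := ⟨Nat.prime_two⟩
  obtain ⟨z', hz', hc, h1, h3⟩ := exists_77
  obtain ⟨k, rfl⟩ := isConj_iff.1 (hc.symm.trans hz)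
  set C := Subgroup.centralizer ({z'} : Set 𝒢) with hC
  set N := Subgroup.normalizer (EJ : Set 𝒢) with hN
  -- the conjugate of `Q` in `C(z')`
  set R : Subgroup 𝒢 := cj k⁻¹ Q with hR
  have hR2 : IsPGroup 2 R := hQ.map _
  have hRC : R ≤ C := by
    intro x hx
    have h4 := hQz (mem_cj.1 hx)
    rw [hC, Subgroup.mem_centralizer_singleton_iff]
    rw [Subgroup.mem_centralizer_singleton_iff] at h4
    calc x * z' = k⁻¹ * ((k⁻¹)⁻¹ * x * k⁻¹ * (k * z' * k⁻¹)) * k := by group
      _ = k⁻¹ * (k * z' * k⁻¹ * ((k⁻¹)⁻¹ * x * k⁻¹)) * k := by rw [h4]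
      _ = _ := by group
  have hR2' : IsPGroup 2 (R.subgroupOf C) := hR2.comap_subtype
  set H : Subgroup C := (N ⊓ C).subgroupOf C with hH
  have hcardH : Nat.card H = 283115520 := by
    rw [hH, Nat.card_congr (Subgroup.subgroupOfEquivOfLe inf_le_right).toEquiv]
    exact h3
  have hidx : Nat.card (C ⧸ H) = 77 := by
    have h5 := Subgroup.card_eq_card_quotient_mul_card_subgroup H
    rw [h1, hcardH] at h5
    omega
  have h6 := hR2'.card_modEq_card_fixedPoints (C ⧸ H)
  rw [hidx] at h6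
  have h4 : 0 < Nat.card (MulAction.fixedPoints (R.subgroupOf C) (C ⧸ H)) := by
    rw [Nat.pos_iff_ne_zero]
    intro h0
    rw [h0] at h6
    exact absurd h6 (by decide)
  obtain ⟨⟨⟨x, hx⟩⟩, -⟩ := Nat.card_pos_iff.1 h4
  obtain ⟨g, rfl⟩ := QuotientGroup.mk_surjective x
  refine ⟨cj (k * g) EJ, ⟨_, rfl⟩, mem_cj.2 ?_, fun q hq => ?_⟩
  · have h7 : (k * (g : 𝒢))⁻¹ * (k * z' * k⁻¹) * (k * g) = (g : 𝒢)⁻¹ * (z' * g) := by group
    have h8 := Subgroup.mem_centralizer_singleton_iff.1 g.2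
    rw [h7, ← h8, inv_mul_cancel_left]
    exact hz'
  · have hr : k⁻¹ * q * k ∈ R := by
      rw [hR, mem_cj]
      have : (k⁻¹)⁻¹ * (k⁻¹ * q * k) * k⁻¹ = q := by group
      rw [this]; exact hq
    have h5 := hx ⟨⟨_, hRC hr⟩, hr⟩
    have h9 : (((⟨_, hRC hr⟩ : C) * g : C) : C ⧸ H) = (g : C ⧸ H) := h5
    rw [QuotientGroup.eq, hH, Subgroup.mem_subgroupOf] at h9
    have h10 := Subgroup.inv_mem _ h9.1
    rw [normalizer_cj, mem_cj]
    have h11 : (((((⟨_, hRC hr⟩ : C) * g)⁻¹ * g : C) : 𝒢))⁻¹ = (k * (g : 𝒢))⁻¹ * q * (k * g) := by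
      show (((k⁻¹ * q * k) * (g : 𝒢))⁻¹ * g)⁻¹ = _
      group
    rw [h11] at h10
    exact h10

/-- (F7) from the fact that for `w` as in `Act` every `v ∈ Fs` is in a common point with `w` -/
theorem f7_of (h : ∀ P w, geo.Pt P → Act geo P w → ∀ v ∈ Fs geo P w, ∃ P', geo.Pt P' ∧ v ∈ P' ∧ w ∈ P') :
    F7 geo := by
  intro z w hz hw hzw hA
  have hw2 := (f1.A_inv w hw).2
  have hQ : IsPGroup 2 (Subgroup.zpowers w) := by
    rintro ⟨x, hx⟩
    obtain ⟨n, rfl⟩ := hx
    refine ⟨1, Subtype.ext ?_⟩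
    show (w ^ n) ^ (2 ^ 1) = 1
    rw [← zpow_natCast, ← zpow_mul, mul_comm, zpow_mul, pow_one]
    have : w ^ ((2 : ℕ) : ℤ) = 1 := by rw [zpow_natCast, pow_two, hw2]
    rw [this, one_zpow]
  obtain ⟨P, hP, hzP, hwP⟩ := exists_pt_of_cent (z := z) hz hQ (by
    rw [Subgroup.zpowers_le, Subgroup.mem_centralizer_singleton_iff]
    exact hzw.symm)
  have hwN := hwP (Subgroup.mem_zpowers w)
  by_cases hmem : w ∈ P
  · exact ⟨P, hP, hzP, hmem⟩
  · exact h P w hP ⟨hwN, hmem, hw⟩ z ⟨hzP, hzw, Or.inr ⟨hz, hA⟩⟩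

end Cfsg.Agent.H860.JM
end

-- part: H41/JM/F9
section
set_option linter.all false

/-!
# The two kinds of 2A elements in `N(P)` outside `P` (fact F9)
-/

set_option autoImplicit false

open Cfsg

namespace Cfsg.Agent.H41.JM

open Cfsg.Agent.H860.JM Cfsg.Agent.H41.JM.Cls Cfsg.Agent.H41.JM.Two
open Cfsg.Agent.J4.Invol Cfsg.Agent.H858.VK

/-- F9, and `w` is in a common point with every `v ∈ F_w` -/
theorem f9_all (hN : Subgroup.normalizer (EJ : Set Cfsg.Spor.J4) ≤ Cfsg.Agent.H858.FixJ4.B) :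
    F9 geo ∧ ∀ P w, geo.Pt P → Act geo P w → ∀ v ∈ Fs geo P w,
      ∃ P', geo.Pt P' ∧ v ∈ P' ∧ w ∈ P' :=
  f9_of cInv EJ (fun _ h => h) w₁ w₂ Kind.KA₁ Kind.KB₂ Kind.Cp₂ (fun _ => classify hN)
    (Same.same hN) (fun _ hw h => cent₂ hw h) (fun a ha b hb => EJ_comm rho_injective a b ha hb)

/-- **F9** -/
theorem f9 : F9 geo := (f9_all NEJ_eq.le).1

/-- every `v ∈ F_w` is in a common point with `w` -/
theorem f9_pt : ∀ P w, geo.Pt P → Act geo P w → ∀ v ∈ Fs geo P w,
    ∃ P', geo.Pt P' ∧ v ∈ P' ∧ w ∈ P' := (f9_all NEJ_eq.le).2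

end Cfsg.Agent.H41.JM
end

-- part: H41/JM/F7
section
set_option linter.all false

/-!
# F7: the generators of a pure 2A four-group are in a common point
-/

set_option autoImplicit false

namespace Cfsg.Agent.H41.JM

open Cfsg.Agent.H860.JM

/-- **F7** -/
theorem f7 : F7 geo := f7_of f9_pt

end Cfsg.Agent.H41.JM
end

-- part: H541/JM/F13
section
prune_inst 0x7f00000000000000000000000000000000000000000000000000000000000000000000000000000000000000000000000000000000000000000000000000000000000000000000000000000000000000003fffffffffffffffffffffffffffbeffbdffffffff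
set_option linter.all false
open scoped Cfsg.Agent.FastGrp

/-!
# (F13) the point of a 2B element `w` of `N(P)` meets the point `P`
-/

set_option autoImplicit false

namespace Cfsg.Agent.H541.JM.F13

open Cfsg Cfsg.Agent.Lib Cfsg.Agent.Lib.F2MatGroup Cfsg.Agent.J4.Rep112 Cfsg.Agent.J4.Lower
open Cfsg.Agent.J4.LowerData Cfsg.Agent.J4.GroupLemmas Cfsg.Agent.J4.Beta
open Cfsg.Agent.J4.ClassesData Cfsg.Agent.J4.M24Hom Cfsg.Agent.J4.ClassesAbs Cfsg.Agent.J4.Classes
open Cfsg.Agent.J4.M24InvolData Cfsg.Agent.SporadicStructure.M24El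
open Cfsg.Agent.H541.JM.F13Data Cfsg.Agent.H860.JM
open Cfsg.Agent.J4.Invol (EJ s d)

/-! ### The abstract argument -/

section Abs

variable {G : Type*} [Group G] {L l : List G}

theorem abs_repA (hl : l.length = 11) (hL : ∀ k < 11, getG L (42 + k) = l.getD k 1)
    {R : Subgroup G} (hR : ∀ g ∈ L, g ∈ R)
    {E : List (List ℕ × List ℕ)} (hE : ∀ p ∈ E, evG L p.1 = evG L p.2)
    (hZ : getG L 52 = beta l 1024)
    {im v : ℕ} {r : ℕ × ℕ × ℕ × ℕ × List ℕ × List ℕ × ℕ}
    (h : (Nat.beq r.2.2.2.2.2.2 52 && repOk E im v r) = true) :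
    GoodF l R (beta l v * getG L im) := by
  unfold repOk at h
  rw [Bool.and_eq_true, Bool.and_eq_true, Bool.and_eq_true, Bool.and_eq_true, List.contains_iff_mem,
    List.contains_iff_mem, List.contains_iff_mem, Nat.beq_eq] at h
  obtain ⟨h0, ⟨⟨h1, h2⟩, h3⟩, -⟩ := h
  have e1 := hE _ h1
  have e2 := hE _ h2
  have e3 := hE _ h3
  simp only [evG_append, evG_single, abs_bw hl hL] at e1
  simp only [evG_append, evG_single, evG_cons, evG_nil, mul_one] at e2
  simp only [evG_append, evG_nil] at e3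
  rw [← e1]
  have hu : getG L r.2.2.1 ∈ R := getG_mem R hR _
  have hp : getG L r.2.2.2.1 ∈ R := getG_mem R hR _
  have hw : evG L r.2.2.2.2.2.1 ∈ R := evG_mem R hR _
  have hw' : evG L r.2.2.2.2.1 = (evG L r.2.2.2.2.2.1)⁻¹ := eq_inv_of_mul_eq_one_left e3
  rw [hw', h0, hZ] at e2
  generalize getG L r.2.2.1 = u at *
  generalize getG L r.2.2.2.1 = p at *
  generalize evG L r.2.2.2.2.2.1 = w at *
  refine Or.inl ⟨w * p⁻¹, R.mul_mem hw (R.inv_mem hp), ?_⟩
  have : w * p⁻¹ * u * (w * p⁻¹)⁻¹ = w * p⁻¹ * (u * p) * w⁻¹ := by group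
  rw [this, e2]; group

variable {R : Subgroup G} {phi : M24 →* G}

/-- the elements `β(v) m` with `m` an involution of M24 -/
theorem pred_mul (h : Hyp R l phi) (Pr : G → Prop)
    (hQ : ∀ r u, Pr (beta l r * u * (beta l r)⁻¹) → Pr u) {m : G} {A : List ℕ}
    (hact : ∀ v, m * beta l v * m⁻¹ = beta l (lin A v)) (hA : ∀ v < 2048, lin A v < 2048)
    {T : List (ℕ × ℕ × ℕ)} {vs : List ℕ} (hfix : fixOk A T vs = true)
    (hreps : ∀ v ∈ vs, Pr (beta l v * m)) (hmm : m * m = 1) (v : ℕ) (hv : v < 2048)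
    (hsq : (beta l v * m) * (beta l v * m) = 1) : Pr (beta l v * m) := by
  have h1 : beta l v * beta l (lin A v) = 1 := by
    rw [← hact]
    have : beta l v * (m * beta l v * m⁻¹) = (beta l v * m) * (beta l v * m) * (m * m)⁻¹ := by
      group
    rw [this, hsq, hmm]; group
  have h2 : beta l v = beta l (lin A v) := by
    have h3 := beta_sq l h.sq h.comm v
    exact mul_left_cancel (h3.trans h1.symm)
  have h4 : v = lin A v := by
    refine beta_inj h.sq h.comm h.ind ?_ ?_ h2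
    · rw [h.len]; exact hv
    · rw [h.len]; exact hA v hv
  obtain ⟨vj, hvj, r, hr⟩ := fixOk_sound hfix hv h4.symm
  apply hQ r
  have h5 : beta l r * (beta l v * m) * (beta l r)⁻¹ = beta l vj * m := by
    have hi : (beta l r)⁻¹ = beta l r := inv_eq_of_mul_eq_one_left (beta_sq l h.sq h.comm r)
    rw [hr, beta_xor l h.sq h.comm, beta_xor l h.sq h.comm, ← hact]
    have hc : beta l vj * beta l r = beta l r * beta l vj := by
      rw [← beta_xor l h.sq h.comm, Nat.xor_comm, beta_xor l h.sq h.comm]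
    rw [hc]
    have e : beta l r * (beta l r * beta l vj * (m * beta l r * m⁻¹) * m) * (beta l r)⁻¹ =
        beta l r * beta l r * beta l vj * m := by group
    rw [e, beta_sq l h.sq h.comm, one_mul]
  rw [h5]
  exact hreps vj hvj

private theorem lin_lt11 {A : List ℕ} (h : ∀ a ∈ A, a < 2 ^ 11) (v : ℕ) : lin A v < 2 ^ 11 := by
  induction A generalizing v with
  | nil => exact Nat.two_pow_pos 11
  | cons a A ih =>
    have h1 := ih (fun b hb => h b (List.mem_cons_of_mem _ hb)) (v / 2)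
    rw [lin_cons]
    split_ifs
    · exact Nat.xor_lt_two_pow (h a List.mem_cons_self) h1
    · exact h1

/-- a predicate invariant under conjugation by `Q : M24` which holds for the representatives holds
for all involutions `β(v) μ`, `μ ≠ 1` -/
theorem pred_invol [Finite G] (h : Hyp R l phi) (Pr : G → Prop)
    (hQ : ∀ r u, Pr (beta l r * u * (beta l r)⁻¹) → Pr u)
    (hM : ∀ ν u, Pr (phi ν * u * (phi ν)⁻¹) → Pr u)
    (reps1 : ∀ v ∈ [0, 34, 517, 551, 1047, 1077, 1554, 1584], Pr (beta l v * phi (el P1)))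
    (reps2 : ∀ v ∈ [0, 5], Pr (beta l v * phi XM))
    (v : ℕ) (hv : v < 2048) (μ : M24) (hμ1 : μ ≠ 1)
    (hkk : beta l v * phi μ * (beta l v * phi μ) = 1) : Pr (beta l v * phi μ) := by
  have hsimple : IsSimpleGroup M24 := Cfsg.Agent.S0365.result
  have hnot : ¬ IsPGroup 2 M24 := Cfsg.Agent.J4.LowerBound.not_two_group_M24
  have hq : beta l v ∈ Subgroup.closure {q | q ∈ l} :=
    beta_mem _ l (fun a ha => Subgroup.subset_closure ha) v
  have hQ2 := (two_group l h.sq h.comm h.ind).1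
  have hconjQ : ∀ ν : M24, ∀ q ∈ Subgroup.closure {q | q ∈ l},
      phi ν * q * (phi ν)⁻¹ ∈ Subgroup.closure {q | q ∈ l} := fun ν q hq =>
    (Subgroup.mem_normalizer_iff.mp (h.norm ⟨ν, rfl⟩) q).mp hq
  have hμ : μ * μ = 1 := by
    apply eq_one_of_mem _ hQ2 phi h.inj hnot h.norm
    have e : phi (μ * μ) = (phi μ * beta l v * (phi μ)⁻¹)⁻¹ * (beta l v)⁻¹ := by
      rw [map_mul]
      have : beta l v * phi μ * (beta l v * phi μ) =
        beta l v * (phi μ * beta l v * (phi μ)⁻¹) * (phi μ * phi μ) := by group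
      rw [this] at hkk
      rw [← mul_inv_rev]
      exact eq_inv_of_mul_eq_one_right hkk
    rw [e]
    exact Subgroup.mul_mem _ (Subgroup.inv_mem _ (hconjQ μ _ hq)) (Subgroup.inv_mem _ hq)
  obtain ⟨ν, hν⟩ := Cfsg.Agent.J4.M24Invol.invol_conj μ hμ hμ1
  obtain ⟨w, hw, hw'⟩ := exists_beta h.sq h.comm (hconjQ ν _ hq)
  rw [h.len] at hw
  have key : ∀ m : M24, ν * μ * ν⁻¹ = m →
      phi ν * (beta l v * phi μ) * (phi ν)⁻¹ = beta l w * phi m := by
    rintro m rfl
    rw [← hw', map_mul, map_mul, map_inv]; group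
  have hsq' : ∀ m : M24, ν * μ * ν⁻¹ = m → beta l w * phi m * (beta l w * phi m) = 1 := by
    intro m hm
    rw [← key m hm]
    have : phi ν * (beta l v * phi μ) * (phi ν)⁻¹ * (phi ν * (beta l v * phi μ) * (phi ν)⁻¹) =
        phi ν * (beta l v * phi μ * (beta l v * phi μ)) * (phi ν)⁻¹ := by group
    rw [this, hkk]; group
  have hmm : ∀ m : M24, ν * μ * ν⁻¹ = m → phi m * phi m = 1 := by
    rintro m rfl
    rw [← map_mul]
    have : ν * μ * ν⁻¹ * (ν * μ * ν⁻¹) = ν * (μ * μ) * ν⁻¹ := by group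
    rw [this, hμ, mul_one, mul_inv_cancel, map_one]
  rcases hν with hν | hν
  · apply hM ν
    rw [key _ hν]
    exact pred_mul h Pr hQ h.act1 (fun v _ => lin_lt11 (by decide +kernel) v) fix1_ok reps1 (hmm _ hν) w hw (hsq' _ hν)
  · have hX : el P2 = XM := by
      apply Subtype.ext
      rw [coe_el Cfsg.Agent.J4.M24Invol.ok_P2]
      ext1 p
      rw [Cfsg.Agent.SporadicA.GolayPerm.permOf_apply]
      revert p
      decide +kernel
    rw [hX] at hν
    apply hM ν
    rw [key _ hν]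
    exact pred_mul h Pr hQ h.actX (fun v _ => lin_lt11 (by decide +kernel) v) fix2_ok reps2 (hmm _ hν) w hw (hsq' _ hν)

end Abs

/-! ### The representatives -/

theorem repsF1 : ∀ v ∈ [0, 34, 517, 551, 1047, 1077, 1554, 1584],
    GoodF qs rho.range (beta qs v * psi (el P1)) := by
  intro v hv
  rw [List.mem_cons] at hv
  rw [← getG_41]
  rcases hv with rfl | hv
  · have h := repsAok1
    rw [List.all_eq_true] at h
    have h1 := h 0 (List.mem_singleton.2 rfl)
    rw [List.any_eq_true] at h1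
    obtain ⟨r, -, hr⟩ := h1
    exact abs_repA (L := LC) qs_length getG_LC LC_mem eqC getG_52 hr
  · have h := repsFok1
    rw [List.all_eq_true] at h
    have h1 := h v hv
    rw [List.any_eq_true] at h1
    obtain ⟨r, -, hr⟩ := h1
    exact abs_repF (L := LC) qs_length getG_LC qs_sq qs_comm qs_props.2 LC_mem eqC eqF getG_40 hr

theorem repsF2 : ∀ v ∈ [0, 5], GoodF qs rho.range (beta qs v * psi XM) := by
  intro v hv
  rw [List.mem_cons] at hv
  rw [psi_X, ← getX]
  rcases hv with rfl | hv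
  · have h := repsFok2
    rw [List.all_eq_true] at h
    have h1 := h 0 (List.mem_singleton.2 rfl)
    rw [List.any_eq_true] at h1
    obtain ⟨r, -, hr⟩ := h1
    exact abs_repF (L := LC) qs_length getG_LC qs_sq qs_comm qs_props.2 LC_mem eqC eqF getG_40 hr
  · have h := repsAok2
    rw [List.all_eq_true] at h
    have h1 := h v hv
    rw [List.any_eq_true] at h1
    obtain ⟨r, -, hr⟩ := h1
    exact abs_repA (L := LC) qs_length getG_LC LC_mem eqC getG_52 hr

theorem goodF_invol (v : ℕ) (hv : v < 2048) (μ : M24) (hμ1 : μ ≠ 1)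
    (hkk : beta qs v * psi μ * (beta qs v * psi μ) = 1) :
    GoodF qs rho.range (beta qs v * psi μ) := by
  refine pred_invol hyp (GoodF qs rho.range) ?_ ?_ repsF1 repsF2 v hv μ hμ1 hkk
  · intro r u h
    refine goodF_of_conj (beta_mem _ qs qs_mem r) (Subgroup.le_normalizer ?_) h
    exact beta_mem _ qs (fun a ha => Subgroup.subset_closure ha) r
  · intro ν u h
    exact goodF_of_conj (psi_le ⟨ν, rfl⟩) (psi_norm ⟨ν, rfl⟩) h

/-! ### In the group `J4` -/

local notation "𝒢" => Cfsg.Spor.J4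

/-- an involution of `N(EJ)` outside `EJ` is conjugate to `s`, or to `d` by an element `g` with
`EJ ⊓ g⁻¹ EJ g ≠ 1` -/
theorem main (w : 𝒢) (hw : w ∈ Subgroup.normalizer (EJ : Set 𝒢)) (hww : w * w = 1) (hw1 : w ∉ EJ) :
    (∃ g, g * w * g⁻¹ = s) ∨ ∃ g, g * w * g⁻¹ = d ∧ ∃ z ∈ EJ, z ≠ 1 ∧ g * z * g⁻¹ ∈ EJ := by
  have inj := Cfsg.Agent.H858.VK.rho_injective
  have hfin := Cfsg.Agent.H858.VK.finite_J4
  -- conjugate into `B` in `N(EJ)`
  set N : Subgroup 𝒢 := Subgroup.normalizer (EJ : Set 𝒢) with hN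
  set B := Cfsg.Agent.H858.FixJ4.B with hB
  have hodd : ¬ 2 ∣ (B.subgroupOf N).index := by
    intro h
    have h1 : (B.subgroupOf N).index ∣ B.index := by
      have h2 : B ≤ N := by
        intro x hx
        obtain ⟨e, he, k, rfl⟩ := Cfsg.Agent.H858.VK.mem_B.1 hx
        exact N.mul_mem (Subgroup.le_normalizer he) (Cfsg.Agent.H858.VK.phi_norm ⟨k, rfl⟩)
      exact Subgroup.relIndex_dvd_index_of_le h2
    have h3 := h.trans h1
    rw [Cfsg.Agent.H858.FixJ4.index_B] at h3
    norm_num at h3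
  obtain ⟨n, hn⟩ := exists_conj_mem (B.subgroupOf N) hodd ⟨w, hw⟩ (Subtype.ext hww)
  have hn' : (n : 𝒢)⁻¹ * w * n ∈ B := hn
  obtain ⟨e, he, k, hek⟩ := Cfsg.Agent.H858.VK.mem_B.1 hn'
  have hk : k ≠ 1 := by
    rintro rfl
    apply hw1
    rw [map_one, mul_one] at hek
    have h1 : w = (n : 𝒢) * e * (n : 𝒢)⁻¹ := by rw [← hek]; group
    rw [h1]
    exact (Subgroup.mem_normalizer_iff.1 n.2 e).1 he
  obtain ⟨v, hv, hev⟩ := exists_beta hyp.sq hyp.comm ((Cfsg.Agent.J4.Invol.mem_EJ_iff inj e).1 he)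
  rw [qs_length] at hv
  have hr : rho ((n : 𝒢)⁻¹ * w * n) = beta qs v * psi k := by
    rw [hek, map_mul, hev]; rfl
  have hsq : beta qs v * psi k * (beta qs v * psi k) = 1 := by
    rw [← hr, ← map_mul]
    have : (n : 𝒢)⁻¹ * w * n * ((n : 𝒢)⁻¹ * w * n) = (n : 𝒢)⁻¹ * (w * w) * n := by group
    rw [this, hww, mul_one, inv_mul_cancel, map_one]
  have hQEJ : ∀ z, z ∈ Subgroup.closure {q | q ∈ qs} → ∃ z' ∈ EJ, rho z' = z := by
    intro z hz
    have h1 : z ∈ EJ.map rho := by rw [Cfsg.Agent.J4.Invol.map_EJ]; exact hz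
    obtain ⟨z', h2, h3⟩ := h1
    exact ⟨z', h2, h3⟩
  rcases goodF_invol v hv k hk hsq with ⟨_, ⟨g, rfl⟩, h1⟩ | ⟨_, ⟨g, rfl⟩, h1, z, hz, hz1, h2⟩
  · left
    refine ⟨g * (n : 𝒢)⁻¹, inj ?_⟩
    rw [← hr, ← map_inv, ← map_mul, ← map_mul, ← Cfsg.Agent.J4.Invol.rho_s] at h1
    rw [← h1]
    congr 1
    group
  · right
    obtain ⟨z', hz', rfl⟩ := hQEJ z hz
    refine ⟨g * (n : 𝒢)⁻¹, inj ?_, (n : 𝒢) * z' * (n : 𝒢)⁻¹,
      (Subgroup.mem_normalizer_iff.1 n.2 z').1 hz', ?_, ?_⟩
    · rw [← hr, ← map_inv, ← map_mul, ← map_mul, ← Cfsg.Agent.J4.Invol.rho_d] at h1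
      rw [← h1]
      congr 1
      group
    · intro h3
      apply hz1
      have : z' = (n : 𝒢)⁻¹ * ((n : 𝒢) * z' * (n : 𝒢)⁻¹) * n := by group
      rw [this, h3, mul_one, inv_mul_cancel, map_one]
    · have e1 : g * (n : 𝒢)⁻¹ * ((n : 𝒢) * z' * (n : 𝒢)⁻¹) * (g * (n : 𝒢)⁻¹)⁻¹ = g * z' * g⁻¹ := by
        group
      rw [e1, Cfsg.Agent.J4.Invol.mem_EJ_iff inj, map_mul, map_mul, map_inv]
      exact h2

/-- a member of `cj g H` -/
theorem mem_cj {G : Type*} [Group G] {g x : G} {H : Subgroup G} : x ∈ cj g H ↔ g⁻¹ * x * g ∈ H := by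
  constructor
  · rintro ⟨y, hy, rfl⟩
    show g⁻¹ * (g * y * g⁻¹) * g ∈ H
    have : g⁻¹ * (g * y * g⁻¹) * g = y := by group
    rwa [this]
  · intro h
    refine ⟨_, h, ?_⟩
    show g * (g⁻¹ * x * g) * g⁻¹ = x
    group

/-- **(F13)** -/
theorem f13 (h4 : F4 geo) : F13 geo := by
  rintro P P' w ⟨g, rfl⟩ hP' hwn hB hwP'
  have inj := Cfsg.Agent.H858.VK.rho_injective
  have hww : w * w = 1 ∧ w ≠ 1 := by
    obtain ⟨c, hc⟩ := isConj_iff.1 (show IsConj d w from hB)
    have hd := Cfsg.Agent.J4.Invol.EJ_sq inj d (Cfsg.Agent.J4.Invol.d_mem inj)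
    constructor
    · rw [← hc]
      have : c * d * c⁻¹ * (c * d * c⁻¹) = c * (d * d) * c⁻¹ := by group
      rw [this, hd]; group
    · intro h0
      have h1 : d = 1 := by
        calc d = c⁻¹ * (c * d * c⁻¹) * c := by group
          _ = 1 := by rw [hc, h0]; group
      have h2 : beta qs 5 = beta qs 0 := by
        rw [← Cfsg.Agent.J4.Invol.rho_d, h1, map_one, beta_zero]
      have h3 : (5 : ℕ) = 0 := beta_inj hyp.sq hyp.comm hyp.ind (by rw [hyp.len]; norm_num)
        (by rw [hyp.len]; norm_num) h2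
      omega
  -- transport to `EJ`
  set u : 𝒢 := g⁻¹ * w * g with hu
  by_cases huE : u ∈ EJ
  · intro h0
    have h1 : w ∈ cj g EJ ⊓ P' := ⟨mem_cj.2 huE, hwP'⟩
    rw [h0, Subgroup.mem_bot] at h1
    exact hww.2 h1
  · have hun : u ∈ Subgroup.normalizer (EJ : Set 𝒢) := by
      rw [Subgroup.mem_normalizer_iff]
      intro x
      have h1 := Subgroup.mem_normalizer_iff.1 hwn (g * x * g⁻¹)
      rw [mem_cj, mem_cj] at h1
      have e1 : g⁻¹ * (g * x * g⁻¹) * g = x := by group
      have e2 : g⁻¹ * (w * (g * x * g⁻¹) * w⁻¹) * g = u * x * u⁻¹ := by rw [hu]; group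
      rwa [e1, e2] at h1
    have huu : u * u = 1 := by
      have : u * u = g⁻¹ * (w * w) * g := by rw [hu]; group
      rw [this, hww.1, mul_one, inv_mul_cancel]
    rcases main u hun huu huE with ⟨c, hc⟩ | ⟨c, hc, z, hz, hz1, hz2⟩
    · exfalso
      apply Cfsg.Agent.J4.Invol.not_isConj_s_d
      have h1 : IsConj u s := isConj_iff.2 ⟨c, hc⟩
      have h2 : IsConj u w := isConj_iff.2 ⟨g, by rw [hu]; group⟩
      exact h1.symm.trans (h2.trans (show IsConj d w from hB).symm)
    · intro h0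
      obtain ⟨P0, -, -, huniq, -⟩ := h4 w hB
      have h1 := huniq P' hP' hwP'
      have h2 : cj (g * c⁻¹) EJ = P0 := by
        apply huniq _ ⟨_, rfl⟩
        rw [mem_cj]
        have : (g * c⁻¹)⁻¹ * w * (g * c⁻¹) = c * u * c⁻¹ := by rw [hu]; group
        rw [this, hc]
        exact Cfsg.Agent.J4.Invol.d_mem inj
      have h3 : g * z * g⁻¹ ∈ cj g EJ ⊓ P' := by
        refine ⟨mem_cj.2 ?_, ?_⟩
        · have : g⁻¹ * (g * z * g⁻¹) * g = z := by group
          rwa [this]
        · rw [h1, ← h2]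
          apply mem_cj.2
          have : (g * c⁻¹)⁻¹ * (g * z * g⁻¹) * (g * c⁻¹) = c * z * c⁻¹ := by group
          rwa [this]
      rw [h0, Subgroup.mem_bot] at h3
      apply hz1
      have : z = g⁻¹ * (g * z * g⁻¹) * g := by group
      rw [this, h3]; group

end Cfsg.Agent.H541.JM.F13
end

-- part: H541/JM/F13_mg
section

end
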